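import Mathlib

/-!
`Ext¹` from a presentation, and short exact sequences of modules as `ShortComplex`es.
-/

universe u

open CategoryTheory

namespace Groth.Curves2.ExtTools

variable {R : Type u} [CommRing R] {A B : Type u} [AddCommGroup A] [Module R A] [AddCommGroup B]
  [Module R B]

/-- The short complex `A → B → B / im i`. -/
def cokerSC (i : A →ₗ[R] B) : ShortComplex (ModuleCat.{u} R) :=
  ShortComplex.mk (ModuleCat.ofHom i) (ModuleCat.ofHom (LinearMap.range i).mkQ)
    (by ext x; exact (Submodule.Quotient.mk_eq_zero _).2 ⟨x, rfl⟩)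

lemma cokerSC_shortExact (i : A →ₗ[R] B) (hi : Function.Injective i) :
    (cokerSC i).ShortExact where
  exact := by
    rw [ShortComplex.moduleCat_exact_iff_range_eq_ker]
    exact (Submodule.ker_mkQ _).symm
  mono_f := (ModuleCat.mono_iff_injective _).2 hi
  epi_g := (ModuleCat.epi_iff_surjective _).2 (Submodule.mkQ_surjective _)

/-- For an injection into a projective with small injective dimension on the right, `Ext` vanishes. -/
lemma subsingleton_ext_of_injective_to_projective [Module.Projective R B] (i : A →ₗ[R] B)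
    (hi : Function.Injective i) (N : ModuleCat.{u} R) [HasInjectiveDimensionLT N 2]
    (n : ℕ) (hn : 1 ≤ n) : Subsingleton (Abelian.Ext (ModuleCat.of R A) N n) := by
  haveI hB : Projective (ModuleCat.of R B) := (IsProjective.iff_projective (R := R) B).1 inferInstance
  refine subsingleton_of_forall_eq 0 fun x => ?_
  obtain ⟨x₂, rfl⟩ := Abelian.Ext.contravariant_sequence_exact₁ (cokerSC_shortExact i hi) N
    (n₁ := 1 + n) x rfl (Abelian.Ext.eq_zero_of_hasInjectiveDimensionLT _ 2 (by omega))
  obtain ⟨m, rfl⟩ : ∃ m, n = m + 1 := ⟨n - 1, by omega⟩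
  haveI : Projective (cokerSC i).X₂ := hB
  rw [Abelian.Ext.eq_zero_of_projective x₂, Abelian.Ext.comp_zero]
  rfl

end Groth.Curves2.ExtTools
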