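import Mathlib

/-!
Embedding of finitely generated torsion-free modules into `K^n`.
-/

universe u

namespace Groth.Curves2.Lattice

open TensorProduct

variable {R : Type u} [CommRing R] [IsDomain R] {K : Type u} [Field K] [Algebra R K]
  [IsFractionRing R K] {M : Type u} [AddCommGroup M] [Module R M]

lemma mk_one_injective [NoZeroSMulDivisors R M] :
    Function.Injective (TensorProduct.mk R K M 1) := by
  rw [← LinearMap.ker_eq_bot, LinearMap.ker_eq_bot']
  intro m hm
  obtain ⟨s, hs⟩ := (IsLocalizedModule.eq_zero_iff (nonZeroDivisors R) _).1 hm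
  exact (smul_eq_zero.1 hs).resolve_left (nonZeroDivisors.coe_ne_zero s)

lemma exists_injective_linearMap_base [Module.Finite R M] [NoZeroSMulDivisors R M]
    (hrk : Module.finrank K (K ⊗[R] M) = 1) :
    ∃ f : M →ₗ[R] R, Function.Injective f := by
  classical
  let e₁ : K ⊗[R] M ≃ₗ[K] K := LinearEquiv.ofFinrankEq _ _ (by rw [hrk, Module.finrank_self])
  let i₁ : M →ₗ[R] K := (e₁.toLinearMap.restrictScalars R).comp (TensorProduct.mk R K M 1)
  have hi₁ : Function.Injective i₁ := e₁.injective.comp mk_one_injective
  obtain ⟨s, hs⟩ := (inferInstance : Module.Finite R M).fg_top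
  obtain ⟨b, hb⟩ := IsLocalization.exist_integer_multiples_of_finset (nonZeroDivisors R) (s.image i₁)
  have hmem : ∀ m, ((b : R) • i₁) m ∈ LinearMap.range (Algebra.linearMap R K) := by
    intro m
    have hm : m ∈ Submodule.span R (↑s : Set M) := hs ▸ Submodule.mem_top
    induction hm using Submodule.span_induction with
    | mem y hy =>
      obtain ⟨a, ha⟩ := hb (i₁ y) (Finset.mem_image_of_mem i₁ hy)
      exact ⟨a, ha⟩
    | zero => rw [map_zero]; exact zero_mem _
    | add y z _ _ hy hz => rw [map_add]; exact add_mem hy hz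
    | smul r y _ hy => rw [map_smul]; exact Submodule.smul_mem _ r hy
  have hK : Function.Injective (Algebra.linearMap R K) := IsFractionRing.injective R K
  refine ⟨(LinearEquiv.ofInjective _ hK).symm.toLinearMap.comp (((b : R) • i₁).codRestrict _ hmem),
    fun x y h => hi₁ ?_⟩
  have h' : (b : R) • i₁ x = (b : R) • i₁ y :=
    congrArg Subtype.val ((LinearEquiv.ofInjective _ hK).symm.injective h)
  have hb0 : algebraMap R K (b : R) ≠ 0 := by
    rw [← map_zero (algebraMap R K)]
    exact fun e => nonZeroDivisors.coe_ne_zero b (IsFractionRing.injective R K e)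
  rw [Algebra.smul_def, Algebra.smul_def] at h'
  exact mul_left_cancel₀ hb0 h'

end Groth.Curves2.Lattice
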