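import Mathlib
import Groth.Agent.Curves2.RankEmbed

/-!
Normal form of torsion-free modules over a one-dimensional analytically unramified local domain:
`O^n ⊆ M ⊆ Õ^n`.
-/

universe u

namespace Groth.Curves2.Lattice

open TensorProduct

/-- A module over a local ring with infinite residue field is not covered by finitely many proper
submodules. -/
lemma exists_forall_notMem {O : Type u} [CommRing O] [IsLocalRing O]
    [Infinite (IsLocalRing.ResidueField O)] {V : Type*} [AddCommGroup V] [Module O V]
    {ι : Type*} (s : Finset ι) (P : ι → Submodule O V) :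
    (∀ i ∈ s, P i ≠ ⊤) → ∃ x, ∀ i ∈ s, x ∉ P i := by
  classical
  induction s using Finset.induction_on with
  | empty => exact fun _ => ⟨0, by simp⟩
  | insert a s ha ih =>
    intro h
    obtain ⟨x, hx⟩ := ih fun i hi => h i (Finset.mem_insert_of_mem hi)
    by_cases hxa : x ∉ P a
    · exact ⟨x, by simpa [hxa] using hx⟩
    push_neg at hxa
    obtain ⟨y, hy⟩ := SetLike.exists_not_mem_of_ne_top _ (h a (Finset.mem_insert_self _ _))
    let g : IsLocalRing.ResidueField O → O := Function.surjInv IsLocalRing.residue_surjective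
    have hg : ∀ t, IsLocalRing.residue O (g t) = t :=
      Function.surjInv_eq IsLocalRing.residue_surjective
    have hbad : ∀ i ∈ insert a s, Set.Subsingleton {t | x + g t • y ∈ P i ∧ t ≠ 0} := by
      intro i hi t₁ ht₁ t₂ ht₂
      by_contra hne
      have hu : IsUnit (g t₁ - g t₂) := by
        rw [← IsLocalRing.residue_ne_zero_iff_isUnit, map_sub, hg, hg]
        exact sub_ne_zero.2 hne
      have h1 := (P i).sub_mem ht₁.1 ht₂.1
      rw [add_sub_add_left_eq_sub, ← sub_smul] at h1
      have hyi : y ∈ P i := (Submodule.smul_mem_iff_of_isUnit _ hu).1 h1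
      rcases Finset.mem_insert.1 hi with rfl | hi'
      · exact hy hyi
      · have h2 := (P i).sub_mem ht₁.1 ((P i).smul_mem (g t₁) hyi)
        rw [add_sub_cancel_right] at h2
        exact hx i hi' h2
    have hfin : (insert (0 : IsLocalRing.ResidueField O)
        (⋃ i ∈ insert a s, {t | x + g t • y ∈ P i ∧ t ≠ 0})).Finite :=
      ((Finset.finite_toSet _).biUnion fun i hi => (hbad i hi).finite).insert 0
    obtain ⟨t, ht⟩ := hfin.infinite_compl.nonempty
    refine ⟨x + g t • y, fun i hi hmem => ht ?_⟩
    by_cases h0 : t = 0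
    · exact Or.inl h0
    · exact Or.inr (Set.mem_biUnion hi ⟨hmem, h0⟩)

variable {O : Type u} [CommRing O] [IsDomain O] [IsNoetherianRing O] [IsLocalRing O]
  (K : Type u) [Field K] [Algebra O K] [IsFractionRing O K]

lemma dimensionLEOne (hdim : ringKrullDim O = 1) : Ring.DimensionLEOne O := by
  have : Ring.KrullDimLE 1 O := (Order.krullDimLE_iff ..).2 hdim.le
  exact ⟨fun {p} hp h => h.isMaximal_of_ne_bot hp⟩

instance isNoetherianRing_normalization [hfin : Module.Finite O ↥(integralClosure O K)] :
    IsNoetherianRing ↥(integralClosure O K) :=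
  isNoetherianRing_iff.2 (isNoetherian_of_tower O (isNoetherian_of_isNoetherianRing_of_finite O _))

instance isFractionRing_normalization : IsFractionRing ↥(integralClosure O K) K :=
  integralClosure.isFractionRing_of_finite_extension K K

lemma isDedekindDomain_normalization (hdim : ringKrullDim O = 1)
    [Module.Finite O ↥(integralClosure O K)] : IsDedekindDomain ↥(integralClosure O K) := by
  have := dimensionLEOne hdim
  rw [isDedekindDomain_iff _ K]
  refine ⟨inferInstance, inferInstance, inferInstance, fun {x} hx => ?_⟩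
  exact ⟨⟨x, isIntegral_trans x hx⟩, rfl⟩

lemma finite_primes_normalization (hdim : ringKrullDim O = 1)
    [Module.Finite O ↥(integralClosure O K)] :
    {I : Ideal ↥(integralClosure O K) | I.IsPrime}.Finite := by
  have := dimensionLEOne hdim
  have := isDedekindDomain_normalization K hdim
  have hm : IsLocalRing.maximalIdeal O ≠ ⊥ := by
    intro h
    have : IsField O := IsLocalRing.isField_iff_maximalIdeal_eq.2 h
    rw [ringKrullDim_eq_zero_of_isField this] at hdim
    exact zero_ne_one hdim
  obtain ⟨d, hd, hd0⟩ := (Submodule.ne_bot_iff _).1 hm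
  set d' : ↥(integralClosure O K) := algebraMap O _ d with hd'
  have hd'0 : d' ≠ 0 := by
    intro h
    apply hd0
    have h2 := congrArg (algebraMap ↥(integralClosure O K) K) h
    rw [hd', ← IsScalarTower.algebraMap_apply, map_zero] at h2
    exact IsFractionRing.injective O K (h2.trans (map_zero _).symm)
  refine ((Ideal.finite_minimalPrimes_of_isNoetherianRing _ (Ideal.span {d'})).insert ⊥).subset ?_
  intro I (hI : I.IsPrime)
  by_cases hI0 : I = ⊥
  · exact Or.inl hI0
  refine Or.inr ?_
  have hmax : I.IsMaximal := hI.isMaximal hI0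
  have hmem : d' ∈ I := by
    have := Ideal.isMaximal_comap_of_isIntegral_of_isMaximal (R := O) I
    have h1 := IsLocalRing.eq_maximalIdeal this
    rw [← h1] at hd
    exact hd
  refine ⟨⟨hI, (Ideal.span_singleton_le_iff_mem _).2 hmem⟩, fun J hJ hJI => ?_⟩
  have hJ0 : J ≠ ⊥ := fun h => hd'0 (by
    have := hJ.2 (Ideal.mem_span_singleton_self d')
    rwa [h, Ideal.mem_bot] at this)
  have := hJ.1.isMaximal hJ0
  exact (this.eq_of_le hI.ne_top hJI).ge

lemma isPrincipalIdealRing_normalization (hdim : ringKrullDim O = 1)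
    [Module.Finite O ↥(integralClosure O K)] :
    IsPrincipalIdealRing ↥(integralClosure O K) :=
  have := isDedekindDomain_normalization K hdim
  IsPrincipalIdealRing.of_finite_primes (finite_primes_normalization K hdim)

/-- Finitely many residue fields: pick elements of `P` reducing to bases everywhere. -/
lemma exists_isUnit_det {B : Type u} [CommRing B] [Algebra O B]
    [Infinite (IsLocalRing.ResidueField O)] (hmax : {I : Ideal B | I.IsMaximal}.Finite)
    {n : ℕ} (P : Submodule O (Fin n → B))
    (hP : Submodule.span B (P : Set (Fin n → B)) = ⊤) :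
    ∃ x : Fin n → (Fin n → B), (∀ i, x i ∈ P) ∧ IsUnit (Matrix.of x).det := by
  classical
  let red : ∀ I : Ideal B, (Fin n → B) →ₛₗ[Ideal.Quotient.mk I] (Fin n → B ⧸ I) := fun I =>
    { toFun := fun v i => Ideal.Quotient.mk I (v i)
      map_add' := fun v w => by funext i; simp
      map_smul' := fun r v => by funext i; simp }
  have key : ∀ m, m ≤ n → ∃ x : Fin m → (Fin n → B), (∀ i, x i ∈ P) ∧
      ∀ I : Ideal B, I.IsMaximal → LinearIndependent (B ⧸ I) (fun i => red I (x i)) := by
    intro m
    induction m with
    | zero => exact fun _ => ⟨Fin.elim0, fun i => i.elim0, fun I _ => linearIndependent_empty_type⟩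
    | succ m ih =>
      intro hm
      obtain ⟨x, hx, hli⟩ := ih (by omega)
      let W : ∀ I : Ideal B, Submodule O ↥P := fun I =>
        (((Submodule.span (B ⧸ I) (Set.range fun i => red I (x i))).comap (red I)).restrictScalars
          O).comap P.subtype
      have hW : ∀ I ∈ hmax.toFinset, W I ≠ ⊤ := by
        intro I hI htop
        have hIm : I.IsMaximal := hmax.mem_toFinset.1 hI
        let := Ideal.Quotient.field I
        have hall : Submodule.span B (P : Set (Fin n → B)) ≤
            (Submodule.span (B ⧸ I) (Set.range fun i => red I (x i))).comap (red I) :=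
          Submodule.span_le.2 fun v hv => (htop ▸ Submodule.mem_top : (⟨v, hv⟩ : ↥P) ∈ W I)
        rw [hP] at hall
        have h1 : Submodule.span (B ⧸ I) (Set.range fun i => red I (x i)) = ⊤ := by
          rw [eq_top_iff]
          rintro v -
          obtain ⟨w, rfl⟩ : ∃ w, red I w = v :=
            ⟨fun i => (Ideal.Quotient.mk_surjective (v i)).choose,
              funext fun i => (Ideal.Quotient.mk_surjective (v i)).choose_spec⟩
          exact hall Submodule.mem_top
        have h2 := finrank_span_eq_card (hli I hIm)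
        rw [h1, finrank_top, Module.finrank_fin_fun, Fintype.card_fin] at h2
        omega
      obtain ⟨v, hv⟩ := exists_forall_notMem hmax.toFinset W hW
      refine ⟨Fin.cons (v : Fin n → B) x, fun i => Fin.cases v.2 hx i, fun I hI => ?_⟩
      let := Ideal.Quotient.field I
      have : (fun i => red I (Fin.cons (α := fun _ => Fin n → B) (v : Fin n → B) x i)) =
          Fin.cons (red I v) (fun i => red I (x i)) := by
        funext i; refine Fin.cases ?_ (fun j => ?_) i <;> simp
      rw [this, linearIndependent_finCons]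
      exact ⟨hli I hI, hv I (hmax.mem_toFinset.2 hI)⟩
  obtain ⟨x, hx, hli⟩ := key n le_rfl
  refine ⟨x, hx, ?_⟩
  by_contra hu
  obtain ⟨I, hI, hdI⟩ := exists_max_ideal_of_mem_nonunits hu
  let := Ideal.Quotient.field I
  have h1 : ((Matrix.of x).map (Ideal.Quotient.mk I)).det ≠ 0 := by
    rw [← isUnit_iff_ne_zero, ← Matrix.isUnit_iff_isUnit_det,
      ← Matrix.linearIndependent_rows_iff_isUnit]
    exact hli I hI
  apply h1
  rw [← RingHom.mapMatrix_apply, ← RingHom.map_det]
  exact Ideal.Quotient.eq_zero_iff_mem.2 hdI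

/-- `M` embeds in `Õ^n` so that its image contains the standard basis. -/
lemma exists_normal_form (hdim : ringKrullDim O = 1) [Infinite (IsLocalRing.ResidueField O)]
    [Module.Finite O ↥(integralClosure O K)]
    (M : Type u) [AddCommGroup M] [Module O M] [Module.Finite O M] [NoZeroSMulDivisors O M]
    (n : ℕ) (hn : Module.finrank K (K ⊗[O] M) = n) :
    ∃ j : M →ₗ[O] (Fin n → ↥(integralClosure O K)), Function.Injective j ∧
      ∀ i, Pi.single i 1 ∈ LinearMap.range j := by
  classical
  set B := ↥(integralClosure O K)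
  have := isPrincipalIdealRing_normalization K hdim
  let e₁ : K ⊗[O] M ≃ₗ[K] (Fin n → K) := LinearEquiv.ofFinrankEq _ _ (by rw [hn]; simp)
  let ι : M →ₗ[O] (Fin n → K) := (e₁.toLinearMap.restrictScalars O).comp (TensorProduct.mk O K M 1)
  have hι : Function.Injective ι := e₁.injective.comp mk_one_injective
  have hspanK : Submodule.span K (Set.range ι) = ⊤ := by
    rw [eq_top_iff]
    rintro v -
    obtain ⟨z, rfl⟩ := e₁.surjective v
    induction z using TensorProduct.induction_on with
    | zero => simp
    | tmul a m =>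
      have : e₁ (a ⊗ₜ[O] m) = a • ι m := by
        change _ = a • e₁ ((1 : K) ⊗ₜ[O] m)
        rw [← map_smul, TensorProduct.smul_tmul', smul_eq_mul, mul_one]
      rw [this]
      exact Submodule.smul_mem _ _ (Submodule.subset_span ⟨m, rfl⟩)
    | add a b ha hb => rw [map_add]; exact add_mem ha hb
  set L : Submodule B (Fin n → K) := Submodule.span B (Set.range ι) with hL
  have hLfg : L.FG := by
    obtain ⟨s, hs⟩ := (inferInstance : Module.Finite O M).fg_top
    refine ⟨s.image ι, le_antisymm (Submodule.span_mono (by simp [Set.image_subset_range])) ?_⟩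
    rw [hL, Submodule.span_le]
    rintro _ ⟨m, rfl⟩
    have hm : m ∈ Submodule.span O (↑s : Set M) := hs ▸ Submodule.mem_top
    have h1 := Submodule.mem_map_of_mem (f := ι) hm
    rw [Submodule.map_span, ← Finset.coe_image] at h1
    exact Submodule.span_subset_span O B _ h1
  have : Module.Finite B ↥L := Module.Finite.iff_fg.2 hLfg
  obtain ⟨r, ⟨c⟩⟩ : ∃ r, Nonempty (Module.Basis (Fin r) B ↥L) :=
    ⟨_, ⟨Module.finBasis B ↥L⟩⟩
  have hliK : LinearIndependent K (fun i => ((c i : ↥L) : Fin n → K)) := by
    rw [← LinearIndependent.iff_fractionRing (R := B)]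
    exact c.linearIndependent.map' L.subtype (Submodule.ker_subtype L)
  have hspanc : Submodule.span K (Set.range fun i => ((c i : ↥L) : Fin n → K)) = ⊤ := by
    rw [eq_top_iff, ← hspanK, Submodule.span_le]
    rintro _ ⟨m, rfl⟩
    have hm : ι m ∈ L := Submodule.subset_span ⟨m, rfl⟩
    have h1 := congrArg L.subtype (c.sum_repr ⟨ι m, hm⟩)
    rw [map_sum] at h1
    rw [show (ι m) = _ from h1.symm]
    refine Submodule.sum_mem _ fun i _ => ?_
    rw [map_smul, ← algebraMap_smul K]
    exact Submodule.smul_mem _ _ (Submodule.subset_span ⟨i, rfl⟩)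
  obtain rfl : r = n := by
    have := Module.finrank_eq_card_basis (Module.Basis.mk hliK hspanc.ge)
    simpa using this.symm
  let j₀ : M →ₗ[O] (Fin r → B) :=
    (c.equivFun.toLinearMap.restrictScalars O).comp
      (ι.codRestrict (L.restrictScalars O) fun m => Submodule.subset_span ⟨m, rfl⟩)
  have hj₀ : Function.Injective j₀ := fun a b h => hι (congrArg Subtype.val (c.equivFun.injective h))
  have hspanB : Submodule.span B (LinearMap.range j₀ : Set (Fin r → B)) = ⊤ := by
    rw [eq_top_iff]
    rintro v -
    obtain ⟨w, rfl⟩ := c.equivFun.surjective v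
    have : Submodule.map c.equivFun.toLinearMap (Submodule.comap L.subtype L) ≤
        Submodule.span B (LinearMap.range j₀ : Set (Fin r → B)) := by
      rintro _ ⟨⟨w, hw⟩, -, rfl⟩
      induction hw using Submodule.span_induction with
      | mem y hy =>
        obtain ⟨m, rfl⟩ := hy
        exact Submodule.subset_span ⟨m, rfl⟩
      | zero => exact (map_zero c.equivFun.toLinearMap).symm ▸ zero_mem _
      | add a b ha hb iha ihb =>
        have h := add_mem iha ihb
        rw [← map_add] at h
        exact h
      | smul a b hb ihb =>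
        have h := Submodule.smul_mem _ a ihb
        rw [← map_smul] at h
        exact h
    exact this ⟨w, w.2, rfl⟩
  obtain ⟨x, hx, hdet⟩ := exists_isUnit_det (O := O)
    ((finite_primes_normalization K hdim).subset fun I hI => hI.isPrime) (LinearMap.range j₀) hspanB
  have hX : IsUnit (Matrix.of x) := (Matrix.isUnit_iff_isUnit_det _).2 hdet
  obtain ⟨X, hXeq⟩ := hX
  let T : (Fin r → B) →ₗ[B] (Fin r → B) := Matrix.vecMulLinear (↑X⁻¹ : Matrix (Fin r) (Fin r) B)
  refine ⟨(T.restrictScalars O).comp j₀, ?_, fun i => ?_⟩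
  · refine Function.Injective.comp (g := T) ?_ hj₀
    intro a b h
    have h' := congrArg (fun v => Matrix.vecMul v (↑X : Matrix (Fin r) (Fin r) B)) h
    simpa [T, Matrix.vecMul_vecMul] using h'
  · obtain ⟨m, hm⟩ := hx i
    refine ⟨m, ?_⟩
    rw [LinearMap.comp_apply, hm]
    change Matrix.vecMul (x i) _ = _
    have : x i = Matrix.vecMul (Pi.single i 1) (↑X : Matrix (Fin r) (Fin r) B) := by
      rw [Matrix.single_one_vecMul, hXeq]; rfl
    rw [this, Matrix.vecMul_vecMul, Units.mul_inv, Matrix.vecMul_one]

/-- Lengths of `N/xN` for commensurable torsion-free lattices. -/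
lemma length_quotient_smul_eq {R : Type u} [CommRing R] {V : Type u} [AddCommGroup V] [Module R V]
    (N : Submodule R V) (x : R) (hx : Function.Injective (LinearMap.lsmul R V x))
    (hfin : Module.length R (V ⧸ N) ≠ ⊤) :
    Module.length R (↥N ⧸ LinearMap.range (LinearMap.lsmul R ↥N x)) =
      Module.length R (V ⧸ LinearMap.range (LinearMap.lsmul R V x)) := by
  let xN : Submodule R V := N.map (LinearMap.lsmul R V x)
  let xV : Submodule R V := LinearMap.range (LinearMap.lsmul R V x)
  have hxN : xN ≤ N := by
    rintro _ ⟨v, hv, rfl⟩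
    exact N.smul_mem x hv
  have hxV : xN ≤ xV := LinearMap.map_le_range
  have hcomap : LinearMap.range (LinearMap.lsmul R ↥N x) = xN.comap N.subtype := by
    ext v
    constructor
    · rintro ⟨w, rfl⟩; exact ⟨w, w.2, rfl⟩
    · rintro ⟨w, hw, hwv⟩; exact ⟨⟨w, hw⟩, Subtype.ext hwv⟩
  let f₁ : (↥N ⧸ LinearMap.range (LinearMap.lsmul R ↥N x)) →ₗ[R] V ⧸ xN :=
    Submodule.mapQ _ _ N.subtype hcomap.le
  have hf₁ : Function.Injective f₁ := by
    rw [← LinearMap.ker_eq_bot, Submodule.ker_mapQ, ← hcomap, Submodule.mkQ_map_self]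
  have hker : ∀ (Q : Submodule R V) (h : xN ≤ Q),
      LinearMap.ker (Submodule.factor h) = Q.map xN.mkQ := by
    intro Q h
    rw [Submodule.ker_mapQ, Submodule.comap_id]
  have h1 := Module.length_eq_add_of_exact f₁ (Submodule.factor hxN) hf₁
    (Submodule.factor_surjective hxN) (by
      rw [LinearMap.exact_iff, Submodule.range_mapQ, hker, Submodule.range_subtype])
  let f₂ : (V ⧸ N) →ₗ[R] V ⧸ xN :=
    Submodule.mapQ N xN (LinearMap.lsmul R V x) (Submodule.le_comap_map _ _)
  have hf₂ : Function.Injective f₂ := by
    rw [← LinearMap.ker_eq_bot, Submodule.ker_mapQ, Submodule.comap_map_eq_of_injective hx,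
      Submodule.mkQ_map_self]
  have h2 := Module.length_eq_add_of_exact f₂ (Submodule.factor hxV) hf₂
    (Submodule.factor_surjective hxV) (by
      rw [LinearMap.exact_iff, Submodule.range_mapQ, hker])
  rw [h1, add_comm] at h2
  exact (ENat.addLECancellable_of_ne_top hfin).inj.1 h2

/-- A finitely generated torsion module over a one-dimensional local domain has finite length. -/
lemma length_ne_top_of_smul_eq_zero (hdim : ringKrullDim O = 1)
    {T : Type u} [AddCommGroup T] [Module O T] [Module.Finite O T] {d : O} (hd : d ≠ 0)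
    (hT : ∀ t : T, d • t = 0) : Module.length O T ≠ ⊤ := by
  have : Ring.KrullDimLE 1 O := (Order.krullDimLE_iff ..).2 hdim.le
  have hfl := isFiniteLength_quotient_span_singleton O (mem_nonZeroDivisors_iff_ne_zero.2 hd)
  obtain ⟨m, f, hf⟩ := Module.Finite.exists_fin' O T
  let g : (Fin m → O ⧸ Ideal.span {d}) →ₗ[O] T :=
    LinearMap.lsum O (fun _ => O ⧸ Ideal.span {d}) O fun i =>
      Submodule.liftQ _ (LinearMap.toSpanSingleton O T (f (Pi.single i 1))) (by
        rw [Ideal.span, Submodule.span_le]
        rintro _ rfl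
        exact hT _)
  have hg : Function.Surjective g := by
    intro t
    obtain ⟨v, rfl⟩ := hf t
    refine ⟨fun i => Ideal.Quotient.mk _ (v i), ?_⟩
    have : v = ∑ i, v i • (Pi.single i (1 : O) : Fin m → O) := pi_eq_sum_univ' v
    conv_rhs => rw [this, map_sum]
    simp only [g, LinearMap.lsum_apply, LinearMap.sum_apply, LinearMap.comp_apply,
      LinearMap.proj_apply, ← Ideal.Quotient.mk_eq_mk, Submodule.liftQ_apply,
      LinearMap.toSpanSingleton_apply, map_smul]
  refine ne_top_of_le_ne_top ?_ (Module.length_le_of_surjective g hg)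
  rw [Module.length_pi_of_fintype]
  exact WithTop.sum_ne_top.2 fun i _ => Module.length_ne_top_iff.2 hfl

end Groth.Curves2.Lattice
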