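import Mathlib
import Groth.Agent.Calg3.DualTF
import Groth.Agent.Curves2.ExtTools
import Groth.Agent.Curves2.Lattice

/-!
Duality of torsion-free modules with values in a canonical ideal of a one-dimensional local domain.
-/

universe u

open CategoryTheory Module

namespace Groth.Curves2.Canonical

variable {O : Type u} [CommRing O] [IsDomain O] [IsNoetherianRing O] [IsLocalRing O]

/-- A canonical ideal, as an abstract module. -/
structure IsCanonical (O : Type u) [CommRing O] (W : Type u) [AddCommGroup W] [Module O W] :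
    Prop where
  finite : Module.Finite O W
  exists_embedding : ∃ j : W →ₗ[O] O, Function.Injective j
  ne_zero : Nontrivial W
  injDim : HasInjectiveDimensionLT (ModuleCat.of O W) 2

variable {W : Type u} [AddCommGroup W] [Module O W]

lemma IsCanonical.torsionFree (hW : IsCanonical O W) : Module.IsTorsionFree O W :=
  have ⟨_, hj⟩ := hW.exists_embedding
  Groth.Calg3.isTorsionFree_of_injective _ hj

/-- A finitely generated non-zero submodule of `K` of injective dimension at most one. -/
lemma isCanonical_of_submodule (K : Type u) [Field K] [Algebra O K] [IsFractionRing O K]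
    (ω : Submodule O K) (hω0 : ω ≠ ⊥) (hωfg : ω.FG)
    (hωinj : HasInjectiveDimensionLT (ModuleCat.of O ↥ω) 2) : IsCanonical O ↥ω := by
  classical
  refine ⟨Module.Finite.iff_fg.2 hωfg, ?_, Submodule.nontrivial_iff_ne_bot.2 hω0, hωinj⟩
  obtain ⟨s, rfl⟩ := hωfg
  obtain ⟨b, hb⟩ := IsLocalization.exist_integer_multiples_of_finset (nonZeroDivisors O) s
  have hmem : ∀ x : ↥(Submodule.span O (↑s : Set K)),
      ((b : O) • (Submodule.span O (↑s : Set K)).subtype) x ∈
        LinearMap.range (Algebra.linearMap O K) := by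
    rintro ⟨x, hx⟩
    change (b : O) • x ∈ LinearMap.range (Algebra.linearMap O K)
    induction hx using Submodule.span_induction with
    | mem y hy => obtain ⟨a, ha⟩ := hb y hy; exact ⟨a, ha⟩
    | zero => rw [smul_zero]; exact zero_mem _
    | add y z _ _ hy hz => rw [smul_add]; exact add_mem hy hz
    | smul r y _ hy => rw [smul_comm]; exact Submodule.smul_mem _ r hy
  have hK : Function.Injective (Algebra.linearMap O K) := IsFractionRing.injective O K
  refine ⟨(LinearEquiv.ofInjective _ hK).symm.toLinearMap.comp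
    (LinearMap.codRestrict _ _ hmem), fun x y h => Subtype.ext ?_⟩
  have h' : (b : O) • (x : K) = (b : O) • (y : K) :=
    congrArg Subtype.val ((LinearEquiv.ofInjective _ hK).symm.injective h)
  rw [Algebra.smul_def, Algebra.smul_def] at h'
  exact mul_left_cancel₀
    (fun e => nonZeroDivisors.coe_ne_zero b (hK (e.trans (map_zero _).symm))) h'

section Extension

variable {M F : Type u} [AddCommGroup M] [Module O M] [AddCommGroup F] [Module O F]

lemma subsingleton_ext (hW : IsCanonical O W) [Module.Finite O M] [Module.IsTorsionFree O M]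
    (n : ℕ) (hn : 1 ≤ n) :
    Subsingleton (Abelian.Ext (ModuleCat.of O M) (ModuleCat.of O W) n) := by
  haveI := hW.injDim
  obtain ⟨f, hf⟩ := Groth.Calg3.exists_injective_of_torsionFree O M
  exact Groth.Curves2.ExtTools.subsingleton_ext_of_injective_to_projective f hf _ n hn

/-- Maps into a canonical module extend along injections with torsion-free cokernel. -/
lemma exists_extension (hW : IsCanonical O W) {A : Type u} [AddCommGroup A] [Module O A]
    [Module.Finite O M] [Module.IsTorsionFree O M] {i : A →ₗ[O] F} {p : F →ₗ[O] M}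
    (hi : Function.Injective i) (hp : Function.Surjective p) (hex : Function.Exact i p)
    (h : A →ₗ[O] W) : ∃ H : F →ₗ[O] W, H.comp i = h := by
  let S : ShortComplex (ModuleCat.{u} O) := ShortComplex.mk (ModuleCat.ofHom i) (ModuleCat.ofHom p)
    (by ext x; exact hex.apply_apply_eq_zero x)
  have hS : S.ShortExact :=
    { mono_f := (ModuleCat.mono_iff_injective _).2 hi
      epi_g := (ModuleCat.epi_iff_surjective _).2 hp
      exact := (ShortComplex.moduleCat_exact_iff _).2 fun x hx => (hex x).1 hx }
  have := subsingleton_ext hW (M := M) 1 le_rfl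
  obtain ⟨x₂, hx₂⟩ := Abelian.Ext.contravariant_sequence_exact₁ hS (ModuleCat.of O W)
    (Abelian.Ext.mk₀ (ModuleCat.ofHom h)) (n₁ := 1) rfl
    (@Subsingleton.elim (Abelian.Ext S.X₃ (ModuleCat.of O W) 1) this _ _)
  obtain ⟨H, rfl⟩ : ∃ H, Abelian.Ext.mk₀ H = x₂ :=
    ⟨_, Abelian.Ext.mk₀_addEquiv₀_apply x₂⟩
  rw [Abelian.Ext.mk₀_comp_mk₀] at hx₂
  refine ⟨H.hom, ?_⟩
  have h2 := (Abelian.Ext.mk₀_bijective _ _).1 hx₂
  exact congrArg ModuleCat.Hom.hom h2

end Extension

section DualLength

variable {A B : Type u} [AddCommGroup A] [Module O A] [AddCommGroup B] [Module O B]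

variable (W) in
/-- Restriction of `W`-valued forms. -/
noncomputable abbrev restr (i : A →ₗ[O] B) : (B →ₗ[O] W) →ₗ[O] (A →ₗ[O] W) := i.lcomp O W

lemma exists_ne_zero_smul_mem [Module.Finite O B] (P : Submodule O B)
    (h : Module.length O (B ⧸ P) ≠ ⊤) (hdim : ringKrullDim O = 1) (b : B) :
    ∃ d : O, d ≠ 0 ∧ d • b ∈ P := by
  by_contra hall
  push_neg at hall
  have hinj : Function.Injective (LinearMap.toSpanSingleton O (B ⧸ P) (Submodule.Quotient.mk b)) := by
    rw [← LinearMap.ker_eq_bot, LinearMap.ker_eq_bot']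
    intro d hd
    by_contra hd0
    exact hall d hd0 ((Submodule.Quotient.mk_eq_zero P).1 (by simpa using hd))
  have hO : Module.length O O ≠ ⊤ :=
    ne_top_of_le_ne_top h (Module.length_le_of_injective _ hinj)
  rw [Module.length_ne_top_iff, isFiniteLength_iff_isNoetherian_isArtinian] at hO
  haveI : IsArtinianRing O := hO.2
  have h0 : ringKrullDim O ≤ 0 := by simpa [ringKrullDim] using (Order.KrullDimLE.krullDim_le (n := 0) (α := PrimeSpectrum O))
  rw [hdim] at h0
  exact absurd h0 (by norm_num)

lemma restr_injective (hW : IsCanonical O W) (hdim : ringKrullDim O = 1) [Module.Finite O B]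
    (i : A →ₗ[O] B) (h : Module.length O (B ⧸ LinearMap.range i) ≠ ⊤) :
    Function.Injective (restr W i) := by
  haveI := hW.torsionFree
  intro f g hfg
  ext b
  obtain ⟨d, hd, a, ha⟩ := exists_ne_zero_smul_mem _ h hdim b
  refine smul_right_injective W hd ?_
  change d • f b = d • g b
  rw [← map_smul, ← map_smul, ← ha]
  exact LinearMap.congr_fun hfg a

variable (W) in
/-- The cokernel of `Hom(B, W) → Hom(A, W)`. -/
abbrev Dco (i : A →ₗ[O] B) : Type u := (A →ₗ[O] W) ⧸ LinearMap.range (restr W i)

lemma length_dco_comp (hW : IsCanonical O W) (hdim : ringKrullDim O = 1) {P : Type u}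
    [AddCommGroup P] [Module O P] [Module.Finite O P]
    (i : A →ₗ[O] P) (j : P →ₗ[O] B)
    (hi : Module.length O (P ⧸ LinearMap.range i) ≠ ⊤) :
    Module.length O (Dco W (j.comp i)) = Module.length O (Dco W j) + Module.length O (Dco W i) := by
  let f : Dco W j →ₗ[O] Dco W (j.comp i) :=
    Submodule.mapQ _ _ (restr W i) (by rintro _ ⟨g, rfl⟩; exact ⟨g, rfl⟩)
  have hf : Function.Injective f := by
    rw [← LinearMap.ker_eq_bot, Submodule.ker_mapQ]
    have : (LinearMap.range (restr W (j.comp i))).comap (restr W i) = LinearMap.range (restr W j) := by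
      ext g
      constructor
      · rintro ⟨g', hg'⟩
        exact ⟨g', restr_injective hW hdim i hi hg'⟩
      · rintro ⟨g', rfl⟩
        exact ⟨g', rfl⟩
    rw [this, Submodule.mkQ_map_self]
  have hle : LinearMap.range (restr W (j.comp i)) ≤ LinearMap.range (restr W i) := by
    rintro _ ⟨g, rfl⟩; exact ⟨g.comp j, rfl⟩
  refine Module.length_eq_add_of_exact f (Submodule.factor hle) hf (Submodule.factor_surjective hle) ?_
  rw [LinearMap.exact_iff, Submodule.range_mapQ, Submodule.ker_mapQ, Submodule.comap_id]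

lemma dco_subsingleton_of_bijective (i : A →ₗ[O] B) (hi : Function.Bijective i) :
    Module.length O (Dco W i) = 0 := by
  rw [Module.length_eq_zero_iff, Submodule.Quotient.subsingleton_iff, eq_top_iff]
  intro f _
  exact ⟨f.comp (LinearEquiv.ofBijective i hi).symm.toLinearMap,
    LinearMap.ext fun a => congrArg f ((LinearEquiv.ofBijective i hi).symm_apply_apply a)⟩

/-- A colength-one submodule has the same dual cokernel as `m ⊆ O`. -/
lemma length_dco_coatom (hW : IsCanonical O W) [Module.Finite O B] [Module.IsTorsionFree O B]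
    (P : Submodule O B) (hP : IsCoatom P) :
    Module.length O (Dco W P.subtype) =
      Module.length O (Dco W (IsLocalRing.maximalIdeal O).subtype) := by
  obtain ⟨b, hb⟩ := SetLike.exists_not_mem_of_ne_top P hP.1
  let π : O →ₗ[O] B := LinearMap.toSpanSingleton O B b
  have hm : P.comap π = IsLocalRing.maximalIdeal O := by
    haveI : IsSimpleModule O (B ⧸ P) := isSimpleModule_iff_isCoatom.2 hP
    let q : O →ₗ[O] B ⧸ P := P.mkQ.comp π
    have hq0 : q ≠ 0 := fun h => hb ((Submodule.Quotient.mk_eq_zero P).1 (by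
      simpa [q, π] using LinearMap.congr_fun h 1))
    have hsurj : Function.Surjective q :=
      LinearMap.range_eq_top.1 ((IsSimpleOrder.eq_bot_or_eq_top _).resolve_left
        (fun h => hq0 (LinearMap.range_eq_bot.1 h)))
    have hker : LinearMap.ker q = P.comap π := by
      rw [LinearMap.ker_comp, Submodule.ker_mkQ]
    haveI : IsSimpleModule O (O ⧸ P.comap π) :=
      IsSimpleModule.congr ((Submodule.quotEquivOfEq _ _ hker.symm).trans
        (q.quotKerEquivOfSurjective hsurj))
    exact IsLocalRing.eq_maximalIdeal ⟨isSimpleModule_iff_isCoatom.1 ‹_›⟩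
  let π' : ↥(IsLocalRing.maximalIdeal O) →ₗ[O] ↥P :=
    LinearMap.codRestrict P (π.comp (IsLocalRing.maximalIdeal O).subtype) fun t => by
      have : (t : O) ∈ P.comap π := (SetLike.ext_iff.1 hm (t : O)).2 t.2
      exact this
  let f : Dco W P.subtype →ₗ[O] Dco W (IsLocalRing.maximalIdeal O).subtype :=
    Submodule.mapQ _ _ (restr W π') (by rintro _ ⟨g, rfl⟩; exact ⟨g.comp π, rfl⟩)
  -- the presentation `m → P × O → B`
  let ι : ↥(IsLocalRing.maximalIdeal O) →ₗ[O] ↥P × O :=
    π'.prod (-(IsLocalRing.maximalIdeal O).subtype)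
  let p : ↥P × O →ₗ[O] B := P.subtype.coprod π
  have hι : Function.Injective ι := fun a c h => by
    have := congrArg Prod.snd h
    exact Subtype.ext (neg_injective this)
  have hp : Function.Surjective p := by
    rw [← LinearMap.range_eq_top, LinearMap.range_coprod, Submodule.range_subtype]
    refine hP.2 _ (lt_of_le_of_ne le_sup_left fun h => hb ?_)
    rw [h]
    exact Submodule.mem_sup_right ⟨1, one_smul _ _⟩
  have hex : Function.Exact ι p := by
    rintro ⟨a, t⟩
    constructor
    · intro h0
      have h0' : (a : B) + t • b = 0 := h0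
      have ht : t ∈ IsLocalRing.maximalIdeal O := by
        rw [← hm]
        change t • b ∈ P
        rw [← neg_eq_of_add_eq_zero_right h0']
        exact P.neg_mem a.2
      refine ⟨-⟨t, ht⟩, Prod.ext (Subtype.ext ?_) ?_⟩
      · change (-t) • b = (a : B)
        rw [neg_smul]; exact (eq_neg_of_add_eq_zero_left h0').symm
      · exact neg_neg t
    · rintro ⟨s, hs⟩
      rw [← hs]
      change ((s : O) • b) + (-(s : O)) • b = 0
      rw [neg_smul, add_neg_cancel]
  refine LinearEquiv.length_eq (LinearEquiv.ofBijective f ⟨?_, ?_⟩)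
  · rw [← LinearMap.ker_eq_bot, LinearMap.ker_eq_bot']
    intro x hx
    obtain ⟨g, rfl⟩ := Submodule.Quotient.mk_surjective _ x
    obtain ⟨w, hw⟩ := (Submodule.Quotient.mk_eq_zero _).1 hx
    -- `g` and `w` glue on `B`
    let G : ↥P × O →ₗ[O] W := g.coprod w
    have hG : LinearMap.ker p ≤ LinearMap.ker G := by
      intro z hz
      obtain ⟨s, rfl⟩ := (hex z).1 hz
      have := LinearMap.congr_fun hw s
      change w (s : O) = g (π' s) at this
      change g (π' s) + w (-(s : O)) = 0
      rw [map_neg, this, add_neg_cancel]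
    refine (Submodule.Quotient.mk_eq_zero _).2
      ⟨((LinearMap.ker p).liftQ G hG).comp (p.quotKerEquivOfSurjective hp).symm.toLinearMap, ?_⟩
    ext a
    have hpa : (p.quotKerEquivOfSurjective hp).symm (a : B) = Submodule.Quotient.mk (a, 0) := by
      rw [LinearEquiv.symm_apply_eq]
      change (a : B) = (a : B) + (0 : O) • b
      rw [zero_smul, add_zero]
    change ((LinearMap.ker p).liftQ G hG) ((p.quotKerEquivOfSurjective hp).symm (a : B)) = g a
    rw [hpa]
    change g a + w 0 = g a
    rw [map_zero, add_zero]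
  · intro x
    obtain ⟨h, rfl⟩ := Submodule.Quotient.mk_surjective _ x
    obtain ⟨H, hH⟩ := exists_extension hW hι hp hex h
    refine ⟨Submodule.Quotient.mk (H.comp (LinearMap.inl O ↥P O)), ?_⟩
    refine (Submodule.Quotient.eq _).2 ⟨H.comp (LinearMap.inr O ↥P O), ?_⟩
    ext s
    have := LinearMap.congr_fun hH s
    change H (π' s, -(s : O)) = h s at this
    change H (0, (s : O)) = H (π' s, 0) - h s
    rw [← this, ← map_sub]
    congr 1
    simp

lemma length_dco_eq_mul (hW : IsCanonical O W) (hdim : ringKrullDim O = 1) :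
    ∀ (n : ℕ) {A B : Type u} [AddCommGroup A] [Module O A] [AddCommGroup B] [Module O B]
      [Module.Finite O B] [Module.IsTorsionFree O B] (i : A →ₗ[O] B), Function.Injective i →
      Module.length O (B ⧸ LinearMap.range i) = n →
      Module.length O (Dco W i) =
        (n : ℕ∞) * Module.length O (Dco W (IsLocalRing.maximalIdeal O).subtype) := by
  intro n
  induction n with
  | zero =>
    intro A B _ _ _ _ _ _ i hi h
    rw [Nat.cast_zero, Module.length_eq_zero_iff, Submodule.Quotient.subsingleton_iff] at h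
    rw [dco_subsingleton_of_bijective i ⟨hi, LinearMap.range_eq_top.1 h⟩, Nat.cast_zero, zero_mul]
  | succ n ih =>
    intro A B _ _ _ _ _ _ i hi h
    obtain htop | ⟨P, hP, hle⟩ := IsCoatomic.eq_top_or_exists_le_coatom (LinearMap.range i)
    · rw [Module.length_eq_zero_iff.2 (Submodule.Quotient.subsingleton_iff.2 htop)] at h
      exact absurd h.symm (by exact_mod_cast Nat.succ_ne_zero n)
    let i' : A →ₗ[O] ↥P := i.codRestrict P fun a => hle ⟨a, rfl⟩
    haveI : IsSimpleModule O (B ⧸ P) := isSimpleModule_iff_isCoatom.2 hP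
    let f : (↥P ⧸ LinearMap.range i') →ₗ[O] B ⧸ LinearMap.range i :=
      Submodule.mapQ _ _ P.subtype (by rintro _ ⟨a, rfl⟩; exact ⟨a, rfl⟩)
    have hf : Function.Injective f := by
      rw [← LinearMap.ker_eq_bot, Submodule.ker_mapQ]
      have : (LinearMap.range i).comap P.subtype = LinearMap.range i' := by
        ext x
        exact ⟨fun ⟨a, ha⟩ => ⟨a, Subtype.ext ha⟩, fun ⟨a, ha⟩ => ⟨a, congrArg Subtype.val ha⟩⟩
      rw [this, Submodule.mkQ_map_self]
    have hsum := Module.length_eq_add_of_exact f (Submodule.factor hle) hf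
      (Submodule.factor_surjective hle) (by
        rw [LinearMap.exact_iff, Submodule.range_mapQ, Submodule.ker_mapQ, Submodule.comap_id,
          Submodule.range_subtype])
    rw [h, Module.length_eq_one O (B ⧸ P), Nat.cast_succ] at hsum
    have hP' : Module.length O (↥P ⧸ LinearMap.range i') = n :=
      ((ENat.addLECancellable_of_ne_top ENat.one_ne_top).inj_left.1 hsum).symm
    have hcomp : i = P.subtype.comp i' := rfl
    rw [hcomp, length_dco_comp hW hdim i' P.subtype (by rw [hP']; exact ENat.coe_ne_top n),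
      length_dco_coatom hW P hP, ih i' (fun a c hac => hi (congrArg Subtype.val hac)) hP',
      Nat.cast_succ, add_mul, one_mul, add_comm]

/-- `W ≅ Hom(O, W)`. -/
lemma length_dco_max (hW : IsCanonical O W) (hdim : ringKrullDim O = 1) :
    Module.length O (Dco W (IsLocalRing.maximalIdeal O).subtype) = 1 := by
  haveI := hW.torsionFree
  haveI := hW.finite
  obtain ⟨x, hxm, hx0⟩ : ∃ x ∈ IsLocalRing.maximalIdeal O, x ≠ 0 := by
    refine (Submodule.ne_bot_iff _).1 fun h => ?_
    rw [ringKrullDim_eq_zero_of_isField (IsLocalRing.isField_iff_maximalIdeal_eq.2 h)] at hdim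
    exact zero_ne_one hdim
  have hinjx : Function.Injective (LinearMap.lsmul O O x) := fun a c h => mul_left_cancel₀ hx0 h
  have hfin : Module.length O (O ⧸ LinearMap.range (LinearMap.lsmul O O x)) ≠ ⊤ := by
    refine Groth.Curves2.Lattice.length_ne_top_of_smul_eq_zero hdim hx0 fun t => ?_
    obtain ⟨a, rfl⟩ := Submodule.Quotient.mk_surjective _ t
    exact (Submodule.Quotient.mk_eq_zero _).2 ⟨a, rfl⟩
  obtain ⟨L, hL⟩ := ENat.ne_top_iff_exists.1 hfin
  have hL0 : L ≠ 0 := by
    rintro rfl
    rw [Nat.cast_zero, eq_comm, Module.length_eq_zero_iff, Submodule.Quotient.subsingleton_iff] at hL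
    obtain ⟨y, hy⟩ := (hL ▸ Submodule.mem_top : (1 : O) ∈ LinearMap.range (LinearMap.lsmul O O x))
    exact (IsLocalRing.mem_maximalIdeal _).1 hxm (IsUnit.of_mul_eq_one y hy)
  have h1 := length_dco_eq_mul hW hdim L (LinearMap.lsmul O O x) hinjx hL.symm
  -- identify the left side with `W / xW`
  have h2 : Module.length O (Dco W (LinearMap.lsmul O O x)) =
      Module.length O (W ⧸ LinearMap.range (LinearMap.lsmul O W x)) := by
    refine LinearEquiv.length_eq (Submodule.Quotient.equiv _ _ (LinearMap.ringLmapEquivSelf O O W) ?_)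
    ext w
    constructor
    · rintro ⟨_, ⟨g, rfl⟩, rfl⟩
      refine ⟨g 1, ?_⟩
      change x • g 1 = g (x • (1 : O))
      rw [map_smul]
    · rintro ⟨v, rfl⟩
      refine ⟨_, ⟨(LinearMap.ringLmapEquivSelf O O W).symm v, rfl⟩, ?_⟩
      simp
  obtain ⟨j, hj⟩ := hW.exists_embedding
  have hI : Module.length O (W ⧸ LinearMap.range (LinearMap.lsmul O W x)) = L := by
    let e := LinearEquiv.ofInjective j hj
    have hne : LinearMap.range j ≠ ⊥ := fun h => by
      haveI := hW.ne_zero
      obtain ⟨w, hw⟩ := exists_ne (0 : W)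
      exact hw (hj (by rw [LinearMap.range_eq_bot.1 h]; rfl))
    obtain ⟨d, hd, hd0⟩ := (Submodule.ne_bot_iff _).1 hne
    rw [hL, ← Groth.Curves2.Lattice.length_quotient_smul_eq (LinearMap.range j) x hinjx
      (Groth.Curves2.Lattice.length_ne_top_of_smul_eq_zero hdim hd0 fun t => by
        obtain ⟨a, rfl⟩ := Submodule.Quotient.mk_surjective _ t
        refine (Submodule.Quotient.mk_eq_zero _).2 ?_
        change d * a ∈ _
        rw [mul_comm]
        exact Submodule.smul_mem _ a hd)]
    refine LinearEquiv.length_eq (Submodule.Quotient.equiv _ _ e ?_)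
    ext v
    constructor
    · rintro ⟨_, ⟨w, rfl⟩, rfl⟩
      exact ⟨e w, (map_smul e x w).symm⟩
    · rintro ⟨w, rfl⟩
      exact ⟨x • e.symm w, ⟨e.symm w, rfl⟩, by simp⟩
  rw [h2, hI] at h1
  generalize Module.length O (Dco W (IsLocalRing.maximalIdeal O).subtype) = r at h1 ⊢
  induction r using ENat.recTopCoe with
  | top => rw [ENat.mul_top (by exact_mod_cast hL0)] at h1; exact absurd h1 (ENat.coe_ne_top L)
  | coe k =>
    have : L = L * k := by exact_mod_cast h1
    have : k = 1 := (Nat.mul_eq_left hL0).1 this.symm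
    rw [this, Nat.cast_one]

/-- The duality preserves finite colengths. -/
theorem length_dco (hW : IsCanonical O W) (hdim : ringKrullDim O = 1) [Module.Finite O B]
    [Module.IsTorsionFree O B] (i : A →ₗ[O] B) (hi : Function.Injective i)
    (h : Module.length O (B ⧸ LinearMap.range i) ≠ ⊤) :
    Module.length O (Dco W i) = Module.length O (B ⧸ LinearMap.range i) := by
  obtain ⟨n, hn⟩ := ENat.ne_top_iff_exists.1 h
  rw [length_dco_eq_mul hW hdim n i hi hn.symm, length_dco_max hW hdim, mul_one, hn]

end DualLength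

end Groth.Curves2.Canonical
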