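import Groth.Agent.Curves2.Lattice

/-!
Moving a lattice between `C^n` and `O^n` to one of colength `n δ` in `Õ^n`.
-/

universe u

open Module

namespace Groth.Curves2.Colength

variable {O : Type u} [CommRing O]

/-- Lengths of quotients add along `P ≤ Q`. -/
lemma length_quot_add {V : Type u} [AddCommGroup V] [Module O V] {P Q : Submodule O V} (h : P ≤ Q) :
    Module.length O (V ⧸ P) =
      Module.length O (↥Q ⧸ P.comap Q.subtype) + Module.length O (V ⧸ Q) := by
  let f : (↥Q ⧸ P.comap Q.subtype) →ₗ[O] V ⧸ P := Submodule.mapQ _ _ Q.subtype le_rfl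
  have hf : Function.Injective f := by
    rw [← LinearMap.ker_eq_bot, Submodule.ker_mapQ, Submodule.mkQ_map_self]
  exact Module.length_eq_add_of_exact f (Submodule.factor h) hf (Submodule.factor_surjective h) (by
    rw [LinearMap.exact_iff, Submodule.range_mapQ, Submodule.ker_mapQ, Submodule.comap_id,
      Submodule.range_subtype])

section Chain

variable {B : Type u} [CommRing B] [Algebra O B] [IsNoetherianRing B]

/-- With residue fields equal to that of `O`, every colength up to that of `L₀` occurs. -/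
lemma exists_colength (hres : ∀ I : Ideal B, I.IsMaximal → Module.length O (B ⧸ I) = 1)
    {V : Type u} [AddCommGroup V] [Module B V] [Module O V] [IsScalarTower O B V] [Module.Finite B V]
    (L₀ : Submodule B V) :
    ∀ e : ℕ, (e : ℕ∞) ≤ Module.length O (V ⧸ L₀.restrictScalars O) →
      ∃ L : Submodule B V, L₀ ≤ L ∧ Module.length O (V ⧸ L.restrictScalars O) = e := by
  intro e
  induction e with
  | zero =>
    refine fun _ => ⟨⊤, le_top, ?_⟩
    rw [Nat.cast_zero, Module.length_eq_zero_iff, Submodule.Quotient.subsingleton_iff,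
      Submodule.restrictScalars_top]
  | succ e ih =>
    intro he
    obtain ⟨L, hL, hlen⟩ := ih ((Nat.cast_le.2 e.le_succ).trans he)
    have hne : L₀.comap L.subtype ≠ ⊤ := fun h => by
      have : L = L₀ := le_antisymm (fun x hx => (h ▸ Submodule.mem_top : (⟨x, hx⟩ : ↥L) ∈ L₀.comap L.subtype)) hL
      rw [← this, hlen] at he
      exact absurd (Nat.cast_le.1 he) (by omega)
    haveI : IsNoetherian B V := isNoetherian_of_isNoetherianRing_of_finite B V
    obtain ⟨P, hP, hle⟩ := (IsCoatomic.eq_top_or_exists_le_coatom (L₀.comap L.subtype)).resolve_left hne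
    haveI : IsSimpleModule B (↥L ⧸ P) := isSimpleModule_iff_isCoatom.2 hP
    obtain ⟨I, hI, ⟨eI⟩⟩ := isSimpleModule_iff_quot_maximal.1 ‹IsSimpleModule B (↥L ⧸ P)›
    refine ⟨P.map L.subtype, fun x hx => ⟨⟨x, hL hx⟩, hle hx, rfl⟩, ?_⟩
    have hPL : (P.map L.subtype).restrictScalars O ≤ L.restrictScalars O := fun x hx => by
      obtain ⟨y, -, rfl⟩ := hx; exact y.2
    have e2 : (↥(L.restrictScalars O) ⧸
        ((P.map L.subtype).restrictScalars O).comap (L.restrictScalars O).subtype) ≃ₗ[O] B ⧸ I :=
      (Submodule.quotEquivOfEq _ (P.restrictScalars O) (by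
        ext x
        exact ⟨fun ⟨y, hy, hyx⟩ => (Subtype.ext hyx : y = x) ▸ hy, fun hx => ⟨x, hx, rfl⟩⟩)) ≪≫ₗ
        Submodule.Quotient.restrictScalarsEquiv O P ≪≫ₗ eI.restrictScalars O
    rw [length_quot_add hPL, e2.length_eq, hres I hI, hlen, Nat.cast_succ, add_comm]

end Chain

variable [IsDomain O] [IsNoetherianRing O] [IsLocalRing O]
  (K : Type u) [Field K] [Algebra O K] [IsFractionRing O K]



omit [IsDomain O] [IsNoetherianRing O] in
/-- Residue fields of the normalization are the residue field of `O`. -/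
lemma length_residue [IsAlgClosed (IsLocalRing.ResidueField O)] (I : Ideal ↥(integralClosure O K)) (hI : I.IsMaximal) :
    Module.length O (↥(integralClosure O K) ⧸ I) = 1 := by
  have hm := IsLocalRing.eq_maximalIdeal (Ideal.isMaximal_comap_of_isIntegral_of_isMaximal (R := O) I)
  let f : IsLocalRing.ResidueField O →+* ↥(integralClosure O K) ⧸ I :=
    Ideal.Quotient.lift _ ((Ideal.Quotient.mk I).comp (algebraMap O ↥(integralClosure O K))) fun a ha => by
      rw [← hm] at ha
      exact Ideal.Quotient.eq_zero_iff_mem.2 ha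
  letI := f.toAlgebra
  haveI : IsScalarTower O (IsLocalRing.ResidueField O) (↥(integralClosure O K) ⧸ I) := IsScalarTower.of_algebraMap_eq fun _ => rfl
  haveI : Algebra.IsIntegral (IsLocalRing.ResidueField O) (↥(integralClosure O K) ⧸ I) :=
    Algebra.IsIntegral.tower_top (R := O)
  have hs : Function.Surjective (algebraMap (IsLocalRing.ResidueField O) (↥(integralClosure O K) ⧸ I)) :=
    IsAlgClosed.algebraMap_bijective_of_isIntegral.2
  have hsO : Function.Surjective (algebraMap O (↥(integralClosure O K) ⧸ I)) := fun x => by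
    obtain ⟨y, rfl⟩ := hs x
    obtain ⟨a, rfl⟩ := IsLocalRing.residue_surjective y
    exact ⟨a, rfl⟩
  rw [Module.length_eq_of_surjective (M := ↥(integralClosure O K) ⧸ I) hsO]
  haveI : IsSimpleModule (↥(integralClosure O K) ⧸ I) (↥(integralClosure O K) ⧸ I) :=
    letI := Ideal.Quotient.field I
    inferInstance
  exact Module.length_eq_one _ _

/-- `O ⊆ Õ`. -/
noncomputable def one' : Submodule O ↥(integralClosure O K) := LinearMap.range (Algebra.linearMap O ↥(integralClosure O K))

/-- `O^n ⊆ Õ^n`. -/
noncomputable def std (n : ℕ) : Submodule O (Fin n → ↥(integralClosure O K)) := Submodule.pi Set.univ fun _ => one' K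

/-- `C^n ⊆ Õ^n`. -/
noncomputable def condPow (n : ℕ) : Submodule ↥(integralClosure O K) (Fin n → ↥(integralClosure O K)) where
  carrier := {v | ∀ i, ∀ b : ↥(integralClosure O K), v i * b ∈ one' K}
  add_mem' hv hw i b := by rw [Pi.add_apply, add_mul]; exact add_mem (hv i b) (hw i b)
  zero_mem' i b := by rw [Pi.zero_apply, zero_mul]; exact zero_mem _
  smul_mem' c v hv i b := by
    rw [Pi.smul_apply, smul_eq_mul, mul_assoc, mul_left_comm]; exact hv i _

/-- Move a lattice `C^n ⊆ N ⊆ O^n` to one with colength that of `O^n` in `Õ^n`. -/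
theorem exists_move (hdim : ringKrullDim O = 1) [IsAlgClosed (IsLocalRing.ResidueField O)]
    [Module.Finite O ↥(integralClosure O K)] (n : ℕ) (N : Submodule O (Fin n → ↥(integralClosure O K)))
    (hCN : (condPow (O := O) K n).restrictScalars O ≤ N) (hN : N ≤ std (O := O) K n) :
    ∃ M' : Submodule O (Fin n → ↥(integralClosure O K)), (condPow (O := O) K n).restrictScalars O ≤ M' ∧
      Nonempty (↥N ≃ₗ[O] ↥M') ∧
      Module.length O (↥M' ⧸ ((condPow (O := O) K n).restrictScalars O).comap M'.subtype) =
        Module.length O (↥(std (O := O) K n) ⧸ ((condPow (O := O) K n).restrictScalars O).comap (std (O := O) K n).subtype) := by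
  classical
  haveI := Groth.Curves2.Lattice.isPrincipalIdealRing_normalization K hdim
  haveI : IsNoetherianRing ↥(integralClosure O K) := inferInstance
  obtain ⟨d, hd0, hd⟩ : ∃ d : O, d ≠ 0 ∧ ∀ x : ↥(integralClosure O K), d • x ∈ one' K := by
    obtain ⟨G, hG⟩ := Module.Finite.fg_top (R := O) (M := ↥(integralClosure O K))
    obtain ⟨c, hc⟩ := IsLocalization.exist_integer_multiples_of_finset (nonZeroDivisors O)
      (G.image (Subtype.val : ↥(integralClosure O K) → K))
    refine ⟨c, nonZeroDivisors.ne_zero c.2, fun z => ?_⟩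
    have : z ∈ Submodule.span O (G : Set ↥(integralClosure O K)) := hG ▸ Submodule.mem_top
    induction this using Submodule.span_induction with
    | mem g hg =>
      obtain ⟨b, hb⟩ := hc g.1 (Finset.mem_image_of_mem _ hg)
      exact ⟨b, Subtype.ext hb⟩
    | zero => simp
    | add p q _ _ hp hq => rw [smul_add]; exact add_mem hp hq
    | smul r p _ hp => rw [smul_comm]; exact Submodule.smul_mem _ r hp
  have hdC : ∀ v : Fin n → ↥(integralClosure O K), d • v ∈ condPow (O := O) K n := fun v i b => by
    rw [Pi.smul_apply, smul_mul_assoc]; exact hd _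
  have hfin : ∀ P : Submodule O (Fin n → ↥(integralClosure O K)), (condPow (O := O) K n).restrictScalars O ≤ P →
      Module.length O ((Fin n → ↥(integralClosure O K)) ⧸ P) ≠ ⊤ := fun P hP =>
    Groth.Curves2.Lattice.length_ne_top_of_smul_eq_zero hdim hd0 fun t => by
      obtain ⟨x, rfl⟩ := Submodule.Quotient.mk_surjective _ t
      rw [← Submodule.Quotient.mk_smul, Submodule.Quotient.mk_eq_zero]
      exact hP (hdC x)
  have hd' : (algebraMap O ↥(integralClosure O K) d) ≠ 0 := fun h => hd0 (IsFractionRing.injective O K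
    ((congrArg Subtype.val h).trans (map_zero _).symm))
  -- submodules containing `C^n` are free of rank `n`
  have hfree : ∀ L : Submodule ↥(integralClosure O K) (Fin n → ↥(integralClosure O K)), condPow (O := O) K n ≤ L →
      Nonempty ((Fin n → ↥(integralClosure O K)) ≃ₗ[↥(integralClosure O K)] ↥L) := fun L hL => by
    let emb : (Fin n → ↥(integralClosure O K)) →ₗ[↥(integralClosure O K)] ↥L := LinearMap.codRestrict L
      (algebraMap O ↥(integralClosure O K) d • LinearMap.id) fun v => hL (by
        rw [LinearMap.smul_apply, LinearMap.id_apply, algebraMap_smul]; exact hdC v)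
    have hemb : Function.Injective emb := fun a b h => by
      funext i
      exact mul_left_cancel₀ hd' (congrFun (congrArg Subtype.val h) i)
    have h1 := LinearMap.finrank_le_finrank_of_injective (f := emb) hemb
    have h2 := LinearMap.finrank_le_finrank_of_injective (f := L.subtype) L.injective_subtype
    rw [Module.finrank_fin_fun] at h1 h2
    have hn : Module.finrank ↥(integralClosure O K) ↥L = n := le_antisymm h2 h1
    exact ⟨((Module.finBasis ↥(integralClosure O K) ↥L).reindex (finCongr hn)).equivFun.symm⟩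
  let L₀ : Submodule ↥(integralClosure O K) (Fin n → ↥(integralClosure O K)) := Submodule.span ↥(integralClosure O K) (N : Set (Fin n → ↥(integralClosure O K)))
  have hNL₀ : N ≤ L₀.restrictScalars O := fun x hx => Submodule.subset_span hx
  have hCL₀ : condPow (O := O) K n ≤ L₀ := fun x hx => hNL₀ (hCN hx)
  -- `l(L₀/N) ≤ l(↥(integralClosure O K)^n/O^n)`
  obtain ⟨φ, hφ, -⟩ : ∃ φ : (Fin n → ↥(integralClosure O K)) ≃ₗ[↥(integralClosure O K)] ↥L₀,
      Submodule.comap (L₀.subtype.restrictScalars O ∘ₗ (φ.toLinearMap.restrictScalars O)) N ≥ std (O := O) K n ∧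
        True := by
    obtain ⟨T⟩ := hfree L₀ hCL₀
    let P : Submodule O (Fin n → ↥(integralClosure O K)) :=
      N.comap (L₀.subtype.restrictScalars O ∘ₗ (T.toLinearMap.restrictScalars O))
    have hP : Submodule.span ↥(integralClosure O K) (P : Set (Fin n → ↥(integralClosure O K))) = ⊤ := by
      rw [eq_top_iff]
      rintro v -
      have hmap : L₀ ≤ (Submodule.span ↥(integralClosure O K) (P : Set (Fin n → ↥(integralClosure O K)))).map (L₀.subtype ∘ₗ T.toLinearMap) := by
        refine Submodule.span_le.2 fun x hx => ?_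
        refine ⟨T.symm ⟨x, Submodule.subset_span hx⟩, Submodule.subset_span ?_, by simp⟩
        change ((T (T.symm ⟨x, _⟩) : ↥L₀) : Fin n → ↥(integralClosure O K)) ∈ N
        rw [T.apply_symm_apply]
        exact hx
      obtain ⟨w, hw, hwv⟩ := hmap (T v).2
      rwa [← T.injective (Subtype.ext hwv : T w = T v)]
    obtain ⟨x, hx, hdet⟩ := Groth.Curves2.Lattice.exists_isUnit_det (O := O)
      ((Groth.Curves2.Lattice.finite_primes_normalization K hdim).subset fun I hI => hI.isPrime) P hP
    obtain ⟨X, hX⟩ := (Matrix.isUnit_iff_isUnit_det _).2 hdet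
    let Xe : (Fin n → ↥(integralClosure O K)) ≃ₗ[↥(integralClosure O K)] (Fin n → ↥(integralClosure O K)) := LinearEquiv.ofLinearMap
      (Matrix.vecMulLinear (↑X : Matrix (Fin n) (Fin n) ↥(integralClosure O K)))
      (Matrix.vecMulLinear (↑X⁻¹ : Matrix (Fin n) (Fin n) ↥(integralClosure O K)))
      (LinearMap.ext fun v => by simp [Matrix.vecMul_vecMul])
      (LinearMap.ext fun v => by simp [Matrix.vecMul_vecMul])
    refine ⟨Xe ≪≫ₗ T, ?_, trivial⟩
    intro v hv
    choose a ha using fun i => hv i (Set.mem_univ i)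
    have hv' : v = ∑ i, a i • (Pi.single i (1 : ↥(integralClosure O K)) : Fin n → ↥(integralClosure O K)) := by
      funext l
      rw [Finset.sum_apply, Finset.sum_eq_single l (fun i _ hi => by simp [Ne.symm hi]) (by simp),
        Pi.smul_apply, Pi.single_eq_same, ← ha l, Algebra.linearMap_apply,
        Algebra.algebraMap_eq_smul_one]
    rw [hv', Submodule.mem_comap, map_sum]
    refine Submodule.sum_mem _ fun i _ => ?_
    rw [map_smul]
    refine N.smul_mem _ ?_
    have : Xe (Pi.single i 1) = x i := by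
      change Matrix.vecMul (Pi.single i 1) (↑X : Matrix (Fin n) (Fin n) ↥(integralClosure O K)) = x i
      rw [Matrix.single_one_vecMul, hX]; rfl
    change ((T (Xe (Pi.single i 1)) : ↥L₀) : Fin n → ↥(integralClosure O K)) ∈ N
    rw [this]
    exact hx i
  have hΔ : Module.length O ((Fin n → ↥(integralClosure O K)) ⧸ N) ≤
      Module.length O ((Fin n → ↥(integralClosure O K)) ⧸ std (O := O) K n) + Module.length O ((Fin n → ↥(integralClosure O K)) ⧸ L₀.restrictScalars O) := by
    rw [length_quot_add hNL₀]
    gcongr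
    let g : (Fin n → ↥(integralClosure O K)) →ₗ[O] (↥(L₀.restrictScalars O) ⧸ N.comap (L₀.restrictScalars O).subtype) :=
      (Submodule.mkQ _).comp (φ.toLinearMap.restrictScalars O)
    refine Module.length_le_of_surjective ((std (O := O) K n).liftQ g fun v hv => ?_) fun y => ?_
    · exact (Submodule.Quotient.mk_eq_zero _).2 (hφ hv)
    · obtain ⟨y, rfl⟩ := Submodule.Quotient.mk_surjective _ y
      refine ⟨Submodule.Quotient.mk (φ.symm y), ?_⟩
      change Submodule.Quotient.mk (φ (φ.symm y)) = _
      rw [φ.apply_symm_apply]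
      rfl
  have hCstd : (condPow (O := O) K n).restrictScalars O ≤ std (O := O) K n := fun v hv i _ => by
    have := hv i 1
    rwa [mul_one] at this
  obtain ⟨Δ, hΔeq⟩ := ENat.ne_top_iff_exists.1 (hfin _ hCstd)
  have hsplit := length_quot_add hN
  obtain ⟨e, he⟩ : ∃ e : ℕ, Module.length O (↥(std (O := O) K n) ⧸ N.comap (std (O := O) K n).subtype) = e := by
    have h1 := hfin N hCN
    rw [hsplit] at h1
    exact ⟨_, (ENat.natCast_toNat (WithTop.add_ne_top.1 h1).1).symm⟩
  rw [hsplit, he, ← hΔeq, add_comm] at hΔ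
  obtain ⟨L, hL, hLlen⟩ := exists_colength (O := O) (fun I hI => length_residue K I hI) L₀ e
    ((ENat.addLECancellable_of_ne_top (ENat.natCast_ne_top Δ)) hΔ)
  obtain ⟨T⟩ := hfree L (hCL₀.trans hL)
  let ψ : (Fin n → ↥(integralClosure O K)) →ₗ[↥(integralClosure O K)] (Fin n → ↥(integralClosure O K)) := L.subtype ∘ₗ T.toLinearMap
  have hψ : Function.Injective ψ := L.injective_subtype.comp T.injective
  have hψr : LinearMap.range (ψ.restrictScalars O) = L.restrictScalars O := by
    ext x
    exact ⟨fun ⟨y, hy⟩ => hy ▸ (T y).2, fun hx => ⟨T.symm ⟨x, hx⟩, by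
      change ((T (T.symm ⟨x, hx⟩) : ↥L) : Fin n → ↥(integralClosure O K)) = x
      rw [T.apply_symm_apply]⟩⟩
  have hNL : N ≤ LinearMap.range (ψ.restrictScalars O) := hψr ▸ hNL₀.trans hL
  let M' : Submodule O (Fin n → ↥(integralClosure O K)) := N.comap (ψ.restrictScalars O)
  have hCM : (condPow (O := O) K n).restrictScalars O ≤ M' := fun v hv => by
    refine hCN (fun i b => ?_)
    have hv' : v = ∑ l, v l • (Pi.single l (1 : ↥(integralClosure O K)) : Fin n → ↥(integralClosure O K)) := pi_eq_sum_univ' v
    change (ψ v) i * b ∈ one' K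
    rw [hv', map_sum, Finset.sum_apply, Finset.sum_mul]
    refine Submodule.sum_mem _ fun l _ => ?_
    rw [map_smul, Pi.smul_apply, smul_eq_mul, mul_assoc]
    exact hv l _
  refine ⟨M', hCM, ⟨(LinearEquiv.ofBijective
    ((ψ.restrictScalars O).restrict (p := M') (q := N) fun x hx => hx)
    ⟨fun a b h => Subtype.ext (hψ (by have h2 := congrArg Subtype.val h; exact h2)), fun y => by
      obtain ⟨x, hx⟩ := hNL y.2
      exact ⟨⟨x, show ψ x ∈ N from hx.symm ▸ y.2⟩, Subtype.ext hx⟩⟩).symm⟩, ?_⟩
  -- the colength of `M'`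
  let f : ((Fin n → ↥(integralClosure O K)) ⧸ M') →ₗ[O] (Fin n → ↥(integralClosure O K)) ⧸ N := Submodule.mapQ _ _ (ψ.restrictScalars O) le_rfl
  have hf : Function.Injective f := by
    rw [← LinearMap.ker_eq_bot, Submodule.ker_mapQ, Submodule.mkQ_map_self]
  have h1 := Module.length_eq_add_of_exact f (Submodule.factor (hNL.trans hψr.le)) hf
    (Submodule.factor_surjective _) (by
      rw [LinearMap.exact_iff, Submodule.range_mapQ, Submodule.ker_mapQ, Submodule.comap_id, hψr])
  rw [hsplit, he, hLlen, ← hΔeq, add_comm] at h1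
  have hM' : Module.length O ((Fin n → ↥(integralClosure O K)) ⧸ M') = Δ :=
    ((ENat.addLECancellable_of_ne_top (ENat.natCast_ne_top e)).inj_left.1 h1).symm
  have h2 := length_quot_add hCM
  rw [length_quot_add hCstd, hM', ← hΔeq] at h2
  exact ((ENat.addLECancellable_of_ne_top (ENat.natCast_ne_top Δ)).inj_left.1 h2).symm

end Groth.Curves2.Colength
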