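import Groth.Agent.Curves1.Lipman.Basic
import Groth.Agent.VarietyBC.GGen
import Groth.Agent.QCohMod.TensorStalk
import Groth.Agent.EulerDeg.Supported
import Groth.Agent.PicAux.TensorLift
import Groth.Agent.DegMono.Torsion

/-!
# Vanishing of `H¹` and global generation on curves: tensors, extensions
-/

set_option autoImplicit false
set_option backward.isDefEq.respectTransparency.types false

universe u

open CategoryTheory Limits AlgebraicGeometry TopologicalSpace Opposite
open Groth.QCohMod

namespace Groth.Curves2.DefAmple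

/-- Tensor products of modules spanned by global sections are spanned by global sections. -/
theorem spansStalks_tensorMod {X : Scheme.{u}} {M N : X.Modules}
    (hM : Groth.Ega2Proj.SpansStalks M) (hN : Groth.Ega2Proj.SpansStalks N) :
    Groth.Ega2Proj.SpansStalks (CohB1.tensorMod M N) := by
  intro x
  rw [eq_top_iff]
  rintro v -
  obtain ⟨w, rfl⟩ := (stalkTensorEquiv M N x).surjective v
  induction w using TensorProduct.induction_on with
  | zero => exact (map_zero (stalkTensorEquiv M N x)).symm ▸ Submodule.zero_mem _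
  | add a b ha hb => exact (map_add (stalkTensorEquiv M N x) a b).symm ▸ Submodule.add_mem _ ha hb
  | tmul a b =>
    have ha : a ∈ (⊤ : Submodule (X.presheaf.stalk x) (M.presheaf.stalk x)) := trivial
    rw [← hM x] at ha
    induction ha using Submodule.span_induction with
    | mem a' ha' =>
      obtain ⟨s, rfl⟩ := ha'
      have hb : b ∈ (⊤ : Submodule (X.presheaf.stalk x) (N.presheaf.stalk x)) := trivial
      rw [← hN x] at hb
      induction hb using Submodule.span_induction with
      | mem b' hb' =>
        obtain ⟨t, rfl⟩ := hb'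
        rw [stalkTensorEquiv_tmul]
        exact Submodule.subset_span ⟨Groth.PicAux.tmulSec s t, rfl⟩
      | zero => rw [TensorProduct.tmul_zero, map_zero]; exact Submodule.zero_mem _
      | add b b' _ _ h h' => rw [TensorProduct.tmul_add, map_add]; exact Submodule.add_mem _ h h'
      | smul r b _ h => rw [TensorProduct.tmul_smul, LinearEquiv.map_smul]; exact Submodule.smul_mem _ r h
    | zero => rw [TensorProduct.zero_tmul, map_zero]; exact Submodule.zero_mem _
    | add a a' _ _ h h' => rw [TensorProduct.add_tmul, map_add]; exact Submodule.add_mem _ h h'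
    | smul r a _ h => rw [← TensorProduct.smul_tmul', LinearEquiv.map_smul]; exact Submodule.smul_mem _ r h

theorem isGloballyGenerated_tensorMod {X : Scheme.{u}} {M N : X.Modules}
    (hM : Curv2.IsGloballyGenerated M) (hN : Curv2.IsGloballyGenerated N) :
    Curv2.IsGloballyGenerated (CohB1.tensorMod M N) :=
  (spansStalks_tensorMod (Groth.VarietyBC.GGen.spansStalks hM)
    (Groth.VarietyBC.GGen.spansStalks hN)).isGloballyGenerated

/-- The cokernel of `W ⊗ φ` is supported at closed points when that of `φ` is. -/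
theorem supportedAtClosed_cokernel_tensorMap {X : Scheme.{u}} (W : X.Modules) {N N' : X.Modules}
    (φ : N ⟶ N') (h : ∀ x ∈ CohB1.support (cokernel φ), IsClosed ({x} : Set X)) :
    Groth.EulerDeg.SupportedAtClosed (cokernel (KoszTw.tensorMap (𝟙 W) φ)) := by
  intro x hx
  by_contra hc
  refine hx ?_
  have hs : Subsingleton ((cokernel φ).presheaf.stalk x) := not_not.mp fun hn => hc (h x hn)
  have hex := (Groth.QCohMod.exact_iff_stalk _).1
    (ShortComplex.exact_of_g_is_cokernel (ShortComplex.mk φ (cokernel.π φ) (cokernel.condition φ))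
      (cokernelIsCokernel φ)) x
  have hφ : Function.Surjective ((Groth.QCohMod.stalk x).map φ).hom := fun t =>
    (ShortComplex.ab_exact_iff _).1 hex t (Subsingleton.elim (α := (cokernel φ).presheaf.stalk x) _ _)
  have hψ : Function.Surjective ((Groth.QCohMod.stalk x).map (KoszTw.tensorMap (𝟙 W) φ)).hom := fun t => by
    obtain ⟨w, rfl⟩ := (Groth.QCohMod.stalkTensorEquiv W N' x).surjective t
    induction w using TensorProduct.induction_on with
    | zero => exact ⟨0, (map_zero _).trans (map_zero _).symm⟩
    | add a b ha hb =>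
      obtain ⟨p, hp⟩ := ha
      obtain ⟨q, hq⟩ := hb
      exact ⟨p + q, (map_add _ _ _).trans ((congrArg₂ (· + ·) hp hq).trans (map_add _ _ _).symm)⟩
    | tmul a b =>
      obtain ⟨c, rfl⟩ := hφ b
      obtain ⟨U, hU, a, c, rfl, rfl⟩ := Groth.QCohMod.exists_common_germ x a c
      refine ⟨Groth.QCohMod.germ (CohB1.tensorMod W N) x hU (Groth.PicAux.tmulSec a c), ?_⟩
      erw [Groth.QCohMod.stalk_map_germ φ x hU c, Groth.QCohMod.stalk_map_germ _ x hU,
        Groth.QCohMod.stalkTensorEquiv_tmul]
      exact congrArg _ (KoszTw.tensorMap_tmul (𝟙 W) φ U a c)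
  refine subsingleton_of_forall_eq 0 fun z => ?_
  obtain ⟨t, rfl⟩ := (Groth.QCohMod.epi_iff_stalk (cokernel.π (KoszTw.tensorMap (𝟙 W) φ))).mp
    inferInstance x z
  obtain ⟨p, rfl⟩ := hψ t
  have := congrArg (fun g => ((Groth.QCohMod.stalk x).map g).hom p)
    (cokernel.condition (KoszTw.tensorMap (𝟙 W) φ))
  simp only [Functor.map_comp, Functor.map_zero] at this
  exact this

variable (k : Type u) [Field k] {X : Scheme.{u}} [X.Over (Spec (CommRingCat.of k))] [IsNoetherian X]
  (hdim : topologicalKrullDim X ≤ 1)

include k hdim in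
/-- Twisting by a coherent globally generated module preserves vanishing of `H¹`. -/
theorem subsingleton_h1_tensor_of_gg (G : X.Modules) (h : Subsingleton (Coh.HH X G 1))
    {E : X.Modules} (hE : Coh.IsCoh E) (hg : Curv2.IsGloballyGenerated E) :
    Subsingleton (Coh.HH X (CohB1.tensorMod E G) 1) := by
  obtain ⟨T, hT⟩ := Groth.CohC3.exists_epi_secHom hE hg
  have := hT
  haveI := Groth.DegMono.epi_tensorMap G (Groth.CohC3.secHom T)
  obtain ⟨b, -⟩ := Groth.PicAux.exists_braiding G E
  obtain ⟨b', -⟩ := Groth.PicAux.exists_braiding G (Groth.CohC3.pw T.card (Coh.structureModule X))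
  have h0 : Subsingleton (Coh.HH X (CohB1.tensorMod G (Groth.CohC3.pw T.card (Coh.structureModule X))) 1) :=
    @Equiv.subsingleton _ _ (Groth.EulerDeg.hEquiv k b' 1).toEquiv
      (Groth.Curves1.Lipman.subsingleton_h1_tensor_pw k G h T.card)
  exact @Equiv.subsingleton _ _ (Groth.EulerDeg.hEquiv k b 1).symm.toEquiv
    (Groth.Curves1.Lipman.subsingleton_h1_of_epi k hdim (KoszTw.tensorMap (𝟙 G) (Groth.CohC3.secHom T)) h0)

include k hdim in
/-- A coherent globally generated module has no `H¹` when the structure sheaf has none. -/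
theorem subsingleton_h1_of_gg (h : Subsingleton (Coh.HH X (Coh.structureModule X) 1))
    {E : X.Modules} (hE : Coh.IsCoh E) (hg : Curv2.IsGloballyGenerated E) :
    Subsingleton (Coh.HH X E 1) :=
  @Equiv.subsingleton _ _ (Groth.EulerDeg.hEquiv k (SecTwist.unitorR E) 1).symm.toEquiv
    (subsingleton_h1_tensor_of_gg k hdim _ h hE hg)

include k in
/-- A module without `H¹` surjects on global sections onto quotients by it. -/
theorem surjective_app_top {S : ShortComplex X.Modules} (hS : S.ShortExact)
    (h : Subsingleton (Coh.HH X S.X₁ 1)) : Function.Surjective (S.g.val.app (op ⊤)).hom := by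
  intro t
  let e₂ := Sheaf.H.equiv₀ (Coh.toAb S.X₂) (isTerminalTop : IsTerminal (⊤ : X.Opens))
  let e₃ := Sheaf.H.equiv₀ (Coh.toAb S.X₃) (isTerminalTop : IsTerminal (⊤ : X.Opens))
  obtain ⟨y, hy⟩ := ((Groth.EulerDeg.exact_right k hS 0) (e₃.symm t)).1 (Subsingleton.elim _ _)
  refine ⟨e₂ y, ?_⟩
  refine Eq.trans ?_ (e₃.apply_symm_apply t)
  rw [← hy]
  exact Sheaf.H.equiv₀_naturality (isTerminalTop : IsTerminal (⊤ : X.Opens))
    (Groth.EulerDeg.abMap S.g) y

include k hdim in
/-- `H¹` vanishes in the middle of a right exact sequence. -/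
theorem subsingleton_h1_middle {S : ShortComplex X.Modules} (hS : S.Exact) [Epi S.g]
    (h₁ : Subsingleton (Coh.HH X S.X₁ 1)) (h₃ : Subsingleton (Coh.HH X S.X₃ 1)) :
    Subsingleton (Coh.HH X S.X₂ 1) := by
  have hK : (ShortComplex.mk (kernel.ι S.g) S.g (kernel.condition S.g)).ShortExact :=
    { exact := ShortComplex.exact_of_f_is_kernel _ (kernelIsKernel S.g)
      mono_f := inferInstanceAs (Mono (kernel.ι S.g))
      epi_g := inferInstanceAs (Epi S.g) }
  haveI := hS.epi_kernelLift
  haveI := Groth.Curves1.Lipman.subsingleton_h1_of_epi k hdim (kernel.lift S.g S.f S.zero) h₁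
  refine subsingleton_of_forall_eq 0 fun y => ?_
  obtain ⟨z, rfl⟩ := ((Groth.EulerDeg.exact_mid k hK 1) y).1 (Subsingleton.elim _ _)
  rw [Subsingleton.elim z 0, map_zero]

end Groth.Curves2.DefAmple
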