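import Groth.Agent.Curves2.Reflexive
import Groth.Agent.Curves2.Lattice

/-!
Every torsion-free module over a one-dimensional Gorenstein domain lies between `C^n` and `O^n`.
-/

universe u

open TensorProduct Module

namespace Groth.Curves2.DualPosition

variable {O : Type u} [CommRing O] [IsDomain O] [IsNoetherianRing O] [IsLocalRing O]
  (K : Type u) [Field K] [Algebra O K] [IsFractionRing O K]

omit [IsNoetherianRing O] [IsLocalRing O] in
/-- The generic rank is the rank. -/
lemma finrank_tensor_fraction (M : Type u) [AddCommGroup M] [Module O M] :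
    Module.finrank K (K ⊗[O] M) = Module.finrank O M := by
  rw [IsLocalization.finrank_eq K (nonZeroDivisors O) le_rfl,
    IsLocalizedModule.finrank_eq (nonZeroDivisors O) (TensorProduct.mk O K M 1) le_rfl]

omit [IsNoetherianRing O] [IsLocalRing O] in
/-- A module and its dual have the same rank. -/
lemma finrank_dual (M : Type u) [AddCommGroup M] [Module O M] [Module.Finite O M]
    [Module.IsTorsionFree O M] [Module.Finite O (M →ₗ[O] O)] :
    Module.finrank O (M →ₗ[O] O) = Module.finrank O M := by
  obtain ⟨g, h, d, hd, -, h1, h2⟩ := Groth.Calg3.exists_finrank_pair O M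
  let r := Module.finrank O M
  let e : ((Fin r → O) →ₗ[O] O) ≃ₗ[O] (Fin r → O) :=
    ((Pi.basisFun O (Fin r)).constr O).symm
  refine le_antisymm ?_ ?_
  · have hinj : Function.Injective (g.lcomp O O) := fun a b hab => LinearMap.ext fun m => by
      have := LinearMap.congr_fun hab (h m)
      change a (g (h m)) = b (g (h m)) at this
      rw [h1, map_smul, map_smul] at this
      exact mul_left_cancel₀ hd this
    simpa using LinearMap.finrank_le_finrank_of_injective
      (f := e.toLinearMap.comp (g.lcomp O O)) (e.injective.comp hinj)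
  · have hinj : Function.Injective (h.lcomp O O) := fun a b hab => LinearMap.ext fun v => by
      have := LinearMap.congr_fun hab (g v)
      change a (h (g v)) = b (h (g v)) at this
      rw [h2, map_smul, map_smul] at this
      exact mul_left_cancel₀ hd this
    simpa [r] using LinearMap.finrank_le_finrank_of_injective
      (f := (h.lcomp O O).comp e.symm.toLinearMap) (hinj.comp e.symm.injective)

/-- The position `C^n ⊆ M'' ⊆ O^n`. -/
theorem exists_between (hdim : ringKrullDim O = 1)
    (hO : Groth.Curves2.Canonical.IsCanonical O O) [Infinite (IsLocalRing.ResidueField O)]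
    [Module.Finite O ↥(integralClosure O K)]
    (M : Type u) [AddCommGroup M] [Module O M] [Module.Finite O M] [NoZeroSMulDivisors O M]
    (n : ℕ) (hn : Module.finrank K (K ⊗[O] M) = n) :
    ∃ Θ : M →ₗ[O] (Fin n → K), Function.Injective Θ ∧
      (∀ m i, Θ m i ∈ (1 : Submodule O K)) ∧
      ∀ a : Fin n → O, (∀ i, a i ∈ (1 : Submodule O K).colon (Subalgebra.toSubmodule (integralClosure O K))) →
        (fun i => algebraMap O K (a i)) ∈ LinearMap.range Θ := by
  classical
  haveI : Module.IsTorsionFree O M := inferInstance
  haveI := Groth.Curves2.Canonical.finite_dual hO (M := M)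
  haveI := Groth.Curves2.Canonical.torsionFree_dual hO (M := M)
  haveI : NoZeroSMulDivisors O (M →ₗ[O] O) := ⟨fun {c φ} h => smul_eq_zero.1 h⟩
  have hn' : Module.finrank K (K ⊗[O] (M →ₗ[O] O)) = n := by
    rw [finrank_tensor_fraction, finrank_dual, ← finrank_tensor_fraction K M, hn]
  obtain ⟨j, hj, hbasis⟩ := Groth.Curves2.Lattice.exists_normal_form K hdim (M →ₗ[O] O) n hn'
  choose f hf using hbasis
  let Θ : M →ₗ[O] (Fin n → K) := LinearMap.pi fun i => (Algebra.linearMap O K).comp (f i)
  have hev := Groth.Curves2.Canonical.ev_bijective hO hdim (M := M)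
  -- every form is, up to a nonzero scalar, a combination of the `f i`
  have hcomb : ∀ φ : M →ₗ[O] O, ∃ d : O, d ≠ 0 ∧ ∃ a : Fin n → O, d • φ = ∑ i, a i • f i := by
    intro φ
    obtain ⟨⟨d, hd⟩, hd'⟩ := IsLocalization.exist_integer_multiples_of_finset (nonZeroDivisors O)
      (Finset.univ.image fun i => ((j φ i : ↥(integralClosure O K)) : K))
    choose a ha using fun i => hd' _ (Finset.mem_image_of_mem _ (Finset.mem_univ i))
    refine ⟨d, nonZeroDivisors.ne_zero hd, a, hj ?_⟩
    rw [map_smul, map_sum]
    simp only [map_smul, hf]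
    funext i
    apply Subtype.ext
    rw [Finset.sum_apply, Finset.sum_eq_single i (fun l _ hl => by simp [Ne.symm hl]) (by simp)]
    change d • ((j φ i : ↥(integralClosure O K)) : K) = _
    rw [Pi.smul_apply, Pi.single_eq_same]
    change _ = a i • (1 : K)
    rw [← Algebra.algebraMap_eq_smul_one]
    exact (ha i).symm
  refine ⟨Θ, ?_, fun m i => Submodule.mem_one.2 ⟨f i m, rfl⟩, fun a ha => ?_⟩
  · rw [← LinearMap.ker_eq_bot, LinearMap.ker_eq_bot']
    intro m hm
    refine hev.1 (LinearMap.ext fun φ => ?_)
    obtain ⟨d, hd, a, hda⟩ := hcomb φ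
    refine mul_left_cancel₀ hd ?_
    have hfm : ∀ i, f i m = 0 := fun i =>
      IsFractionRing.injective O K ((congrFun hm i).trans (map_zero _).symm)
    have := LinearMap.congr_fun hda m
    simp only [LinearMap.smul_apply, LinearMap.sum_apply, hfm, smul_zero, Finset.sum_const_zero] at this
    simpa using this
  · have hmem : ∀ φ : M →ₗ[O] O, ∃ o : O, algebraMap O K o =
        ∑ i, algebraMap O K (a i) * ((j φ i : ↥(integralClosure O K)) : K) := fun φ =>
      Submodule.mem_one.1 (Submodule.sum_mem _ fun i _ => by
        rw [← Algebra.smul_def]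
        exact Submodule.mem_colon.1 (ha i) _ (j φ i).2)
    choose o ho using hmem
    let ψ : (M →ₗ[O] O) →ₗ[O] O :=
      { toFun := o
        map_add' := fun x y => IsFractionRing.injective O K (by
          rw [map_add, ho, ho, ho, map_add, ← Finset.sum_add_distrib]
          exact Finset.sum_congr rfl fun i _ => by
            rw [Pi.add_apply, Subalgebra.coe_add, mul_add])
        map_smul' := fun r x => IsFractionRing.injective O K (by
          rw [RingHom.id_apply, smul_eq_mul, map_mul, ho, ho, map_smul, Finset.mul_sum]
          exact Finset.sum_congr rfl fun i _ => by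
            change _ * (r • ((j x i : ↥(integralClosure O K)) : K)) = _
            rw [Algebra.smul_def]; ring) }
    obtain ⟨m, hm⟩ := hev.2 ψ
    refine ⟨m, funext fun i => ?_⟩
    have h1 : f i m = o (f i) := LinearMap.congr_fun hm (f i)
    change algebraMap O K (f i m) = _
    rw [h1, ho, Finset.sum_eq_single i (fun l _ hl => by simp [hf, hl]) (by simp)]
    simp [hf]

end Groth.Curves2.DualPosition
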