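import Mathlib
import Groth.Agent.Curves2.Canonical

/-!
Reflexivity for the duality into a canonical module.
-/

universe u

open CategoryTheory Module

namespace Groth.Curves2.Canonical

variable {O : Type u} [CommRing O] [IsDomain O] [IsNoetherianRing O] [IsLocalRing O]
variable {W : Type u} [AddCommGroup W] [Module O W]
variable {M : Type u} [AddCommGroup M] [Module O M]

variable (O W M) in
/-- Evaluation into the double dual. -/
noncomputable abbrev ev : M →ₗ[O] (M →ₗ[O] W) →ₗ[O] W :=
  (LinearMap.id : (M →ₗ[O] W) →ₗ[O] M →ₗ[O] W).flip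

lemma finite_dual (hW : IsCanonical O W) [Module.Finite O M] : Module.Finite O (M →ₗ[O] W) := by
  haveI := hW.finite
  infer_instance

lemma torsionFree_dual (hW : IsCanonical O W) : Module.IsTorsionFree O (M →ₗ[O] W) :=
  haveI := hW.torsionFree
  Groth.Calg3.linearMap_torsionFree

lemma ev_injective (hW : IsCanonical O W) [Module.Finite O M] [Module.IsTorsionFree O M] :
    Function.Injective (ev O W M) := by
  haveI := hW.torsionFree
  haveI := hW.ne_zero
  obtain ⟨f, hf⟩ := Groth.Calg3.exists_injective_of_torsionFree O M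
  obtain ⟨w₀, hw₀⟩ := exists_ne (0 : W)
  intro a b h
  refine hf (funext fun i => ?_)
  have := LinearMap.congr_fun h
    ((LinearMap.toSpanSingleton O W w₀).comp ((LinearMap.proj i).comp f))
  exact smul_left_injective O hw₀ this

/-- `End W = O`. -/
lemma exists_smul_eq (hW : IsCanonical O W) (hdim : ringKrullDim O = 1) (φ : W →ₗ[O] W) :
    ∃ c : O, ∀ w, φ w = c • w := by
  haveI := hW.finite
  haveI := hW.torsionFree
  haveI := hW.ne_zero
  obtain ⟨j, hj⟩ := hW.exists_embedding
  have hne : LinearMap.range j ≠ ⊥ := fun h => by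
    obtain ⟨w, hw⟩ := exists_ne (0 : W)
    exact hw (hj (by rw [LinearMap.range_eq_bot.1 h]; rfl))
  obtain ⟨d, hd, hd0⟩ := (Submodule.ne_bot_iff _).1 hne
  have hfin : Module.length O (O ⧸ LinearMap.range j) ≠ ⊤ :=
    Groth.Curves2.Lattice.length_ne_top_of_smul_eq_zero hdim hd0 fun t => by
      obtain ⟨a, rfl⟩ := Submodule.Quotient.mk_surjective _ t
      refine (Submodule.Quotient.mk_eq_zero _).2 ?_
      change d * a ∈ _
      rw [mul_comm]
      exact Submodule.smul_mem _ a hd
  let sc : O →ₗ[O] Dco W j :=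
    (Submodule.mkQ _).comp (LinearMap.toSpanSingleton O (W →ₗ[O] W) LinearMap.id)
  have hker : LinearMap.range j = LinearMap.ker sc := by
    apply le_antisymm
    · rintro _ ⟨x, rfl⟩
      refine (Submodule.Quotient.mk_eq_zero _).2
        ⟨LinearMap.toSpanSingleton O W x, LinearMap.ext fun w => ?_⟩
      change j w • x = j x • w
      exact hj (by rw [map_smul, map_smul, smul_eq_mul, smul_eq_mul, mul_comm])
    · intro c hc
      obtain ⟨g, hg⟩ := (Submodule.Quotient.mk_eq_zero _).1 hc
      refine ⟨g 1, ?_⟩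
      obtain ⟨w, hw⟩ := exists_ne (0 : W)
      have h1 := congrArg j (LinearMap.congr_fun hg w)
      change j (g (j w)) = j (c • w) at h1
      have : g (j w) = j w • g 1 := by rw [← map_smul, smul_eq_mul, mul_one]
      rw [this, map_smul, map_smul, smul_eq_mul, smul_eq_mul, mul_comm c] at h1
      exact mul_left_cancel₀ (fun h0 => hw (hj (h0.trans (map_zero j).symm))) h1
  have hlen := length_dco hW hdim j hj hfin
  let f : (O ⧸ LinearMap.range j) →ₗ[O] Dco W j := (LinearMap.range j).liftQ sc hker.le
  have hf : Function.Injective f := by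
    rw [← LinearMap.ker_eq_bot, Submodule.ker_liftQ, ← hker, Submodule.mkQ_map_self]
  have hsurj : Function.Surjective f := by
    have h1 := Module.length_eq_add_of_exact f (LinearMap.range f).mkQ hf
      (Submodule.mkQ_surjective _) (by rw [LinearMap.exact_iff, Submodule.ker_mkQ])
    rw [hlen] at h1
    have h2 : Module.length O (Dco W j ⧸ LinearMap.range f) = 0 :=
      ((ENat.addLECancellable_of_ne_top hfin).inj.1 ((add_zero _).trans h1)).symm
    rw [Module.length_eq_zero_iff, Submodule.Quotient.subsingleton_iff] at h2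
    exact LinearMap.range_eq_top.1 h2
  obtain ⟨q, hq⟩ := hsurj (Submodule.Quotient.mk φ)
  obtain ⟨c, rfl⟩ := Submodule.Quotient.mk_surjective _ q
  obtain ⟨g, hg⟩ := (Submodule.Quotient.eq _).1 hq
  refine ⟨c - j (g 1), fun w => ?_⟩
  have h1 := LinearMap.congr_fun hg w
  change g (j w) = c • w - φ w at h1
  have h2 : g (j w) = j (g 1) • w := by
    rw [show g (j w) = j w • g 1 by rw [← map_smul, smul_eq_mul, mul_one]]
    exact hj (by rw [map_smul, map_smul, smul_eq_mul, smul_eq_mul, mul_comm])
  rw [sub_smul, ← h2, h1, sub_sub_cancel]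

lemma ev_free_bijective (hW : IsCanonical O W) (hdim : ringKrullDim O = 1) (r : ℕ) :
    Function.Bijective (ev O W (Fin r → O)) := by
  refine ⟨ev_injective hW, fun Φ => ?_⟩
  let lin : Fin r → W →ₗ[O] ((Fin r → O) →ₗ[O] W) := fun i =>
    (LinearMap.proj i : (Fin r → O) →ₗ[O] O).lcomp O W ∘ₗ
      (LinearMap.ringLmapEquivSelf O O W).symm.toLinearMap
  choose c hc using fun i => exists_smul_eq hW hdim (Φ.comp (lin i))
  refine ⟨c, LinearMap.ext fun f => ?_⟩
  change f c = Φ f
  have hf : f = ∑ i, lin i (f (Pi.single i 1)) := by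
    refine LinearMap.ext fun v => ?_
    rw [LinearMap.sum_apply]
    conv_lhs => rw [pi_eq_sum_univ' v, map_sum]
    refine Finset.sum_congr rfl fun i _ => ?_
    rw [map_smul]
    rfl
  conv_lhs => rw [hf, LinearMap.sum_apply]
  conv_rhs => rw [hf, map_sum]
  exact Finset.sum_congr rfl fun i _ => ((hc i _).symm.trans rfl : _)

/-- Reflexivity. -/
theorem ev_bijective (hW : IsCanonical O W) (hdim : ringKrullDim O = 1) [Module.Finite O M]
    [Module.IsTorsionFree O M] : Function.Bijective (ev O W M) := by
  refine ⟨ev_injective hW, ?_⟩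
  obtain ⟨g, h, d, hd, hg, h1, -⟩ := Groth.Calg3.exists_finrank_pair O M
  have hfin : Module.length O (M ⧸ LinearMap.range g) ≠ ⊤ :=
    Groth.Curves2.Lattice.length_ne_top_of_smul_eq_zero hdim hd fun t => by
      obtain ⟨x, rfl⟩ := Submodule.Quotient.mk_surjective _ t
      exact (Submodule.Quotient.mk_eq_zero _).2 ⟨h x, h1 x⟩
  haveI := finite_dual hW (M := Fin (finrank O M) → O)
  haveI := torsionFree_dual hW (M := Fin (finrank O M) → O)
  have hl1 := length_dco hW hdim g hg hfin
  have hl2 := length_dco hW hdim (restr W g) (restr_injective hW hdim g hfin)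
    (by rw [show Module.length O (_ ⧸ LinearMap.range (restr W g)) = _ from hl1]; exact hfin)
  rw [show Module.length O (_ ⧸ LinearMap.range (restr W g)) = _ from hl1] at hl2
  have hcomm : ∀ v, ev O W M (g v) = restr W (restr W g) (ev O W (Fin (finrank O M) → O) v) :=
    fun v => rfl
  have hrange : (LinearMap.range (restr W (restr W g))).comap (ev O W M) = LinearMap.range g := by
    ext x
    constructor
    · rintro ⟨Φ, hΦ⟩
      obtain ⟨v, rfl⟩ := (ev_free_bijective hW hdim _).2 Φ
      exact ⟨v, ev_injective hW ((hcomm v).trans hΦ)⟩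
    · rintro ⟨v, rfl⟩
      exact ⟨_, (hcomm v).symm⟩
  let f : (M ⧸ LinearMap.range g) →ₗ[O] Dco W (restr W g) :=
    Submodule.mapQ _ _ (ev O W M) hrange.ge
  have hf : Function.Injective f := by
    rw [← LinearMap.ker_eq_bot, Submodule.ker_mapQ, hrange, Submodule.mkQ_map_self]
  have hfsurj : Function.Surjective f := by
    have h3 := Module.length_eq_add_of_exact f (LinearMap.range f).mkQ hf
      (Submodule.mkQ_surjective _) (by rw [LinearMap.exact_iff, Submodule.ker_mkQ])
    rw [hl2] at h3
    have h4 : Module.length O (Dco W (restr W g) ⧸ LinearMap.range f) = 0 :=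
      ((ENat.addLECancellable_of_ne_top hfin).inj.1 ((add_zero _).trans h3)).symm
    rw [Module.length_eq_zero_iff, Submodule.Quotient.subsingleton_iff] at h4
    exact LinearMap.range_eq_top.1 h4
  intro Ψ
  obtain ⟨q, hq⟩ := hfsurj (Submodule.Quotient.mk Ψ)
  obtain ⟨x, rfl⟩ := Submodule.Quotient.mk_surjective _ q
  obtain ⟨Φ, hΦ⟩ := (Submodule.Quotient.eq _).1 hq
  obtain ⟨v, rfl⟩ := (ev_free_bijective hW hdim _).2 Φ
  refine ⟨x - g v, ?_⟩
  rw [map_sub, hcomm, hΦ, sub_sub_cancel]

/-- Transposition is bijective between torsion-free modules. -/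
theorem transpose_bijective (hW : IsCanonical O W) (hdim : ringKrullDim O = 1)
    {N : Type u} [AddCommGroup N] [Module O N] [Module.Finite O N] [Module.IsTorsionFree O N] :
    Function.Bijective (fun f : M →ₗ[O] N => f.lcomp O W) := by
  constructor
  · intro f g h
    ext m
    refine ev_injective hW (LinearMap.ext fun φ => ?_)
    exact LinearMap.congr_fun (LinearMap.congr_fun h φ) m
  · intro F
    let e := LinearEquiv.ofBijective (ev O W N) (ev_bijective hW hdim)
    refine ⟨e.symm.toLinearMap.comp ((F.lcomp O W).comp (ev O W M)), LinearMap.ext fun φ => ?_⟩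
    ext m
    change φ (e.symm ((F.lcomp O W) (ev O W M m))) = F φ m
    exact LinearMap.congr_fun (e.apply_symm_apply ((F.lcomp O W) (ev O W M m))) φ

/-- A Gorenstein one-dimensional local domain is its own canonical ideal. -/
lemma isCanonical_self (hinj : HasInjectiveDimensionLT (ModuleCat.of O O) 2) : IsCanonical O O :=
  ⟨inferInstance, ⟨LinearMap.id, Function.injective_id⟩, inferInstance, hinj⟩

end Groth.Curves2.Canonical
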