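import Mathlib
import Groth.Agent.Curves2.Reflexive

/-!
`Extⁱ(M, N) ≅ Extⁱ(N*, M*)` for torsion-free modules.
-/

universe u

open CategoryTheory Module

namespace Groth.Curves2.Canonical

section Shift

variable {C : Type (u + 1)} [Category.{u} C] [Abelian C] [HasExt.{u} C]

lemma exists_shift_contra {S : ShortComplex C} (hS : S.ShortExact) (Y : C) (n : ℕ)
    (h : ∀ z : Abelian.Ext S.X₂ Y (n + 1), z = 0) :
    Nonempty (Abelian.Ext S.X₃ Y (n + 1) ≃+
      Abelian.Ext S.X₁ Y n ⧸ ((Abelian.Ext.mk₀ S.f).precomp Y (zero_add n)).range) := by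
  let δ : Abelian.Ext S.X₁ Y n →+ Abelian.Ext S.X₃ Y (n + 1) :=
    hS.extClass.precomp Y (add_comm 1 n)
  have hsurj : Function.Surjective δ := fun x =>
    Abelian.Ext.contravariant_sequence_exact₃ hS Y x (h _) (add_comm 1 n)
  have hker : δ.ker = ((Abelian.Ext.mk₀ S.f).precomp Y (zero_add n)).range := by
    ext x
    constructor
    · intro hx
      exact Abelian.Ext.contravariant_sequence_exact₁ hS Y x (add_comm 1 n) hx
    · rintro ⟨y, rfl⟩
      change hS.extClass.comp ((Abelian.Ext.mk₀ S.f).comp y (zero_add n)) (add_comm 1 n) = 0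
      rw [← Abelian.Ext.comp_assoc _ _ _ (add_zero 1) (zero_add n) (by omega),
        hS.extClass_comp, Abelian.Ext.zero_comp]
  exact ⟨((QuotientAddGroup.quotientAddEquivOfEq hker.symm).trans
    (QuotientAddGroup.quotientKerEquivOfSurjective δ hsurj)).symm⟩

lemma exists_shift_co {S : ShortComplex C} (hS : S.ShortExact) (X : C) (n : ℕ)
    (h : ∀ z : Abelian.Ext X S.X₂ (n + 1), z = 0) :
    Nonempty (Abelian.Ext X S.X₁ (n + 1) ≃+
      Abelian.Ext X S.X₃ n ⧸ ((Abelian.Ext.mk₀ S.g).postcomp X (add_zero n)).range) := by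
  let δ : Abelian.Ext X S.X₃ n →+ Abelian.Ext X S.X₁ (n + 1) :=
    hS.extClass.postcomp X rfl
  have hsurj : Function.Surjective δ := fun x =>
    Abelian.Ext.covariant_sequence_exact₁ X hS x (h _) rfl
  have hker : δ.ker = ((Abelian.Ext.mk₀ S.g).postcomp X (add_zero n)).range := by
    ext x
    constructor
    · intro hx
      exact Abelian.Ext.covariant_sequence_exact₃ X hS x rfl hx
    · rintro ⟨y, rfl⟩
      change (y.comp (Abelian.Ext.mk₀ S.g) (add_zero n)).comp hS.extClass rfl = 0
      rw [Abelian.Ext.comp_assoc _ _ _ (add_zero n) (zero_add 1) (by omega),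
        hS.comp_extClass, Abelian.Ext.comp_zero]
  exact ⟨((QuotientAddGroup.quotientAddEquivOfEq hker.symm).trans
    (QuotientAddGroup.quotientKerEquivOfSurjective δ hsurj)).symm⟩

lemma range_eq_bot_of_forall {A B : Type*} [AddCommGroup A] [AddCommGroup B] (f : A →+ B)
    (h : ∀ a : A, a = 0) : f.range = ⊥ := by
  rw [eq_bot_iff]
  rintro _ ⟨a, rfl⟩
  rw [h a, map_zero]
  exact zero_mem _

lemma exists_quot_equiv {A B A' B' : Type*} [AddCommGroup A] [AddCommGroup B] [AddCommGroup A']
    [AddCommGroup B'] (f : A' →+ A) (g : B' →+ B) (hA : ∀ a : A', a = 0) (hB : ∀ b : B', b = 0)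
    (e : A ≃+ B) : Nonempty (A ⧸ f.range ≃+ B ⧸ g.range) :=
  ⟨QuotientAddGroup.congr _ _ e (by
    rw [range_eq_bot_of_forall f hA, range_eq_bot_of_forall g hB, AddSubgroup.map_bot])⟩

end Shift

variable {O : Type u} [CommRing O] [IsDomain O] [IsNoetherianRing O] [IsLocalRing O]
variable {W : Type u} [AddCommGroup W] [Module O W]

/-- Homomorphisms as degree zero extensions. -/
noncomputable def homEquiv (A B : Type u) [AddCommGroup A] [Module O A] [AddCommGroup B]
    [Module O B] : (A →ₗ[O] B) ≃+ Abelian.Ext (ModuleCat.of O A) (ModuleCat.of O B) 0 :=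
  (ModuleCat.homAddEquiv (M := ModuleCat.of O A) (N := ModuleCat.of O B)).symm.trans
    Abelian.Ext.addEquiv₀.symm

lemma ext_eq_zero_dual_free (hW : IsCanonical O W) {X : Type u} [AddCommGroup X] [Module O X]
    [Module.Finite O X] [Module.IsTorsionFree O X] (m n : ℕ)
    (z : Abelian.Ext (ModuleCat.of O X) (ModuleCat.of O ((Fin m → O) →ₗ[O] W)) (n + 1)) : z = 0 := by
  classical
  have hX := subsingleton_ext hW (M := X) (n + 1) (by omega)
  let p : Fin m → (((Fin m → O) →ₗ[O] W) →ₗ[O] W) := fun i =>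
    LinearMap.applyₗ (Pi.single i (1 : O))
  let q : Fin m → (W →ₗ[O] ((Fin m → O) →ₗ[O] W)) := fun i =>
    (LinearMap.proj i : (Fin m → O) →ₗ[O] O).lcomp O W ∘ₗ
      (LinearMap.ringLmapEquivSelf O O W).symm.toLinearMap
  have hid : 𝟙 (ModuleCat.of O ((Fin m → O) →ₗ[O] W)) =
      ∑ i, ModuleCat.ofHom (p i) ≫ ModuleCat.ofHom (q i) := by
    refine ModuleCat.hom_ext ?_
    rw [ModuleCat.hom_sum]
    refine LinearMap.ext fun f => LinearMap.ext fun v => ?_
    rw [LinearMap.sum_apply, LinearMap.sum_apply]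
    conv_lhs => rw [ModuleCat.hom_id, LinearMap.id_apply, pi_eq_sum_univ' v, map_sum]
    refine Finset.sum_congr rfl fun i _ => ?_
    rw [map_smul]
    rfl
  rw [← Abelian.Ext.comp_mk₀_id z, hid, Abelian.Ext.mk₀_sum, Abelian.Ext.comp_sum]
  refine Finset.sum_eq_zero fun i _ => ?_
  rw [← Abelian.Ext.mk₀_comp_mk₀, ← Abelian.Ext.comp_assoc _ _ _ (add_zero _) (add_zero 0) (by omega),
    @Subsingleton.elim _ hX (z.comp (Abelian.Ext.mk₀ (ModuleCat.ofHom (p i))) (add_zero _)) 0,
    Abelian.Ext.zero_comp]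

set_option maxHeartbeats 800000 in
theorem exists_ext_dual (hW : IsCanonical O W) (hdim : ringKrullDim O = 1) :
    ∀ (i : ℕ) (M N : Type u) [AddCommGroup M] [Module O M] [Module.Finite O M]
      [Module.IsTorsionFree O M] [AddCommGroup N] [Module O N] [Module.Finite O N]
      [Module.IsTorsionFree O N],
      Nonempty (Abelian.Ext (ModuleCat.of O M) (ModuleCat.of O N) i ≃+
        Abelian.Ext (ModuleCat.of O (N →ₗ[O] W)) (ModuleCat.of O (M →ₗ[O] W)) i) := by
  intro i
  induction i with
  | zero =>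
    intro M N _ _ _ _ _ _ _ _
    let T : (M →ₗ[O] N) →+ ((N →ₗ[O] W) →ₗ[O] (M →ₗ[O] W)) :=
      { toFun := fun f => f.lcomp O W
        map_zero' := by ext φ m; exact map_zero φ
        map_add' := fun f g => by ext φ m; exact map_add φ _ _ }
    exact ⟨((homEquiv M N).symm.trans (AddEquiv.ofBijective T (transpose_bijective hW hdim))).trans
      (homEquiv (N →ₗ[O] W) (M →ₗ[O] W))⟩
  | succ n ih =>
    intro M N _ _ _ _ _ _ _ _
    haveI := hW.finite
    haveI := finite_dual hW (M := N)
    haveI := torsionFree_dual hW (M := N)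
    obtain ⟨m, p, hp⟩ := Module.Finite.exists_fin' O M
    let K := LinearMap.ker p
    haveI : Module.IsTorsionFree O ↥K :=
      Groth.Calg3.isTorsionFree_of_injective K.subtype Subtype.val_injective
    -- the two short exact sequences
    let S : ShortComplex (ModuleCat.{u} O) := ShortComplex.mk (ModuleCat.ofHom K.subtype)
      (ModuleCat.ofHom p) (by ext x; exact x.2)
    have hS : S.ShortExact :=
      { mono_f := (ModuleCat.mono_iff_injective _).2 Subtype.val_injective
        epi_g := (ModuleCat.epi_iff_surjective _).2 hp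
        exact := (ShortComplex.moduleCat_exact_iff _).2 fun x hx => ⟨⟨x, hx⟩, rfl⟩ }
    let S' : ShortComplex (ModuleCat.{u} O) := ShortComplex.mk (ModuleCat.ofHom (restr W p))
      (ModuleCat.ofHom (restr W K.subtype))
      (by ext f x; change f (p (K.subtype x)) = 0; rw [show p (K.subtype x) = 0 from x.2, map_zero])
    have hS' : S'.ShortExact :=
      { mono_f := (ModuleCat.mono_iff_injective _).2 fun f g h => by
          ext y
          obtain ⟨v, rfl⟩ := hp y
          exact LinearMap.congr_fun h v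
        epi_g := (ModuleCat.epi_iff_surjective _).2 fun h =>
          exists_extension hW (M := M) Subtype.val_injective hp
            (LinearMap.exact_iff.2 (Submodule.range_subtype _).symm) h
        exact := (ShortComplex.moduleCat_exact_iff _).2 fun g hg => by
          have hle : LinearMap.ker p ≤ LinearMap.ker g := fun x hx =>
            LinearMap.congr_fun hg ⟨x, hx⟩
          refine ⟨((LinearMap.ker p).liftQ g hle).comp
            (p.quotKerEquivOfSurjective hp).symm.toLinearMap, LinearMap.ext fun v => ?_⟩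
          have : (p.quotKerEquivOfSurjective hp).symm (p v) = Submodule.Quotient.mk v := by
            rw [LinearEquiv.symm_apply_eq]; rfl
          change ((LinearMap.ker p).liftQ g hle) ((p.quotKerEquivOfSurjective hp).symm (p v)) = g v
          rw [this]; rfl }
    have hF : ∀ k (z : Abelian.Ext (ModuleCat.of O (Fin m → O)) (ModuleCat.of O N) (k + 1)), z = 0 :=
      fun k z => by
        haveI : Projective (ModuleCat.of O (Fin m → O)) :=
          (IsProjective.iff_projective (R := O) (Fin m → O)).1 inferInstance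
        exact Abelian.Ext.eq_zero_of_projective z
    obtain ⟨eL⟩ := exists_shift_contra hS (ModuleCat.of O N) n (hF n)
    obtain ⟨eR⟩ := exists_shift_co hS' (ModuleCat.of O (N →ₗ[O] W)) n
      fun z => ext_eq_zero_dual_free hW m n z
    cases n with
    | zero =>
      let T : (↥K →ₗ[O] N) →+ ((N →ₗ[O] W) →ₗ[O] (↥K →ₗ[O] W)) :=
        { toFun := fun f => f.lcomp O W
          map_zero' := by ext φ x; exact map_zero φ
          map_add' := fun f g => by ext φ x; exact map_add φ _ _ }
      let E := ((homEquiv ↥K N).symm.trans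
        (AddEquiv.ofBijective T (transpose_bijective hW hdim))).trans
        (homEquiv (N →ₗ[O] W) (↥K →ₗ[O] W))
      have hE : ∀ f : ↥K →ₗ[O] N, E (homEquiv ↥K N f) = homEquiv _ _ (f.lcomp O W) := fun f => by
        simp only [E, AddEquiv.trans_apply, AddEquiv.symm_apply_apply]
        rfl
      have hpre : ∀ g : (Fin m → O) →ₗ[O] N,
          (Abelian.Ext.mk₀ S.f).precomp (ModuleCat.of O N) (zero_add 0) (homEquiv (Fin m → O) N g) =
            homEquiv ↥K N (g.comp K.subtype) := fun g => Abelian.Ext.mk₀_comp_mk₀ _ _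
      have hpost : ∀ F : (N →ₗ[O] W) →ₗ[O] ((Fin m → O) →ₗ[O] W),
          (Abelian.Ext.mk₀ S'.g).postcomp (ModuleCat.of O (N →ₗ[O] W)) (add_zero 0)
              (homEquiv (N →ₗ[O] W) ((Fin m → O) →ₗ[O] W) F) =
            homEquiv (N →ₗ[O] W) (↥K →ₗ[O] W) ((restr W K.subtype).comp F) :=
        fun F => Abelian.Ext.mk₀_comp_mk₀ _ _
      refine ⟨eL.trans (AddEquiv.trans (QuotientAddGroup.congr _ _ E ?_) eR.symm)⟩
      ext x
      constructor
      · rintro ⟨_, ⟨y, rfl⟩, rfl⟩
        obtain ⟨g, rfl⟩ := (homEquiv (Fin m → O) N).surjective y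
        refine ⟨homEquiv _ _ (g.lcomp O W), ?_⟩
        change _ = E ((Abelian.Ext.mk₀ S.f).precomp _ (zero_add 0) (homEquiv _ _ g))
        rw [hpre, hE]
        exact hpost _
      · rintro ⟨y, rfl⟩
        obtain ⟨F, rfl⟩ := (homEquiv (N →ₗ[O] W) ((Fin m → O) →ₗ[O] W)).surjective y
        obtain ⟨g, rfl⟩ := (transpose_bijective hW hdim (M := Fin m → O) (N := N)).2 F
        refine ⟨(Abelian.Ext.mk₀ S.f).precomp (ModuleCat.of O N) (zero_add 0)
          (homEquiv (Fin m → O) N g), AddMonoidHom.mem_range.2 ⟨homEquiv (Fin m → O) N g, rfl⟩, ?_⟩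
        refine (congrArg E (hpre g)).trans ((hE (g.comp K.subtype)).trans ?_)
        exact (hpost (g.lcomp O W)).symm
    | succ k =>
      obtain ⟨E⟩ := ih ↥K N
      obtain ⟨e⟩ := exists_quot_equiv
        ((Abelian.Ext.mk₀ S.f).precomp (ModuleCat.of O N) (zero_add (k + 1)))
        ((Abelian.Ext.mk₀ S'.g).postcomp (ModuleCat.of O (N →ₗ[O] W)) (add_zero (k + 1)))
        (hF k) (fun z => ext_eq_zero_dual_free hW m k z) E
      exact ⟨eL.trans (e.trans eR.symm)⟩

end Groth.Curves2.Canonical
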