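import Mathlib

/-!
`Ext¹` of a module with a given presentation, and of monomial modules over the cubical rings
`k + t^n k[[t]]`.
-/

universe u

open CategoryTheory

namespace Groth.Curves2.ExtMonomial

section Presentation

variable {R : Type u} [CommRing R] {K P M N : Type u}
  [AddCommGroup K] [Module R K] [AddCommGroup P] [Module R P] [AddCommGroup M] [Module R M]
  [AddCommGroup N] [Module R N]

/-- `Ext¹(M, N)` from a projective presentation `0 → K → P → M → 0`. -/
theorem exists_extOne_equiv [Module.Projective R P] (i : K →ₗ[R] P) (p : P →ₗ[R] M)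
    (hi : Function.Injective i) (hp : Function.Surjective p) (h : Function.Exact i p) :
    Nonempty (Abelian.Ext (ModuleCat.of R M) (ModuleCat.of R N) 1 ≃ₗ[R]
      (K →ₗ[R] N) ⧸ LinearMap.range (LinearMap.lcomp R N i)) := by
  let S : ShortComplex (ModuleCat.{u} R) := ShortComplex.mk (ModuleCat.ofHom i)
    (ModuleCat.ofHom p) (by ext x; exact (h (i x)).2 ⟨x, rfl⟩)
  have hS : S.ShortExact :=
    { mono_f := (ModuleCat.mono_iff_injective _).2 hi
      epi_g := (ModuleCat.epi_iff_surjective _).2 hp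
      exact := (ShortComplex.moduleCat_exact_iff _).2 fun x hx => (h x).1 hx }
  haveI : Projective S.X₂ := (IsProjective.iff_projective (R := R) P).1 ‹_›
  let e₀ : (K →ₗ[R] N) ≃ₗ[R] Abelian.Ext S.X₁ (ModuleCat.of R N) 0 :=
    (ModuleCat.homLinearEquiv (S := R) (M := ModuleCat.of R K) (N := ModuleCat.of R N)).symm ≪≫ₗ
      (Abelian.Ext.linearEquiv₀ (R := R)).symm
  let δ : (K →ₗ[R] N) →ₗ[R] Abelian.Ext S.X₃ (ModuleCat.of R N) 1 :=
    (Abelian.Ext.precompOfLinear hS.extClass R (ModuleCat.of R N) (add_zero 1)).comp e₀.toLinearMap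
  have hsurj : Function.Surjective δ := fun x => by
    obtain ⟨y, hy⟩ := Abelian.Ext.contravariant_sequence_exact₃ hS _ x
      (Abelian.Ext.eq_zero_of_projective _) (add_zero 1)
    obtain ⟨φ, rfl⟩ := e₀.surjective y
    exact ⟨φ, hy⟩
  have hker : LinearMap.ker δ = LinearMap.range (LinearMap.lcomp R N i) := by
    ext φ
    constructor
    · intro hφ
      obtain ⟨y, hy⟩ := Abelian.Ext.contravariant_sequence_exact₁ hS _ (e₀ φ) (add_zero 1) hφ
      obtain ⟨g, rfl⟩ := Abelian.Ext.addEquiv₀.symm.surjective y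
      refine ⟨g.hom, ?_⟩
      rw [Abelian.Ext.addEquiv₀_symm_apply, Abelian.Ext.mk₀_comp_mk₀] at hy
      exact congrArg ModuleCat.Hom.hom ((Abelian.Ext.mk₀_bijective _ _).1 hy)
    · rintro ⟨g, rfl⟩
      change hS.extClass.comp (Abelian.Ext.mk₀ (S.f ≫ ModuleCat.ofHom g)) (add_zero 1) = 0
      rw [← Abelian.Ext.mk₀_comp_mk₀, ← Abelian.Ext.comp_assoc _ _ _ (add_zero 1) (zero_add 0) (by omega),
        hS.extClass_comp, Abelian.Ext.zero_comp]
  exact ⟨((Submodule.quotEquivOfEq _ _ hker.symm).trans (δ.quotKerEquivOfSurjective hsurj)).symm⟩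

end Presentation

section Cubical

variable {k : Type u} [Field k] {n : ℕ} {A : Subalgebra k (PowerSeries k)}

local notation "t" => (PowerSeries.X : PowerSeries k)

variable (hA : ∀ f : PowerSeries k, f ∈ A ↔ ∀ m : ℕ, PowerSeries.coeff m f ≠ 0 → (m = 0 ∨ n ≤ m))

include hA

lemma X_pow_mul_mem (f : PowerSeries k) : t ^ n * f ∈ A := by
  refine (hA _).2 fun m hm => Or.inr ?_
  by_contra hlt
  exact hm (by rw [PowerSeries.coeff_X_pow_mul', if_neg hlt])

lemma C_mem (a : k) : PowerSeries.C a ∈ A := A.algebraMap_mem a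

lemma exists_eq (a : ↥A) : ∃ h : PowerSeries k,
    (a : PowerSeries k) = PowerSeries.C (PowerSeries.constantCoeff (a : PowerSeries k)) + t ^ n * h := by
  have h1 : t ^ n ∣ (a : PowerSeries k) -
      PowerSeries.C (PowerSeries.constantCoeff (a : PowerSeries k)) := by
    refine PowerSeries.X_pow_dvd_iff.2 fun m hm => ?_
    rcases Nat.eq_zero_or_pos m with rfl | hm0
    · simp
    · rw [map_sub, PowerSeries.coeff_C, if_neg hm0.ne', sub_zero]
      by_contra hne
      exact ((hA _).1 a.2 m hne).elim hm0.ne' (not_le.2 hm)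
  obtain ⟨h, hh⟩ := h1
  exact ⟨h, by rw [← hh]; ring⟩

/-- A linear map out of `k[[t]]` is a multiplication. -/
lemma map_eq_mul {N : Type u} [AddCommGroup N] [Module ↥A N] (ιN : N →ₗ[↥A] PowerSeries k)
    (φ : PowerSeries k →ₗ[↥A] N) (f : PowerSeries k) : ιN (φ f) = ιN (φ 1) * f := by
  have h1 : (⟨t ^ n * f, X_pow_mul_mem hA f⟩ : ↥A) • (1 : PowerSeries k) =
      (⟨t ^ n * 1, X_pow_mul_mem hA 1⟩ : ↥A) • f := by
    rw [Subalgebra.smul_def, Subalgebra.smul_def, smul_eq_mul, smul_eq_mul]
    ring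
  have h2 : ιN (φ ((⟨t ^ n * f, X_pow_mul_mem hA f⟩ : ↥A) • (1 : PowerSeries k))) =
      ιN (φ ((⟨t ^ n * 1, X_pow_mul_mem hA 1⟩ : ↥A) • f)) := congrArg (fun x => ιN (φ x)) h1
  rw [map_smul, map_smul, map_smul, map_smul, Subalgebra.smul_def, Subalgebra.smul_def,
    smul_eq_mul, smul_eq_mul] at h2
  refine mul_left_cancel₀ (pow_ne_zero n (PowerSeries.X_ne_zero (R := k))) ?_
  calc t ^ n * ιN (φ f) = t ^ n * 1 * ιN (φ f) := by ring
    _ = t ^ n * f * ιN (φ 1) := h2.symm
    _ = t ^ n * (ιN (φ 1) * f) := by ring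

set_option maxHeartbeats 1600000 in
/-- `Ext¹` of monomial modules over a cubical ring. -/
theorem length_ext {σ : Type} [Fintype σ] (e : σ → ℕ) (he1 : ∀ s, 1 ≤ e s) (he2 : ∀ s, e s < n)
    (heinj : Function.Injective e)
    {M N : Type u} [AddCommGroup M] [Module ↥A M] [AddCommGroup N] [Module ↥A N]
    (ιM : M →ₗ[↥A] PowerSeries k) (hιM : Function.Injective ιM)
    (hrM : ∀ f, f ∈ LinearMap.range ιM ↔
      ∀ m, PowerSeries.coeff m f ≠ 0 → (m = 0 ∨ m ∈ Set.range e ∨ n ≤ m))
    (ιN : N →ₗ[↥A] PowerSeries k) (hιN : Function.Injective ιN)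
    (T : Finset ℕ) (c : ℕ) (hc : c ≤ n) (hT : ∀ a ∈ T, a < c) (hc' : c = 0 ∨ c - 1 ∉ T)
    (hrN : ∀ f, f ∈ LinearMap.range ιN ↔ ∀ m, PowerSeries.coeff m f ≠ 0 → (m ∈ T ∨ c ≤ m))
    (Q : Finset ℕ) (hQ : ∀ p, p ∈ Q ↔ c ≤ p ∧ p < n + c ∧ (p < n ∨ p - n ∉ T))
    (L : (↥T → k) →ₗ[k] (σ × ↥Q → k))
    (hL : ∀ (w : ↥T → k) (s : σ) (p : ↥Q),
      L w (s, p) = if n + e s ≤ (p : ℕ) then
        (if h : (p : ℕ) - (n + e s) ∈ T then w ⟨_, h⟩ else 0) else 0) :
    Module.length ↥A (Abelian.Ext (ModuleCat.of ↥A M) (ModuleCat.of ↥A N) 1) =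
      ((Fintype.card σ * Q.card - Module.finrank k (LinearMap.range L) : ℕ) : ℕ∞) := by
  classical
  let T' : Option σ → ℕ := fun o => o.elim 0 e
  -- the presentation
  let q₀ : (Option σ → ↥A) →ₗ[↥A] PowerSeries k :=
    ∑ o, (LinearMap.toSpanSingleton ↥A (PowerSeries k) (t ^ T' o)).comp (LinearMap.proj o)
  have hq₀ : ∀ x : Option σ → ↥A, q₀ x = (x none : PowerSeries k) +
      ∑ s, (x (some s) : PowerSeries k) * t ^ e s := by
    intro x
    simp [q₀, Fintype.sum_option, T', Subalgebra.smul_def]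
  have hq₀mem : ∀ x, q₀ x ∈ LinearMap.range ιM := by
    intro x
    rw [hq₀]
    refine add_mem ((hrM _).2 fun m hm => ((hA _).1 (x none).2 m hm).imp id Or.inr)
      (sum_mem fun s _ => (hrM _).2 fun m hm => ?_)
    rw [PowerSeries.coeff_mul_X_pow'] at hm
    split_ifs at hm with hle
    · rcases (hA _).1 (x (some s)).2 _ hm with h | h
      · exact Or.inr (Or.inl ⟨s, by omega⟩)
      · exact Or.inr (Or.inr (by omega))
    · exact absurd rfl hm
  let eM := LinearEquiv.ofInjective ιM hιM
  let π : (Option σ → ↥A) →ₗ[↥A] M := eM.symm.toLinearMap.comp (q₀.codRestrict _ hq₀mem)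
  have hπι : ∀ x, ιM (π x) = q₀ x := fun x => by
    change ιM (eM.symm ⟨q₀ x, hq₀mem x⟩) = q₀ x
    exact congrArg Subtype.val (eM.apply_symm_apply ⟨q₀ x, hq₀mem x⟩)
  have hπ : Function.Surjective π := by
    intro y
    let f := ιM y
    have hf := (hrM f).1 ⟨y, rfl⟩
    obtain ⟨h, hh⟩ : t ^ n ∣ f - (PowerSeries.C (PowerSeries.coeff 0 f) +
        ∑ s, PowerSeries.C (PowerSeries.coeff (e s) f) * t ^ e s) := by
      refine PowerSeries.X_pow_dvd_iff.2 fun m hm => ?_
      simp only [map_sub, map_add, map_sum, PowerSeries.coeff_C, PowerSeries.coeff_C_mul,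
        PowerSeries.coeff_X_pow, mul_ite, mul_one, mul_zero]
      by_cases h0 : m = 0
      · subst h0
        rw [Finset.sum_eq_zero fun s _ => if_neg (by have := he1 s; omega)]
        simp
      rw [if_neg h0, zero_add]
      by_cases hr : m ∈ Set.range e
      · obtain ⟨s, rfl⟩ := hr
        rw [Finset.sum_eq_single s (fun b _ hb => if_neg fun hbe => hb (heinj hbe.symm))
          (fun hs => absurd (Finset.mem_univ s) hs), if_pos rfl, sub_self]
      · rw [Finset.sum_eq_zero fun s _ => if_neg fun hse => hr ⟨s, hse.symm⟩, sub_zero]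
        by_contra hne
        exact (hf m hne).elim h0 fun h => h.elim hr (not_le.2 hm)
    refine ⟨fun o => o.elim ⟨PowerSeries.C (PowerSeries.coeff 0 f) + t ^ n * h,
      add_mem (C_mem hA _) (X_pow_mul_mem hA h)⟩
      (fun s => ⟨PowerSeries.C (PowerSeries.coeff (e s) f), C_mem hA _⟩), hιM ?_⟩
    rw [hπι, hq₀]
    change PowerSeries.C (PowerSeries.coeff 0 f) + t ^ n * h +
      ∑ s, PowerSeries.C (PowerSeries.coeff (e s) f) * t ^ e s = f
    linear_combination -hh
  -- the kernel
  let Φ₀ : (σ → PowerSeries k) →ₗ[↥A] (Option σ → ↥A) :=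
    LinearMap.pi fun o =>
      { toFun := fun b => o.elim ⟨t ^ n * -∑ j, b j * t ^ e j, X_pow_mul_mem hA _⟩
          (fun s => ⟨t ^ n * b s, X_pow_mul_mem hA _⟩)
        map_add' := fun a b => by
          cases o <;> refine Subtype.ext ?_
          · simp [add_mul, Finset.sum_add_distrib, mul_add]
            ring
          · simp [mul_add]
        map_smul' := fun r b => by
          cases o <;> refine Subtype.ext ?_
          · simp [Subalgebra.smul_def, Finset.mul_sum, mul_assoc, mul_comm, mul_left_comm]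
          · simp [Subalgebra.smul_def, mul_left_comm] }
  have hΦn : ∀ b, ((Φ₀ b none : ↥A) : PowerSeries k) = t ^ n * -∑ j, b j * t ^ e j := fun b => rfl
  have hΦs : ∀ b s, ((Φ₀ b (some s) : ↥A) : PowerSeries k) = t ^ n * b s := fun b s => rfl
  have htn : (t ^ n : PowerSeries k) ≠ 0 := pow_ne_zero n (PowerSeries.X_ne_zero (R := k))
  have hΦinj : Function.Injective Φ₀ := by
    intro b b' h
    funext s
    have := congrArg (fun x => ((x (some s) : ↥A) : PowerSeries k)) h
    simp only [hΦs] at this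
    exact mul_left_cancel₀ htn this
  have hexact : Function.Exact Φ₀ π := by
    intro x
    constructor
    · intro hx
      have h0 : q₀ x = 0 := by rw [← hπι, hx, map_zero]
      have hcz : ∀ s, PowerSeries.constantCoeff (x (some s) : PowerSeries k) = 0 := by
        intro s
        have := congrArg (PowerSeries.coeff (e s)) h0
        rw [hq₀, map_add, map_sum, map_zero] at this
        have hn0 : PowerSeries.coeff (e s) (x none : PowerSeries k) = 0 := by
          by_contra hne
          have := (hA _).1 (x none).2 _ hne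
          have := he1 s
          have := he2 s
          omega
        rw [hn0, zero_add, Finset.sum_eq_single s (fun b _ hb => ?_)
          (fun hs => absurd (Finset.mem_univ s) hs)] at this
        · rwa [PowerSeries.coeff_mul_X_pow', if_pos le_rfl, Nat.sub_self,
            PowerSeries.coeff_zero_eq_constantCoeff] at this
        · rw [PowerSeries.coeff_mul_X_pow']
          split_ifs with hle
          · by_contra hne
            rcases (hA _).1 (x (some b)).2 _ hne with h | h
            · exact hb (heinj (by omega))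
            · have := he2 s
              omega
          · rfl
      choose b hb using fun s => exists_eq hA (x (some s))
      refine ⟨b, funext fun o => Subtype.ext ?_⟩
      cases o with
      | none =>
        rw [hΦn]
        rw [hq₀] at h0
        rw [Finset.sum_congr rfl fun s _ => show (x (some s) : PowerSeries k) * t ^ e s =
          t ^ n * (b s * t ^ e s) by rw [hb s, hcz s, map_zero, zero_add, mul_assoc],
          ← Finset.mul_sum] at h0
        linear_combination -h0
      | some s =>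
        rw [hΦs]
        conv_rhs => rw [hb s, hcz s, map_zero, zero_add]
    · rintro ⟨b, rfl⟩
      refine hιM ?_
      rw [hπι, map_zero, hq₀, hΦn]
      simp only [hΦs, mul_assoc, ← Finset.mul_sum]
      ring
  obtain ⟨E⟩ := exists_extOne_equiv (N := N) Φ₀ π hΦinj hπ hexact
  rw [E.length_eq]
  -- homomorphisms out of the kernel
  let g : ((σ → PowerSeries k) →ₗ[↥A] N) → σ → PowerSeries k := fun φ s => ιN (φ (Pi.single s 1))
  have hgφ : ∀ (φ : (σ → PowerSeries k) →ₗ[↥A] N) b, ιN (φ b) = ∑ s, g φ s * b s := by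
    intro φ b
    conv_lhs => rw [← Finset.univ_sum_single b]
    rw [map_sum, map_sum]
    exact Finset.sum_congr rfl fun s _ =>
      map_eq_mul hA ιN (φ.comp (LinearMap.single ↥A (fun _ => PowerSeries k) s)) (b s)
  have hgc : ∀ φ s m, m < c → PowerSeries.coeff m (g φ s) = 0 := by
    intro φ s
    by_contra hne
    push Not at hne
    obtain ⟨m, hmc, hm⟩ := hne
    have hg0 : g φ s ≠ 0 := fun h => hm (by rw [h, map_zero])
    obtain ⟨r, hr⟩ : ∃ r : ℕ, (g φ s).order = r :=
      ⟨(g φ s).order.toNat, (ENat.coe_toNat (by rw [Ne, PowerSeries.order_eq_top]; exact hg0)).symm⟩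
    have hrm : r ≤ m := by
      have := PowerSeries.order_le m hm
      rw [hr] at this
      exact_mod_cast this
    obtain ⟨u, hu⟩ : t ^ r ∣ g φ s := PowerSeries.X_pow_dvd_iff.2 fun j hj =>
      PowerSeries.coeff_of_lt_order _ (by rw [hr]; exact_mod_cast hj)
    have hu0 : PowerSeries.constantCoeff u ≠ 0 := by
      have := ((PowerSeries.order_eq_nat).1 hr).1
      rwa [hu, PowerSeries.coeff_X_pow_mul', if_pos le_rfl, Nat.sub_self,
        PowerSeries.coeff_zero_eq_constantCoeff] at this
    have hmem := (hrN _).1 ⟨φ (Pi.single s (t ^ (c - 1 - r) * u⁻¹)), rfl⟩ (c - 1) (by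
      rw [hgφ, Finset.sum_eq_single s (fun b _ hb => by simp [Pi.single_eq_of_ne hb])
        (fun hs => absurd (Finset.mem_univ s) hs), Pi.single_eq_same, hu,
        show t ^ r * u * (t ^ (c - 1 - r) * u⁻¹) = t ^ r * t ^ (c - 1 - r) * (u * u⁻¹) by ring,
        PowerSeries.mul_inv_cancel _ hu0, mul_one, ← pow_add,
        show r + (c - 1 - r) = c - 1 by omega, PowerSeries.coeff_X_pow_self]
      exact one_ne_zero)
    rcases hmem with h | h
    · exact hc'.elim (fun h0 => by omega) (fun hh => hh h)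
    · omega
  -- the residue action
  let ε : ↥A →+* k := PowerSeries.constantCoeff.comp A.val.toRingHom
  letI : Algebra ↥A k := ε.toAlgebra
  have hεsurj : Function.Surjective (algebraMap ↥A k) := fun a =>
    ⟨⟨PowerSeries.C a, C_mem hA a⟩, PowerSeries.constantCoeff_C a⟩
  let Ψ : ((σ → PowerSeries k) →ₗ[↥A] N) →ₗ[↥A] (σ × ↥Q → k) :=
    { toFun := fun φ sp => PowerSeries.coeff (sp.2 : ℕ) (g φ sp.1)
      map_add' := fun φ φ' => by funext sp; simp [g]
      map_smul' := fun r φ => by
        funext sp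
        obtain ⟨h, hh⟩ := exists_eq hA r
        have h1 : g (r • φ) sp.1 = (r : PowerSeries k) * g φ sp.1 := by
          change ιN (r • φ (Pi.single sp.1 1)) = _
          rw [map_smul, Subalgebra.smul_def, smul_eq_mul]
        rw [RingHom.id_apply, h1, Pi.smul_apply, Algebra.smul_def]
        change _ = PowerSeries.constantCoeff (r : PowerSeries k) * _
        conv_lhs => rw [hh, add_mul, map_add, PowerSeries.coeff_C_mul, mul_assoc,
          PowerSeries.coeff_X_pow_mul']
        rw [add_eq_left]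
        split_ifs with hle
        · rw [PowerSeries.coeff_mul]
          refine Finset.sum_eq_zero fun x hx => ?_
          rw [Finset.HasAntidiagonal.mem_antidiagonal] at hx
          have := ((hQ _).1 sp.2.2).2.1
          rw [hgc φ sp.1 x.2 (by omega), mul_zero]
        · rfl }
  haveI : IsScalarTower ↥A k (σ × ↥Q → k) := inferInstance
  let Lr := (LinearMap.range L).restrictScalars ↥A
  let Θ := Lr.mkQ.comp Ψ
  have hΘsurj : Function.Surjective Θ := by
    intro y
    obtain ⟨v, rfl⟩ := Lr.mkQ_surjective y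
    let G : σ → PowerSeries k := fun s => ∑ p : ↥Q, PowerSeries.C (v (s, p)) * t ^ (p : ℕ)
    let φ₀ : (σ → PowerSeries k) →ₗ[↥A] PowerSeries k :=
      ∑ s, (LinearMap.mulLeft ↥A (G s)).comp (LinearMap.proj s)
    have hφ₀ : ∀ b, φ₀ b = ∑ s, G s * b s := fun b => by simp [φ₀]
    have hφ₀mem : ∀ b, φ₀ b ∈ LinearMap.range ιN := fun b => by
      rw [hφ₀]
      refine sum_mem fun s _ => (hrN _).2 fun m hm => Or.inr ?_
      by_contra hlt
      refine hm ?_
      simp only [G, Finset.sum_mul, map_sum]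
      refine Finset.sum_eq_zero fun p _ => ?_
      rw [mul_assoc, PowerSeries.coeff_C_mul, PowerSeries.coeff_X_pow_mul', if_neg, mul_zero]
      have := ((hQ _).1 p.2).1
      omega
    let eN := LinearEquiv.ofInjective ιN hιN
    refine ⟨eN.symm.toLinearMap.comp (φ₀.codRestrict _ hφ₀mem), congrArg Lr.mkQ ?_⟩
    funext sp
    obtain ⟨s, p⟩ := sp
    change PowerSeries.coeff (p : ℕ) (ιN (eN.symm ⟨φ₀ (Pi.single s 1), hφ₀mem _⟩)) = v (s, p)
    rw [show ιN (eN.symm ⟨φ₀ (Pi.single s 1), hφ₀mem _⟩) = φ₀ (Pi.single s 1) from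
        congrArg Subtype.val (eN.apply_symm_apply ⟨φ₀ (Pi.single s 1), hφ₀mem _⟩),
      hφ₀, Finset.sum_eq_single s (fun b _ hb => by simp [Pi.single_eq_of_ne hb])
        (fun hs => absurd (Finset.mem_univ s) hs), Pi.single_eq_same, mul_one]
    simp only [G, map_sum, PowerSeries.coeff_C_mul, PowerSeries.coeff_X_pow, mul_ite, mul_one,
      mul_zero]
    rw [Finset.sum_eq_single p (fun b _ hb => if_neg fun h => hb (Subtype.ext h.symm))
      (fun hs => absurd (Finset.mem_univ p) hs), if_pos rfl]
  have hrange : ∀ (v : (Option σ → ↥A) →ₗ[↥A] N) s, g (LinearMap.lcomp ↥A N Φ₀ v) s =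
      t ^ n * ιN (v (Pi.single (some s) 1)) - t ^ (n + e s) * ιN (v (Pi.single none 1)) := by
    intro v s
    change ιN (v (Φ₀ (Pi.single s 1))) = _
    have hv : ∀ x : Option σ → ↥A, ιN (v x) = (x none : PowerSeries k) * ιN (v (Pi.single none 1)) +
        ∑ j, (x (some j) : PowerSeries k) * ιN (v (Pi.single (some j) 1)) := fun x => by
      have : ∀ o, Pi.single o (x o) = x o • (Pi.single o 1 : Option σ → ↥A) := fun o => by
        rw [← Pi.single_smul, smul_eq_mul, mul_one]
      conv_lhs => rw [← Finset.univ_sum_single x]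
      rw [map_sum, map_sum, Fintype.sum_option]
      congr 1
      · rw [this, map_smul, map_smul, Subalgebra.smul_def, smul_eq_mul]
      · refine Finset.sum_congr rfl fun j _ => ?_
        rw [this, map_smul, map_smul, Subalgebra.smul_def, smul_eq_mul]
    rw [hv, hΦn, Finset.sum_eq_single s (fun b _ hb => by simp [Pi.single_eq_of_ne hb])
      (fun hs => absurd (Finset.mem_univ s) hs)]
    simp only [hΦs]
    rw [Finset.sum_eq_single s (fun b _ hb => by simp [hΦs, Pi.single_eq_of_ne hb])
      (fun hs => absurd (Finset.mem_univ s) hs)]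
    simp only [Pi.single_eq_same]
    ring
  have hΘker : LinearMap.ker Θ = LinearMap.range (LinearMap.lcomp ↥A N Φ₀) := by
    ext φ
    rw [LinearMap.mem_ker, show Θ φ = Lr.mkQ (Ψ φ) from rfl, Submodule.mkQ_apply,
      Submodule.Quotient.mk_eq_zero]
    constructor
    · rintro ⟨w, hw⟩
      have hw' : ∀ s p, L w (s, p) = PowerSeries.coeff (p : ℕ) (g φ s) := fun s p => congrFun hw (s, p)
      let v₀ : PowerSeries k := -∑ a : ↥T, PowerSeries.C (w a) * t ^ (a : ℕ)
      have hv₀c : ∀ m, PowerSeries.coeff m v₀ = if h : m ∈ T then -w ⟨m, h⟩ else 0 := fun m => by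
        simp only [v₀, map_neg, map_sum, PowerSeries.coeff_C_mul, PowerSeries.coeff_X_pow, mul_ite,
          mul_one, mul_zero]
        split_ifs with h
        · rw [Finset.sum_eq_single (⟨m, h⟩ : ↥T) (fun b _ hb => if_neg fun hh => hb (Subtype.ext hh.symm))
            (fun hs => absurd (Finset.mem_univ _) hs), if_pos rfl]
        · rw [Finset.sum_eq_zero fun b _ => if_neg fun hh => h (by rw [hh]; exact b.2), neg_zero]
      have hv₀ : v₀ ∈ LinearMap.range ιN := (hrN _).2 fun m hm => Or.inl (by
        by_contra h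
        exact hm (by rw [hv₀c, dif_neg h]))
      have hdvd : ∀ s, t ^ n ∣ g φ s + t ^ (n + e s) * v₀ := fun s => by
        refine PowerSeries.X_pow_dvd_iff.2 fun m hm => ?_
        rw [map_add, PowerSeries.coeff_X_pow_mul', if_neg (by omega), add_zero]
        rcases lt_or_ge m c with hmc | hmc
        · exact hgc φ s m hmc
        · rw [← hw' s ⟨m, (hQ m).2 ⟨hmc, by omega, Or.inl hm⟩⟩, hL, if_neg (by simp only; omega)]
      choose vs hvs using hdvd
      have hvsmem : ∀ s, vs s ∈ LinearMap.range ιN := fun s => (hrN _).2 fun m hm => by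
        by_contra hmT
        push Not at hmT
        refine hm ?_
        have hQm : n + m ∈ Q := (hQ _).2 ⟨by omega, by omega, Or.inr (by
          rw [Nat.add_sub_cancel_left]; exact hmT.1)⟩
        have h2 := congrArg (PowerSeries.coeff (n + m)) (hvs s)
        rw [PowerSeries.coeff_X_pow_mul', if_pos (by omega), Nat.add_sub_cancel_left, map_add,
          ← hw' s ⟨n + m, hQm⟩, hL, PowerSeries.coeff_X_pow_mul'] at h2
        rw [← h2]
        simp only
        by_cases hle : n + e s ≤ n + m
        · rw [if_pos hle, if_pos hle, hv₀c]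
          split_ifs <;> simp
        · rw [if_neg hle, if_neg hle, add_zero]
      obtain ⟨y₀, hy₀⟩ := hv₀
      choose ys hys using hvsmem
      let v : (Option σ → ↥A) →ₗ[↥A] N :=
        ∑ o, (LinearMap.toSpanSingleton ↥A N (o.elim y₀ ys)).comp (LinearMap.proj o)
      have hv : ∀ o, v (Pi.single o 1) = o.elim y₀ ys := fun o => by
        simp only [v, LinearMap.sum_apply, LinearMap.comp_apply, LinearMap.proj_apply,
          LinearMap.toSpanSingleton_apply]
        rw [Finset.sum_eq_single o (fun b _ hb => by rw [Pi.single_eq_of_ne hb, zero_smul])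
          (fun hs => absurd (Finset.mem_univ _) hs), Pi.single_eq_same, one_smul]
      refine ⟨v, LinearMap.ext fun b => hιN ?_⟩
      rw [hgφ, hgφ]
      refine Finset.sum_congr rfl fun s _ => ?_
      rw [hrange, hv, hv]
      change (t ^ n * ιN (ys s) - t ^ (n + e s) * ιN y₀) * b s = g φ s * b s
      rw [hys, hy₀, ← hvs]
      ring
    · rintro ⟨v, rfl⟩
      refine ⟨fun a => -PowerSeries.coeff (a : ℕ) (ιN (v (Pi.single none 1))), ?_⟩
      funext sp
      obtain ⟨s, p⟩ := sp
      change L _ (s, p) = PowerSeries.coeff (p : ℕ) (g _ s)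
      rw [hL, hrange, map_sub, PowerSeries.coeff_X_pow_mul', PowerSeries.coeff_X_pow_mul']
      obtain ⟨hp1, hp2, hp3⟩ := (hQ _).1 p.2
      have key : ∀ y : N, n ≤ (p : ℕ) → (p : ℕ) - n ∉ T → PowerSeries.coeff ((p : ℕ) - n) (ιN y) = 0 :=
        fun y h1 h2 => by
          by_contra hne
          exact ((hrN _).1 ⟨y, rfl⟩ _ hne).elim h2 (by omega)
      have hz : (if n ≤ (p : ℕ) then PowerSeries.coeff ((p : ℕ) - n) (ιN (v (Pi.single (some s) 1))) else 0) = 0 := by
        split_ifs with h1
        · exact key _ h1 (hp3.resolve_left (by omega))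
        · rfl
      rw [hz, zero_sub]
      split_ifs with hle hT'
      · rfl
      · rw [eq_comm, neg_eq_zero]
        by_contra hne
        exact ((hrN _).1 ⟨_, rfl⟩ _ hne).elim hT' (by omega)
      · rw [neg_zero]
  rw [((Submodule.quotEquivOfEq _ _ hΘker.symm).trans (Θ.quotKerEquivOfSurjective hΘsurj)).length_eq,
    (Submodule.Quotient.restrictScalarsEquiv ↥A (LinearMap.range L)).length_eq,
    Module.length_eq_of_surjective (M := (σ × ↥Q → k) ⧸ LinearMap.range L) hεsurj,
    Module.length_eq_finrank, Submodule.finrank_quotient, Module.finrank_pi, Fintype.card_prod,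
    Fintype.card_coe]

/-- Membership in the module spanned by monomials. -/
theorem mem_span_monomials (S : Set ℕ) (hS0 : 0 ∈ S) (hS : ∀ a ∈ S, a < n) (f : PowerSeries k) :
    f ∈ Submodule.span ↥A ((fun a : ℕ => t ^ a) '' S) ↔
      ∀ m, PowerSeries.coeff m f ≠ 0 → (m ∈ S ∨ n ≤ m) := by
  constructor
  · intro hf
    induction hf using Submodule.span_induction with
    | mem x hx =>
      obtain ⟨a, ha, rfl⟩ := hx
      intro m hm
      simp only [PowerSeries.coeff_X_pow, ne_eq, ite_eq_right_iff, one_ne_zero, imp_false,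
        not_not] at hm
      exact Or.inl (hm ▸ ha)
    | zero => intro m hm; exact absurd (map_zero _) hm
    | add x y _ _ hx hy =>
      intro m hm
      rw [map_add] at hm
      by_cases h1 : PowerSeries.coeff m x = 0
      · exact hy m (by rwa [h1, zero_add] at hm)
      · exact hx m h1
    | smul r x _ hx =>
      intro m hm
      rw [Subalgebra.smul_def, smul_eq_mul, PowerSeries.coeff_mul] at hm
      obtain ⟨⟨a, b⟩, hab, hne⟩ := Finset.exists_ne_zero_of_sum_ne_zero hm
      rw [Finset.HasAntidiagonal.mem_antidiagonal] at hab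
      obtain ⟨hne1, hne2⟩ := mul_ne_zero_iff.1 hne
      rcases (hA _).1 r.2 a hne1 with h | h
      · rcases hx b hne2 with h' | h'
        · exact Or.inl (by rw [← hab, h, zero_add]; exact h')
        · exact Or.inr (by omega)
      · exact Or.inr (by omega)
  · intro hf
    classical
    let F : Finset ℕ := (Finset.range n).filter (· ∈ S)
    obtain ⟨h, hh⟩ : t ^ n ∣ f - ∑ a ∈ F, PowerSeries.C (PowerSeries.coeff a f) * t ^ a := by
      refine PowerSeries.X_pow_dvd_iff.2 fun m hm => ?_
      simp only [map_sub, map_sum, PowerSeries.coeff_C_mul, PowerSeries.coeff_X_pow, mul_ite,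
        mul_one, mul_zero, Finset.sum_ite_eq, F, Finset.mem_filter, Finset.mem_range]
      by_cases hmS : m ∈ S
      · rw [if_pos ⟨hm, hmS⟩, sub_self]
      · rw [if_neg fun h => hmS h.2, sub_zero]
        by_contra hne
        exact (hf m hne).elim hmS (not_le.2 hm)
    rw [show f = (⟨t ^ n * h, X_pow_mul_mem hA h⟩ : ↥A) • (t ^ 0) +
        ∑ a ∈ F, (⟨PowerSeries.C (PowerSeries.coeff a f), C_mem hA _⟩ : ↥A) • t ^ a by
      simp only [Subalgebra.smul_def, smul_eq_mul, pow_zero, mul_one]
      linear_combination hh]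
    exact add_mem (Submodule.smul_mem _ _ (Submodule.subset_span ⟨0, hS0, rfl⟩))
      (sum_mem fun a ha => Submodule.smul_mem _ _
        (Submodule.subset_span ⟨a, (Finset.mem_filter.1 ha).2, rfl⟩))

end Cubical

end Groth.Curves2.ExtMonomial
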