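import Mathlib
import Groth.Agent.Curves2.ExtMonomial
import Groth.Agent.Curves2.Colength

/-!
`Ext¹` of two-generated modules `O + O s` inside an over-ring, and of chains of such over-rings.
-/

universe u

open CategoryTheory

namespace Groth.Curves2.ExtTwo

variable {A B : Type u} [CommRing A] [CommRing B] [Algebra A B]

local notation "η" => algebraMap A B

/-- `Ext¹(O + O s, N)` as a quotient of submodules of the over-ring. -/
theorem exists_ext_two (hη : Function.Injective η) (s : B) (b₀ a₀ : A) (ha₀ : η a₀ = η b₀ * s)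
    (hb₀ : IsRegular (η b₀)) {M N : Type u} [AddCommGroup M] [Module A M] [AddCommGroup N]
    [Module A N] (ιM : M →ₗ[A] B) (hιM : Function.Injective ιM)
    (hrM : LinearMap.range ιM = Submodule.span A {1, s})
    (ιN : N →ₗ[A] B) (hιN : Function.Injective ιN) (U W : Submodule A B)
    (hU : ∀ g, g ∈ U ↔ ∀ b a : A, η a = η b * s → ∃ y ∈ LinearMap.range ιN, g * η b = η b₀ * y)
    (hW : ∀ g, g ∈ W ↔
      ∃ y ∈ LinearMap.range ιN, ∃ y' ∈ LinearMap.range ιN, g = η b₀ * (y + s * y')) :
    Nonempty (Abelian.Ext (ModuleCat.of A M) (ModuleCat.of A N) 1 ≃ₗ[A]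
      ↥U ⧸ W.comap U.subtype) := by
  classical
  let q : (Fin 2 → A) →ₗ[A] B :=
    (LinearMap.toSpanSingleton A B 1).comp (LinearMap.proj 0) +
      (LinearMap.toSpanSingleton A B s).comp (LinearMap.proj 1)
  have hq : ∀ x : Fin 2 → A, q x = η (x 0) + η (x 1) * s := fun x => by
    simp [q, Algebra.smul_def]
  have hqmem : ∀ x, q x ∈ LinearMap.range ιM := fun x => by
    rw [hrM, hq, ← mul_one (η (x 0)), ← Algebra.smul_def, ← Algebra.smul_def]
    exact add_mem (Submodule.smul_mem _ _ (Submodule.subset_span (Set.mem_insert _ _)))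
      (Submodule.smul_mem _ _ (Submodule.subset_span (Set.mem_insert_of_mem _ rfl)))
  let eM := LinearEquiv.ofInjective ιM hιM
  let π : (Fin 2 → A) →ₗ[A] M := eM.symm.toLinearMap.comp (q.codRestrict _ hqmem)
  have hπι : ∀ x, ιM (π x) = q x := fun x => by
    change ιM (eM.symm ⟨q x, hqmem x⟩) = q x
    exact congrArg Subtype.val (eM.apply_symm_apply ⟨q x, hqmem x⟩)
  have hπ : Function.Surjective π := fun m => by
    have hm : ιM m ∈ Submodule.span A {1, s} := hrM ▸ LinearMap.mem_range_self ιM m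
    obtain ⟨a, b, hab⟩ := Submodule.mem_span_pair.1 hm
    refine ⟨![a, b], hιM ?_⟩
    rw [hπι, hq, ← hab, Algebra.smul_def, Algebra.smul_def, mul_one]
    rfl
  let I : Submodule A A :=
    (LinearMap.range (Algebra.linearMap A B)).comap (LinearMap.toSpanSingleton A B s)
  have hI : ∀ b, b ∈ I ↔ ∃ a, η a = η b * s := fun b => by
    change (∃ a, η a = b • s) ↔ _
    simp only [Algebra.smul_def]
  choose al hal using fun b : ↥I => (hI b).1 b.2
  let i : ↥I →ₗ[A] (Fin 2 → A) :=
    { toFun := fun b => ![-al b, (b : A)]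
      map_add' := fun b c => by
        funext j
        fin_cases j
        · refine hη ?_
          simp [hal, add_mul]
          ring
        · simp
      map_smul' := fun r b => by
        funext j
        fin_cases j
        · refine hη ?_
          simp [hal, mul_assoc]
        · simp }
  have hi : Function.Injective i := fun b c h => Subtype.ext (congrFun h 1)
  have hexact : Function.Exact i π := by
    intro x
    constructor
    · intro hx
      have h0 : η (x 0) + η (x 1) * s = 0 := by rw [← hq, ← hπι, hx, map_zero]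
      have hmem : x 1 ∈ I := (hI _).2 ⟨-x 0, by rw [map_neg]; linear_combination -h0⟩
      refine ⟨⟨x 1, hmem⟩, funext fun j => ?_⟩
      fin_cases j
      · refine hη ?_
        change η (-al ⟨x 1, hmem⟩) = η (x 0)
        rw [map_neg, hal]
        linear_combination -h0
      · rfl
    · rintro ⟨b, rfl⟩
      refine hιM ?_
      rw [hπι, hq, map_zero]
      change η (-al b) + η (b : A) * s = 0
      rw [map_neg, hal]
      ring
  obtain ⟨E⟩ := Groth.Curves2.ExtMonomial.exists_extOne_equiv (N := N) i π hi hπ hexact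
  let c₀ : ↥I := ⟨b₀, (hI _).2 ⟨a₀, ha₀⟩⟩
  have hev : ∀ (φ : ↥I →ₗ[A] N) (b : ↥I), η (b : A) * ιN (φ c₀) = η b₀ * ιN (φ b) := fun φ b => by
    have h1 : (b : A) • c₀ = b₀ • b := Subtype.ext (mul_comm _ _)
    have h2 : ιN (φ ((b : A) • c₀)) = ιN (φ (b₀ • b)) := by rw [h1]
    rwa [map_smul, map_smul, map_smul, map_smul, Algebra.smul_def, Algebra.smul_def] at h2
  let G₀ : (↥I →ₗ[A] N) →ₗ[A] B :=
    { toFun := fun φ => ιN (φ c₀)
      map_add' := fun φ ψ => map_add ιN _ _
      map_smul' := fun r φ => map_smul ιN r _ }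
  have hG₀mem : ∀ φ, G₀ φ ∈ U := fun φ => (hU _).2 fun b a hab =>
    ⟨ιN (φ ⟨b, (hI b).2 ⟨a, hab⟩⟩), ⟨_, rfl⟩, by
      rw [mul_comm (G₀ φ)]; exact hev φ ⟨b, (hI b).2 ⟨a, hab⟩⟩⟩
  let G := G₀.codRestrict U hG₀mem
  have hGinj : ∀ φ ψ, G₀ φ = G₀ ψ → φ = ψ := fun φ ψ h => LinearMap.ext fun b => hιN (hb₀.left (by
    change η b₀ * ιN (φ b) = η b₀ * ιN (ψ b)
    rw [← hev, ← hev]
    exact congrArg (η (b : A) * ·) h))
  let Θ := (W.comap U.subtype).mkQ.comp G
  have hΘsurj : Function.Surjective Θ := by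
    intro z
    obtain ⟨g, rfl⟩ := (W.comap U.subtype).mkQ_surjective z
    choose y hy hy' using fun b : ↥I => (hU g.1).1 g.2 (b : A) (al b) (hal b)
    choose n hn using hy
    let φ : ↥I →ₗ[A] N :=
      { toFun := n
        map_add' := fun b c => hιN (hb₀.left (by
          change η b₀ * ιN (n (b + c)) = η b₀ * ιN (n b + n c)
          rw [map_add, mul_add, hn, hn, hn, ← hy', ← hy', ← hy']
          simp [mul_add]))
        map_smul' := fun r b => hιN (hb₀.left (by
          change η b₀ * ιN (n (r • b)) = η b₀ * ιN (r • n b)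
          rw [map_smul, Algebra.smul_def, mul_left_comm, hn, hn, ← hy', ← hy']
          simp
          ring)) }
    refine ⟨φ, congrArg (W.comap U.subtype).mkQ (Subtype.ext (hb₀.left ?_))⟩
    change η b₀ * ιN (n c₀) = η b₀ * g.1
    rw [hn, ← hy']
    exact mul_comm _ _
  have hrange : ∀ v : (Fin 2 → A) →ₗ[A] N, G₀ (LinearMap.lcomp A N i v) =
      η b₀ * (ιN (v (Pi.single 1 1)) - s * ιN (v (Pi.single 0 1))) := fun v => by
    change ιN (v ![-al c₀, b₀]) = _
    rw [show (![-al c₀, b₀] : Fin 2 → A) = (-al c₀) • Pi.single 0 1 + b₀ • Pi.single 1 1 by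
      funext j; fin_cases j <;> simp, map_add, map_smul, map_smul, map_add, map_smul, map_smul,
      Algebra.smul_def, Algebra.smul_def, map_neg, hal]
    change -(η b₀ * s) * _ + _ = _
    ring
  have hker : LinearMap.ker Θ = LinearMap.range (LinearMap.lcomp A N i) := by
    ext φ
    rw [LinearMap.mem_ker, show Θ φ = (W.comap U.subtype).mkQ (G φ) from rfl, Submodule.mkQ_apply,
      Submodule.Quotient.mk_eq_zero, Submodule.mem_comap]
    change G₀ φ ∈ W ↔ _
    rw [hW]
    constructor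
    · rintro ⟨_, ⟨y, rfl⟩, _, ⟨y', rfl⟩, h⟩
      let v : (Fin 2 → A) →ₗ[A] N := (LinearMap.toSpanSingleton A N y).comp (LinearMap.proj 1) +
        (LinearMap.toSpanSingleton A N (-y')).comp (LinearMap.proj 0)
      refine ⟨v, hGinj _ _ ?_⟩
      rw [hrange, h]
      simp [v]
    · rintro ⟨v, rfl⟩
      exact ⟨_, ⟨v (Pi.single 1 1), rfl⟩, _, ⟨-v (Pi.single 0 1), rfl⟩, by
        rw [hrange, map_neg]; ring⟩
  exact ⟨E ≪≫ₗ ((Submodule.quotEquivOfEq _ _ hker.symm).trans (Θ.quotKerEquivOfSurjective hΘsurj))⟩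

/-- Multiplication by a power of `x`. -/
noncomputable def mulPow (x : B) (d : ℕ) : B →ₗ[A] B := LinearMap.mulLeft A (x ^ d)

/-- Injective maps preserve relative lengths. -/
lemma length_map_quot {V V' : Type u} [AddCommGroup V] [Module A V] [AddCommGroup V'] [Module A V']
    (f : V →ₗ[A] V') (hf : Function.Injective f) (S T : Submodule A V) :
    Module.length A (↥(T.map f) ⧸ (S.map f).comap (T.map f).subtype) =
      Module.length A (↥T ⧸ S.comap T.subtype) := by
  let e := Submodule.equivMapOfInjective f hf T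
  refine (Submodule.Quotient.equiv _ _ e ?_).length_eq.symm
  ext z
  constructor
  · rintro ⟨t, ht, rfl⟩
    exact ⟨_, ht, rfl⟩
  · rintro ⟨v, hv, hvz⟩
    obtain ⟨t, rfl⟩ := e.surjective z
    refine ⟨t, ?_, rfl⟩
    have hvt : v = (t : V) := hf hvz
    change (t : V) ∈ S
    exact hvt ▸ hv

lemma length_pow_quot (x : B) (hx : IsRegular x) (P : Submodule A B) (hxP : ∀ y ∈ P, x * y ∈ P)
    (e : ℕ∞) (hlen : Module.length A (↥P ⧸ (P.map (mulPow x 1)).comap P.subtype) = e) :
    ∀ l : ℕ, (P.map (mulPow x l) ≤ P) ∧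
      Module.length A (↥P ⧸ (P.map (mulPow x l)).comap P.subtype) = l * e := by
  intro l
  induction l with
  | zero =>
    have h0 : P.map (mulPow (A := A) x 0) = P := by
      ext z; simp [mulPow]
    refine ⟨h0.le, ?_⟩
    rw [Nat.cast_zero, zero_mul, Module.length_eq_zero_iff, Submodule.Quotient.subsingleton_iff,
      h0, Submodule.comap_subtype_self]
  | succ l ih =>
    obtain ⟨hle, hl⟩ := ih
    have hmap : P.map (mulPow (A := A) x (l + 1)) = (P.map (mulPow x 1)).map (mulPow x l) := by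
      rw [← Submodule.map_comp]
      congr 1
      ext z
      simp [mulPow, pow_succ, mul_assoc]
    have hle' : P.map (mulPow (A := A) x (l + 1)) ≤ P.map (mulPow x l) := by
      rw [hmap]
      refine Submodule.map_mono ?_
      rintro _ ⟨y, hy, rfl⟩
      simpa [mulPow] using hxP y hy
    refine ⟨hle'.trans hle, ?_⟩
    let g : ↥P →ₗ[A] ↥P := (mulPow x l).restrict fun y hy => hle ⟨y, hy, rfl⟩
    have hg : Function.Injective g := fun a b h =>
      Subtype.ext ((hx.pow l).left (congrArg Subtype.val h))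
    let f : (↥P ⧸ (P.map (mulPow x 1)).comap P.subtype) →ₗ[A]
        ↥P ⧸ (P.map (mulPow x (l + 1))).comap P.subtype :=
      Submodule.mapQ _ _ g fun y hy => by
        rw [Submodule.mem_comap, Submodule.mem_comap, hmap]
        exact ⟨_, hy, rfl⟩
    have hf : Function.Injective f := by
      rw [injective_iff_map_eq_zero]
      intro z hz
      obtain ⟨y, rfl⟩ := Submodule.Quotient.mk_surjective _ z
      rw [Submodule.mapQ_apply, Submodule.Quotient.mk_eq_zero, Submodule.mem_comap, hmap] at hz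
      obtain ⟨w, hw, hwy⟩ := hz
      rw [Submodule.Quotient.mk_eq_zero, Submodule.mem_comap]
      have : w = (y : B) := (hx.pow l).left hwy
      change (y : B) ∈ _
      rw [← this]
      exact hw
    rw [Module.length_eq_add_of_exact f (Submodule.factor (Submodule.comap_mono hle')) hf
      (Submodule.factor_surjective _) (by
        rw [LinearMap.exact_iff, Submodule.range_mapQ]
        ext z
        obtain ⟨y, rfl⟩ := Submodule.Quotient.mk_surjective _ z
        rw [LinearMap.mem_ker]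
        change Submodule.Quotient.mk y = 0 ↔ _
        rw [Submodule.Quotient.mk_eq_zero, Submodule.mem_comap]
        constructor
        · rintro ⟨w, hw, hwy⟩
          exact ⟨g ⟨w, hw⟩, ⟨⟨w, hw⟩, rfl⟩, congrArg Submodule.Quotient.mk (Subtype.ext hwy)⟩
        · rintro ⟨_, ⟨w, rfl⟩, hwy⟩
          rw [Submodule.mkQ_apply, Submodule.Quotient.eq] at hwy
          have h1 : ((g w : B) - (y : B)) ∈ P.map (mulPow (A := A) x l) := hle' hwy
          have h2 : (g w : B) ∈ P.map (mulPow (A := A) x l) := ⟨w, w.2, rfl⟩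
          simpa using sub_mem h2 h1), hlen, hl, Nat.cast_add, Nat.cast_one, add_mul, one_mul,
      add_comm]

set_option maxHeartbeats 800000 in
/-- `Ext¹` between the members of a chain of two-generated over-rings. -/
theorem length_ext_chain (hη : Function.Injective η) (x : B) (hx : IsRegular x) (δ : ℕ)
    (s : ℕ → B) (P : ℕ → Submodule A B)
    (hPspan : ∀ m ≤ δ, P m = Submodule.span A {1, s m})
    (hP₀ : P 0 = LinearMap.range (Algebra.linearMap A B))
    (hxA : x ∈ P 0)
    (hmono : ∀ a b, a ≤ b → b ≤ δ → P a ≤ P b)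
    (hmul : ∀ m ≤ δ, ∀ f ∈ P m, ∀ g ∈ P m, f * g ∈ P m)
    (hdown : ∀ a b, b ≤ a → a ≤ δ → ∀ y ∈ P a, x ^ (a - b) * y ∈ P b)
    (hD : ∀ a b, b ≤ a → a ≤ δ → ∀ g ∈ P b, g * s a ∈ P b → ∃ y ∈ P a, g = x ^ (a - b) * y)
    (hlen : ∀ m ≤ δ, Module.length A (↥(P m) ⧸ ((P m).map (mulPow x 1)).comap (P m).subtype) = 2)
    {M N : Type u} [AddCommGroup M] [Module A M] [AddCommGroup N] [Module A N]
    (ιM : M →ₗ[A] B) (hιM : Function.Injective ιM) (ιN : N →ₗ[A] B) (hιN : Function.Injective ιN)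
    (i j : ℕ) (hi : i ≤ δ) (hj : j ≤ δ) (hrM : LinearMap.range ιM = P i)
    (hrN : LinearMap.range ιN = P j) :
    Module.length A (Abelian.Ext (ModuleCat.of A M) (ModuleCat.of A N) 1) =
      ((2 * min i j : ℕ) : ℕ∞) := by
  have hone : ∀ m, m ≤ δ → (1 : B) ∈ P m := fun m hm => by
    rw [hPspan m hm]; exact Submodule.subset_span (Set.mem_insert _ _)
  have hs : ∀ m, m ≤ δ → s m ∈ P m := fun m hm => by
    rw [hPspan m hm]; exact Submodule.subset_span (Set.mem_insert_of_mem _ rfl)
  have hinA : ∀ y ∈ P i, ∃ b, η b = x ^ i * y := fun y hy => by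
    have := hdown i 0 (Nat.zero_le _) hi y hy
    rw [hP₀, Nat.sub_zero] at this
    exact this
  obtain ⟨b₀, hb₀⟩ := hinA 1 (hone i hi)
  rw [mul_one] at hb₀
  obtain ⟨a₀, ha₀⟩ := hinA (s i) (hs i hi)
  set m := max i j with hm
  have hmδ : m ≤ δ := max_le hi hj
  obtain ⟨E⟩ := exists_ext_two hη (s i) b₀ a₀ (by rw [ha₀, hb₀]) (by rw [hb₀]; exact hx.pow i)
    ιM hιM (hrM.trans (hPspan i hi)) ιN hιN ((P m).map (mulPow x (i - j)))
    ((P m).map (mulPow x i))
    (fun g => by
      constructor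
      · rintro ⟨y, hy, rfl⟩ b a hab
        obtain ⟨z, hz, hbz⟩ := hD i 0 (Nat.zero_le _) hi (η b) (hP₀ ▸ ⟨b, rfl⟩)
          (hP₀ ▸ ⟨a, hab⟩)
        refine ⟨x ^ (i - j) * (y * z), ?_, ?_⟩
        · rw [hrN]
          have hyz : y * z ∈ P m := hmul m hmδ _ hy _ (hmono i m (le_max_left _ _) hmδ hz)
          rcases le_total i j with h | h
          · rw [show i - j = 0 by omega, pow_zero, one_mul]
            rwa [show m = j by omega] at hyz
          · exact hdown i j h hi _ (by rwa [show m = i by omega] at hyz)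
        · rw [hbz, hb₀, Nat.sub_zero]
          change x ^ (i - j) * y * _ = _
          ring
      · intro hg
        obtain ⟨y, hy, hgy⟩ := hg b₀ a₀ (by rw [ha₀, hb₀])
        rw [hrN] at hy
        rw [hb₀, mul_comm g] at hgy
        obtain rfl : g = y := (hx.pow i).left hgy
        obtain ⟨a₁, ha₁⟩ := hinA (s i * s i) (hmul i hi _ (hs i hi) _ (hs i hi))
        obtain ⟨y', hy', hgy'⟩ := hg a₀ a₁ (by rw [ha₁, ha₀]; ring)
        rw [hrN] at hy'
        rw [ha₀, hb₀, show g * (x ^ i * s i) = x ^ i * (g * s i) by ring] at hgy'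
        have hgs : g * s i ∈ P j := by rw [(hx.pow i).left hgy']; exact hy'
        rcases le_total i j with h | h
        · refine ⟨g, ?_, ?_⟩
          · rw [show m = j by omega]; exact hy
          · simp [mulPow, show i - j = 0 by omega]
        · obtain ⟨z, hz, hgz⟩ := hD i j h hi g hy hgs
          exact ⟨z, by rw [show m = i by omega]; exact hz, hgz.symm⟩)
    (fun g => by
      constructor
      · rintro ⟨y, hy, rfl⟩
        simp only [hrN, hb₀]
        rcases le_total i j with h | h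
        · exact ⟨y, by rwa [show m = j by omega] at hy, 0, zero_mem _, by simp [mulPow]⟩
        · have hy' : y ∈ Submodule.span A {1, s i} := by
            rw [← hPspan i hi]; rwa [show m = i by omega] at hy
          obtain ⟨u, v, rfl⟩ := Submodule.mem_span_pair.1 hy'
          refine ⟨u • 1, Submodule.smul_mem _ _ (hone j hj), v • 1,
            Submodule.smul_mem _ _ (hone j hj), ?_⟩
          change x ^ i * _ = _
          rw [mul_smul_comm, mul_one]
      · rintro ⟨y, hy, y', hy', rfl⟩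
        rw [hrN] at hy hy'
        refine ⟨y + s i * y', ?_, by rw [hb₀]; rfl⟩
        exact add_mem (hmono j m (le_max_right _ _) hmδ hy)
          (hmul m hmδ _ (hmono i m (le_max_left _ _) hmδ (hs i hi)) _
            (hmono j m (le_max_right _ _) hmδ hy')))
  rw [E.length_eq]
  have hxP : ∀ y ∈ P m, x * y ∈ P m := fun y hy =>
    hmul m hmδ _ (hmono 0 m (Nat.zero_le _) hmδ hxA) _ hy
  have hdecomp : (P m).map (mulPow (A := A) x i) =
      ((P m).map (mulPow x (min i j))).map (mulPow x (i - j)) := by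
    rw [← Submodule.map_comp]
    congr 1
    ext z
    simp only [mulPow, LinearMap.comp_apply, LinearMap.mulLeft_apply]
    rw [← mul_assoc, ← pow_add, show i - j + min i j = i by omega]
  rw [hdecomp, length_map_quot (mulPow x (i - j)) (fun a b h => (hx.pow _).left h),
    (length_pow_quot x hx (P m) hxP 2 (hlen m hmδ) (min i j)).2, mul_comm, Nat.cast_mul]
  rfl

lemma length_two_aux {V Y : Type u} [AddCommGroup V] [Module A V] [AddCommGroup Y] [Module A Y]
    (hone : Module.length A Y = 1) (Q : Submodule A V) (Φ₀ : V →ₗ[A] Y) (h₀ : Function.Surjective Φ₀)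
    (Φ₁ : ↥(LinearMap.ker Φ₀) →ₗ[A] Y) (h₁ : Function.Surjective Φ₁)
    (hle : Q ≤ LinearMap.ker Φ₀) (hQ : Q.comap (LinearMap.ker Φ₀).subtype = LinearMap.ker Φ₁) :
    Module.length A (V ⧸ Q) = 2 := by
  rw [Groth.Curves2.Colength.length_quot_add hle,
    ((Submodule.quotEquivOfEq _ _ hQ).trans (Φ₁.quotKerEquivOfSurjective h₁)).length_eq,
    (Φ₀.quotKerEquivOfSurjective h₀).length_eq, hone, one_add_one_eq_two]

/-- A quotient cut out by two residue functionals has length two. -/
theorem length_two {k : Type u} [Field k] (ε : A →+* k) (hε : Function.Surjective ε)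
    (P Q : Submodule A B) (f₀ f₁ : B →+ k)
    (h₀ : ∀ a, ∀ p ∈ P, f₀ (a • p) = ε a * f₀ p)
    (h₁ : ∀ a, ∀ p ∈ P, f₀ p = 0 → f₁ (a • p) = ε a * f₁ p)
    (e₀ : ∃ p ∈ P, f₀ p = 1) (e₁ : ∃ p ∈ P, f₀ p = 0 ∧ f₁ p = 1)
    (hQ : ∀ p ∈ P, (p ∈ Q ↔ f₀ p = 0 ∧ f₁ p = 0)) :
    Module.length A (↥P ⧸ Q.comap P.subtype) = 2 := by
  letI : Algebra A k := ε.toAlgebra
  have hone : Module.length A k = 1 := by
    rw [Module.length_eq_of_surjective (M := k) (show Function.Surjective (algebraMap A k) from hε),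
      Module.length_eq_one]
  let Φ₀ : ↥P →ₗ[A] k :=
    { toFun := fun p => f₀ p, map_add' := fun p q => map_add f₀ _ _
      map_smul' := fun a p => h₀ a p p.2 }
  have hs₀ : Function.Surjective Φ₀ := fun c => by
    obtain ⟨p, hp, hp1⟩ := e₀
    obtain ⟨a, rfl⟩ := hε c
    exact ⟨a • ⟨p, hp⟩, (h₀ a p hp).trans (by rw [hp1, mul_one])⟩
  let Φ₁ : ↥(LinearMap.ker Φ₀) →ₗ[A] k :=
    { toFun := fun p => f₁ (p : ↥P), map_add' := fun p q => map_add f₁ _ _
      map_smul' := fun a p => h₁ a _ p.1.2 p.2 }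
  have hs₁ : Function.Surjective Φ₁ := fun c => by
    obtain ⟨p, hp, hp0, hp1⟩ := e₁
    obtain ⟨a, rfl⟩ := hε c
    exact ⟨a • ⟨⟨p, hp⟩, hp0⟩, (h₁ a p hp hp0).trans (by rw [hp1, mul_one])⟩
  have hker : (Q.comap P.subtype).comap (LinearMap.ker Φ₀).subtype = LinearMap.ker Φ₁ := by
    ext p
    rw [Submodule.mem_comap, Submodule.mem_comap, LinearMap.mem_ker]
    change ((p : ↥P) : B) ∈ Q ↔ f₁ ((p : ↥P) : B) = 0
    rw [hQ _ p.1.2]
    exact ⟨fun h => h.2, fun h => ⟨p.2, h⟩⟩
  exact length_two_aux hone (Q.comap P.subtype) Φ₀ hs₀ Φ₁ hs₁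
    (fun p hp => ((hQ p p.2).1 hp).1) hker

end Groth.Curves2.ExtTwo
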