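import Groth.Agent.Curves2.DefAmple
import Groth.Agent.CohTwo.SheafHomIso
import Groth.Agent.VectorBundles.RefHullStalk
import Groth.Agent.Duality.StalkHom
import Groth.Agent.RefRank.Stalk
import Groth.Agent.Abvar.Seesaw.Core

/-!
# `H¹` of sheaf Homs generated, at the generic points, by line bundles without `H¹`
-/

set_option autoImplicit false
set_option linter.style.haveILetI false
set_option backward.isDefEq.respectTransparency.types false

universe u

open CategoryTheory Limits AlgebraicGeometry TopologicalSpace Opposite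
open Groth.QCohMod (germ exists_germ exists_common_germ stalkTensorEquiv stalkTensorEquiv_tmul)
open Groth.CohTwo.SheafHomIso

namespace Groth.Curves2.NormalSheaf

variable {X : Scheme.{u}}

/-- The value at a point of a curried pairing. -/
theorem curryStalk_pairing {C M L O : X.Modules} (θ : C ⟶ M) (e : CohB1.tensorMod M L ⟶ O) (z : X)
    (v : C.presheaf.stalk z) (l : L.presheaf.stalk z) :
    curryStalk (KoszTw.tensorMap θ (𝟙 L) ≫ e) z l v =
      RefHull.stalkMapₗ e z
        (stalkTensorEquiv M L z (TensorProduct.tmul _ (RefHull.stalkMapₗ θ z v) l)) := by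
  obtain ⟨U, hU, a, b, rfl, rfl⟩ := exists_common_germ z v l
  erw [curryStalk_germ, RefHull.stalkMapₗ_germ θ z hU a, stalkTensorEquiv_tmul,
    RefHull.stalkMapₗ_germ e z hU]
  exact congrArg (fun t => germ O z hU (e.app U t)) (KoszTw.tensorMap_tmul θ (𝟙 L) U a b)

/-- The value at a point of a curried morphism. -/
theorem evalStalk_toHomSh {C L O : X.Modules} (β : CohB1.tensorMod C L ⟶ O) (z : X)
    (l : L.presheaf.stalk z) :
    RefHull.evalStalk C O z (RefHull.stalkMapₗ (toHomSh β) z l) = curryStalk β z l := by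
  obtain ⟨U, hU, b, rfl⟩ := exists_germ L z l
  erw [RefHull.stalkMapₗ_germ, RefHull.evalStalk_germ, toHomSh_app, currySec_val]

/-- Jointly injective maps to a field generate the dual. -/
theorem exists_sum_eq {K V : Type*} [CommRing K] (hK : IsField K) [AddCommGroup V] [Module K V]
    {m : ℕ} (T : Fin m → (V →ₗ[K] K)) (hT : ∀ v, (∀ j, T j v = 0) → v = 0) (φ : V →ₗ[K] K) :
    ∃ c : Fin m → K, φ = ∑ j, c j • T j := by
  letI := hK.toField
  obtain ⟨r, hr⟩ := (LinearMap.pi T).exists_leftInverse_of_injective
    (LinearMap.ker_eq_bot'.2 fun v hv => hT v fun j => congrFun hv j)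
  refine ⟨fun j => φ (r (Pi.single j 1)), LinearMap.ext fun v => ?_⟩
  have h1 : φ v = φ (r (LinearMap.pi T v)) := by
    rw [← LinearMap.comp_apply r, hr, LinearMap.id_apply]
  rw [h1, pi_eq_sum_univ' (LinearMap.pi T v), map_sum, map_sum, LinearMap.sum_apply]
  refine Finset.sum_congr rfl fun j _ => ?_
  rw [map_smul, map_smul, LinearMap.smul_apply, LinearMap.pi_apply, smul_eq_mul, smul_eq_mul,
    mul_comm]

variable (k : Type u) [Field k] [X.Over (Spec (CommRingCat.of k))] [IsNoetherian X]
  (hdim : topologicalKrullDim X ≤ 1)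

include k in
/-- Finite sums of modules without `H¹` have no `H¹`. -/
theorem subsingleton_h1_biproduct {n : ℕ} (L : Fin n → X.Modules) [HasBiproduct L]
    (h : ∀ j, Subsingleton (Coh.HH X (L j) 1)) : Subsingleton (Coh.HH X (⨁ L) 1) := by
  refine subsingleton_of_forall_eq 0 fun z => ?_
  have h2 := congrArg (fun φ => Groth.EulerDeg.hMap k φ 1 z) (biproduct.total (f := L)).symm
  rw [Groth.VBCurves.hMap_sum] at h2
  rw [Groth.EulerDeg.hMap_id, LinearMap.id_apply, LinearMap.sum_apply] at h2
  rw [h2]
  refine Finset.sum_eq_zero fun i _ => ?_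
  haveI := h i
  rw [Groth.EulerDeg.hMap_comp, LinearMap.comp_apply,
    Subsingleton.elim (Groth.EulerDeg.hMap k (biproduct.π L i) 1 z) 0, map_zero]

include k hdim in
/-- `H¹(Hom(C, O)) = 0` when, at the non-closed points, `C` embeds into copies of `M`, and `M` is
dual to a line bundle without `H¹`. -/
theorem subsingleton_h1_sheafHom {C M L : X.Modules} [DCoh.HasSheafHom C] (hC : Coh.IsCoh C)
    (e : CohB1.tensorMod M L ≅ Coh.structureModule X) (hL : PicF.IsInvertible L)
    (hL1 : Subsingleton (Coh.HH X L 1)) {m : ℕ} (θ : Fin m → (C ⟶ M))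
    (hfield : ∀ z : X, ¬ IsClosed ({z} : Set X) → IsField (X.presheaf.stalk z))
    (hθ : ∀ z : X, ¬ IsClosed ({z} : Set X) → ∀ v : C.presheaf.stalk z,
      (∀ j, RefHull.stalkMapₗ (θ j) z v = 0) → v = 0) :
    Subsingleton (Coh.HH X ((DCoh.sheafHom C).obj (Coh.structureModule X)) 1) := by
  let gj : Fin m → (L ⟶ RefHull.homSh C (Coh.structureModule X)) :=
    fun j => toHomSh (KoszTw.tensorMap (θ j) (𝟙 L) ≫ e.hom)
  haveI : HasFiniteBiproducts X.Modules := HasFiniteBiproducts.of_hasFiniteProducts
  let g := biproduct.desc gj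
  have hsupp : Groth.EulerDeg.SupportedAtClosed (cokernel g) := by
    intro z hz
    by_contra hc
    refine hz ?_
    obtain ⟨w⟩ := Groth.Abvar.Seesaw.exists_stalk_equiv hL z
    let q := (Groth.VectorBundles.RefHullStalk.oneEquiv (X := X) z).symm
    let T : Fin m → (C.presheaf.stalk z →ₗ[X.presheaf.stalk z] X.presheaf.stalk z) := fun j =>
      q.toLinearMap ∘ₗ curryStalk (KoszTw.tensorMap (θ j) (𝟙 L) ≫ e.hom) z (w 1)
    have hT : ∀ v, (∀ j, T j v = 0) → v = 0 := fun v hv => hθ z hc v fun j => by
      have h1 := q.injective ((hv j).trans (map_zero q).symm)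
      rw [curryStalk_pairing] at h1
      have hbij := (Groth.RefRank.isIso_iff_bijective_stalk e.hom).1 inferInstance z
      have h2 := (stalkTensorEquiv M L z).injective
        ((hbij.1 (h1.trans (map_zero _).symm)).trans (map_zero _).symm)
      have h3 := congrArg (fun t => TensorProduct.rid _ _ (LinearMap.lTensor _ w.symm.toLinearMap t)) h2
      simpa using h3
    have hsurj : Function.Surjective (RefHull.stalkMapₗ g z) := fun t => by
      obtain ⟨c, hcT⟩ := exists_sum_eq (hfield z hc) T hT
        (q.toLinearMap ∘ₗ RefHull.evalStalk C (Coh.structureModule X) z t)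
      refine ⟨∑ j, c j • RefHull.stalkMapₗ (biproduct.ι (fun _ : Fin m => L) j) z (w 1), ?_⟩
      apply (Groth.VectorBundles.RefHullStalk.evalStalk_bijective_of_isCoh C
        (Coh.structureModule X) hC z).1
      refine LinearMap.ext fun v => q.injective ?_
      have hv := LinearMap.congr_fun hcT v
      simp only [LinearMap.comp_apply, LinearEquiv.coe_coe] at hv
      rw [hv, map_sum, map_sum, LinearMap.sum_apply, LinearMap.sum_apply, map_sum]
      refine Finset.sum_congr rfl fun j _ => ?_
      rw [map_smul, map_smul, LinearMap.smul_apply, LinearMap.smul_apply, map_smul,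
        ← Groth.Duality.StalkHom.stalkMapₗ_comp_apply, biproduct.ι_desc, evalStalk_toHomSh]
      rfl
    refine subsingleton_of_forall_eq 0 fun y => ?_
    obtain ⟨t, rfl⟩ := (Groth.QCohMod.epi_iff_stalk (cokernel.π g)).mp inferInstance z y
    obtain ⟨p, rfl⟩ := hsurj t
    have := congrArg (fun f => ((Groth.QCohMod.stalk z).map f).hom p) (cokernel.condition g)
    simp only [Functor.map_comp, Functor.map_zero] at this
    exact this
  haveI := Groth.Curves2.DefAmple.subsingleton_h1_middle k hdim
    (S := ShortComplex.mk g (cokernel.π g) (cokernel.condition g))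
    (ShortComplex.exact_of_g_is_cokernel _ (cokernelIsCokernel g))
    (subsingleton_h1_biproduct k _ fun _ => hL1)
    (Groth.EulerDeg.subsingleton_HH_of_supportedAtClosed hsupp 1 le_rfl)
  exact (Groth.EulerDeg.hEquiv k (iso C (Coh.structureModule X)) 1).toEquiv.subsingleton

end Groth.Curves2.NormalSheaf
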