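import Groth.Agent.OmegaSheaf.ConormalExact
import Groth.Agent.OmegaSheaf.ConormalSmooth
import Groth.Agent.QCohMod.Stalk

/-!
# The conormal map is injective at the smooth points
-/

set_option autoImplicit false
set_option backward.isDefEq.respectTransparency.types false

universe u

open CategoryTheory Limits AlgebraicGeometry Opposite TopologicalSpace TensorProduct

namespace Groth.Curves2.NormalSheaf

open Groth.OmegaSheaf
open Groth.QCohMod (res res_res res_smul res_app res_self sectionsAlg germ germ_res exists_germ)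

variable {Z X Y : Scheme.{u}} {f : X ⟶ Y} {i : Z ⟶ X} [IsImmersion i] [QuasiCompact i]

theorem injective_stalk_conormalDiff {Ω : X.Modules} {d : OmegaSh.Der f Ω}
    (hd : OmegaSh.IsUniversal d) {φ : Omega.conormal i ⟶ (Scheme.Modules.pullback i).obj Ω}
    (hφ : OmegaSh.IsConormalDiff i d φ) (O : Z.Opens) (hO : Smooth (O.ι ≫ i ≫ f)) {z : Z}
    (hz : z ∈ O) : Function.Injective ((Groth.QCohMod.stalk z).map φ).hom := by
  refine (injective_iff_map_eq_zero _).2 fun v hv => ?_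
  obtain ⟨W, hzW, m, rfl⟩ := exists_germ (Omega.conormal i) z v
  erw [Groth.QCohMod.stalk_map_germ φ z hzW m] at hv
  obtain ⟨W', hzW', i₁, i₂, hW'⟩ := TopCat.Presheaf.germ_eq
    ((Scheme.Modules.pullback i).obj Ω).presheaf z hzW hzW (φ.app W m) 0
    (Eq.trans hv (map_zero (TopCat.Presheaf.germ ((Scheme.Modules.pullback i).obj Ω).presheaf W z hzW).hom).symm)
  rw [map_zero] at hW'
  obtain ⟨W₁, hW₁, hpre⟩ := (Scheme.Hom.isEmbedding i).isInducing.isOpen_iff.1 (W' ⊓ O).2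
  obtain ⟨c₀, hc₀, hle₀⟩ := exists_chart f (x := i z) (W := ⟨W₁, hW₁⟩)
    (by show z ∈ i ⁻¹' W₁; rw [hpre]; exact ⟨hzW', hz⟩)
  obtain ⟨W₂, hW, hzW₂, hle⟩ := exists_conormalChart i z hc₀
  let c₁ : Chart f := ⟨W₂, c₀.V, hW.affine, c₀.hV, hle.trans c₀.e⟩
  have hsub : i ⁻¹ᵁ c₁.U ≤ W' ⊓ O := fun y hy => by
    have : y ∈ i ⁻¹' W₁ := hle₀ (hle hy)
    rw [hpre] at this
    exact this
  have hW'' : i ⁻¹ᵁ c₁.U ≤ W := (hsub.trans inf_le_left).trans i₁.le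
  obtain ⟨k, hk⟩ := hW.conormalSect_surjective (res _ hW'' m)
  have hm : φ.app (i ⁻¹ᵁ c₁.U) (OmegaSh.conormalSect i c₁.U k) = 0 := by
    rw [hk, ← res_app φ hW'' m, ← res_res ((Scheme.Modules.pullback i).obj Ω)
      i₁.le (hsub.trans inf_le_left)]
    exact (congrArg _ hW').trans (map_zero _)
  rw [← germ_res (Omega.conormal i) hW'' z hzW₂ m, ← hk]
  refine (congrArg _ ?_).trans (map_zero _)
  rw [app_conormalSect_chart hd hφ c₁ hW] at hm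
  let _ := chartAlg f c₁.e
  let _ : Algebra Γ(Y, c₁.V) Γ(Z, i ⁻¹ᵁ c₁.U) :=
    ((i ≫ f).appLE c₁.V (i ⁻¹ᵁ c₁.U) (i.preimage_mono c₁.e)).hom.toAlgebra
  let _ := sectionsAlg i (le_refl (i ⁻¹ᵁ c₁.U))
  have : IsScalarTower Γ(Y, c₁.V) Γ(X, c₁.U) Γ(Z, i ⁻¹ᵁ c₁.U) :=
    IsScalarTower.of_algebraMap_eq fun r ↦ (appLE_appLE_chart c₁ r).symm
  have hsurj : Function.Surjective (algebraMap Γ(X, c₁.U) Γ(Z, i ⁻¹ᵁ c₁.U)) := by
    change Function.Surjective (i.appLE c₁.U (i ⁻¹ᵁ c₁.U) le_rfl)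
    rw [← Scheme.Hom.app_eq_appLE]
    exact hW.surjective
  have hle' : i ⁻¹ᵁ c₁.U ≤ O := hsub.trans inf_le_right
  have : Algebra.FormallySmooth Γ(Y, c₁.V) Γ(Z, i ⁻¹ᵁ c₁.U) := by
    have hsm : ((O.ι ≫ i ≫ f).appLE c₁.V (O.ι ⁻¹ᵁ (i ⁻¹ᵁ c₁.U))
        (O.ι.preimage_mono (i.preimage_mono c₁.e))).hom.Smooth :=
      (O.ι ≫ i ≫ f).smooth_appLE c₁.hV
        (hW.affine_preimage.preimage_of_isOpenImmersion O.ι (by
          rw [Scheme.Opens.opensRange_ι]; exact hle')) _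
    rw [← Scheme.Hom.appLE_comp_appLE O.ι (i ≫ f) c₁.V (i ⁻¹ᵁ c₁.U) _ (i.preimage_mono c₁.e) le_rfl,
      CommRingCat.hom_comp] at hsm
    have : IsIso (O.ι.appLE (i ⁻¹ᵁ c₁.U) (O.ι ⁻¹ᵁ (i ⁻¹ᵁ c₁.U)) le_rfl) := by
      rw [← Scheme.Hom.app_eq_appLE]
      exact Scheme.Hom.isIso_app _ _ (by rw [Scheme.Opens.opensRange_ι]; exact hle')
    let e := (asIso (O.ι.appLE (i ⁻¹ᵁ c₁.U) (O.ι ⁻¹ᵁ (i ⁻¹ᵁ c₁.U)) le_rfl)).symm.commRingCatIsoToRingEquiv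
    have h2 := RingHom.Smooth.respectsIso.1 _ e hsm
    rw [← RingHom.comp_assoc] at h2
    have h3 : ((i ≫ f).appLE c₁.V (i ⁻¹ᵁ c₁.U) (i.preimage_mono c₁.e)).hom.Smooth := by
      convert h2
      refine RingHom.ext fun r => ?_
      exact (RingHom.congr_fun (congrArg CommRingCat.Hom.hom (IsIso.hom_inv_id
        (O.ι.appLE (i ⁻¹ᵁ c₁.U) (O.ι ⁻¹ᵁ (i ⁻¹ᵁ c₁.U)) le_rfl))) _).symm
    exact h3.formallySmooth
  let I := RingHom.ker (algebraMap Γ(X, c₁.U) Γ(Z, i ⁻¹ᵁ c₁.U))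
  let g : (Γ(X, c₁.U) ⧸ I ^ 2) →ₐ[Γ(Y, c₁.V)] Γ(Z, i ⁻¹ᵁ c₁.U) :=
    Ideal.Quotient.liftₐ (I ^ 2) (IsScalarTower.toAlgHom Γ(Y, c₁.V) Γ(X, c₁.U) Γ(Z, i ⁻¹ᵁ c₁.U))
      fun a ha => RingHom.mem_ker.1 (Ideal.pow_le_self two_ne_zero ha)
  have hg : Function.Surjective g := fun b => by
    obtain ⟨a, rfl⟩ := hsurj b
    exact ⟨Ideal.Quotient.mk _ a, rfl⟩
  have hnil : IsNilpotent (RingHom.ker (g : (Γ(X, c₁.U) ⧸ I ^ 2) →+* Γ(Z, i ⁻¹ᵁ c₁.U))) := by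
    refine ⟨2, eq_bot_iff.2 ?_⟩
    have hker : RingHom.ker (g : (Γ(X, c₁.U) ⧸ I ^ 2) →+* Γ(Z, i ⁻¹ᵁ c₁.U)) ≤
        I.map (Ideal.Quotient.mk (I ^ 2)) := fun q hq => by
      obtain ⟨a, rfl⟩ := Ideal.Quotient.mk_surjective q
      exact Ideal.mem_map_of_mem _ hq
    refine (Ideal.pow_right_mono hker 2).trans ?_
    rw [← Ideal.map_pow, Ideal.map_quotient_self]
  let s := Algebra.FormallySmooth.liftOfSurjective (AlgHom.id Γ(Y, c₁.V) Γ(Z, i ⁻¹ᵁ c₁.U)) g hg hnil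
  have hs : ∀ b a, Ideal.Quotient.mk (I ^ 2) a = s b →
      algebraMap Γ(X, c₁.U) Γ(Z, i ⁻¹ᵁ c₁.U) a = b := fun b a hab =>
    (show g (Ideal.Quotient.mk (I ^ 2) a) = b by
      rw [hab]; exact Algebra.FormallySmooth.liftOfSurjective_apply _ g hg hnil b)
  have hx : algebraMap Γ(X, c₁.U) Γ(Z, i ⁻¹ᵁ c₁.U) (OmegaSh.idealSect i.ker c₁.U k) = 0 := by
    change i.appLE c₁.U (i ⁻¹ᵁ c₁.U) le_rfl _ = 0
    rw [← Scheme.Hom.app_eq_appLE]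
    exact app_idealSect i _ k
  have hmem := mem_sq_of_tmul_D_eq_zero hsurj s hs hx
    ((pullChartEquiv hd i c₁ hW.affine_preimage le_rfl).map_eq_zero_iff.mp hm)
  rw [hW.conormalSect_eq_zero_iff, Scheme.Hom.app_eq_appLE]
  exact hmem

end Groth.Curves2.NormalSheaf
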