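import Groth.Agent.Curves2.Reflexive

/-!
A canonical module between `O` and its normalization.
-/

universe u

open Module

namespace Groth.Curves2.Canonical

variable {O : Type u} [CommRing O] [IsDomain O] [IsNoetherianRing O] [IsLocalRing O]
  {K : Type u} [Field K] [Algebra O K] [IsFractionRing O K]

/-- Relative length. -/
noncomputable abbrev rlen (P Q : Submodule O K) : ℕ∞ := Module.length O (↥Q ⧸ P.comap Q.subtype)

omit [IsDomain O] [IsNoetherianRing O] [IsLocalRing O] [IsFractionRing O K] in
lemma rlen_add {P Q R : Submodule O K} (hPQ : P ≤ Q) (hQR : Q ≤ R) :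
    rlen P R = rlen P Q + rlen Q R := by
  let f : (↥Q ⧸ P.comap Q.subtype) →ₗ[O] ↥R ⧸ P.comap R.subtype :=
    Submodule.mapQ _ _ (Submodule.inclusion hQR) (fun x hx => hx)
  let g : (↥R ⧸ P.comap R.subtype) →ₗ[O] ↥R ⧸ Q.comap R.subtype :=
    Submodule.factor (Submodule.comap_mono hPQ)
  refine Module.length_eq_add_of_exact f g ?_ (Submodule.factor_surjective _) ?_
  · rw [← LinearMap.ker_eq_bot, LinearMap.ker_eq_bot']
    intro x hx
    obtain ⟨x, rfl⟩ := Submodule.Quotient.mk_surjective _ x
    exact (Submodule.Quotient.mk_eq_zero _).2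
      ((Submodule.Quotient.mk_eq_zero (P.comap R.subtype)).1 hx :)
  · intro x
    obtain ⟨x, rfl⟩ := Submodule.Quotient.mk_surjective _ x
    constructor
    · intro hx
      have hx' : x ∈ Q.comap R.subtype := (Submodule.Quotient.mk_eq_zero _).1 hx
      exact ⟨Submodule.Quotient.mk ⟨x.1, hx'⟩, rfl⟩
    · rintro ⟨y, hy⟩
      obtain ⟨y, rfl⟩ := Submodule.Quotient.mk_surjective _ y
      rw [← hy]
      exact (Submodule.Quotient.mk_eq_zero _).2 y.2

variable (O K) in
/-- The conductor, as a submodule of `K`. -/
def cond : Submodule O K where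
  carrier := {x | ∀ b ∈ integralClosure O K, x * b ∈ (1 : Submodule O K)}
  add_mem' hx hy b hb := by rw [add_mul]; exact add_mem (hx b hb) (hy b hb)
  zero_mem' b _ := by rw [zero_mul]; exact zero_mem _
  smul_mem' c x hx b hb := by rw [smul_mul_assoc]; exact Submodule.smul_mem _ c (hx b hb)

omit [IsDomain O] [IsNoetherianRing O] [IsLocalRing O] [IsFractionRing O K] in
lemma cond_le_one : cond O K ≤ 1 := fun x hx => by simpa using hx 1 (one_mem _)

omit [IsDomain O] [IsNoetherianRing O] [IsLocalRing O] [IsFractionRing O K] in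
lemma conductor_smul_top_eq :
    ((1 : Submodule O K).colon (Subalgebra.toSubmodule (integralClosure O K))) •
      (⊤ : Submodule O ↥(integralClosure O K)) =
      (cond O K).comap (Subalgebra.toSubmodule (integralClosure O K)).subtype := by
  apply le_antisymm
  · refine Submodule.smul_le.2 fun c hc n _ b hb => ?_
    have h := Submodule.mem_colon.1 hc ((n : K) * b) ((integralClosure O K).mul_mem n.2 hb)
    change (c • (n : K)) * b ∈ _
    rwa [smul_mul_assoc]
  · intro x hx
    obtain ⟨a, ha⟩ := Submodule.mem_one.1 (cond_le_one (hx : (x : K) ∈ cond O K))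
    have hac : a ∈ (1 : Submodule O K).colon (Subalgebra.toSubmodule (integralClosure O K)) := by
      refine Submodule.mem_colon.2 fun b hb => ?_
      rw [Algebra.smul_def, ha]
      exact hx b hb
    have : x = a • (1 : ↥(integralClosure O K)) := Subtype.ext (by
      change (x : K) = a • (1 : K)
      rw [Algebra.smul_def, mul_one]
      exact ha.symm)
    rw [this]
    exact Submodule.smul_mem_smul hac Submodule.mem_top

/-- `ℓ(ω/O) + ℓ(B/𝔠) = 2 ℓ(B/O)` for a canonical module `O ⊆ ω ⊆ B`. -/
theorem overmodule_add_eq (hdim : ringKrullDim O = 1)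
    (hfin : Module.Finite O ↥(integralClosure O K)) (ω : Submodule O K)
    (hω1 : (1 : Submodule O K) ≤ ω) (hω2 : ω ≤ Subalgebra.toSubmodule (integralClosure O K))
    (hW : IsCanonical O ↥ω) :
    rlen 1 ω + rlen (cond O K) (Subalgebra.toSubmodule (integralClosure O K)) =
      2 * rlen 1 (Subalgebra.toSubmodule (integralClosure O K)) := by
  classical
  set B := Subalgebra.toSubmodule (integralClosure O K) with hB
  haveI : Module.Finite O ↥B := hfin
  haveI : Module.IsTorsionFree O K :=
    Groth.Calg3.isTorsionFree_of_injective (LinearMap.id : K →ₗ[O] K) Function.injective_id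
  haveI : Module.IsTorsionFree O ↥B :=
    Groth.Calg3.isTorsionFree_of_injective B.subtype B.injective_subtype
  let i : O →ₗ[O] ↥B := (Algebra.linearMap O K).codRestrict B fun a => (integralClosure O K).algebraMap_mem a
  have hi : Function.Injective i := fun a b h => IsFractionRing.injective O K (congrArg Subtype.val h)
  have hrange : LinearMap.range i = (1 : Submodule O K).comap B.subtype := by
    ext x
    refine ⟨fun ⟨a, ha⟩ => Submodule.mem_one.2 ⟨a, congrArg Subtype.val ha⟩, fun hx => ?_⟩
    obtain ⟨a, ha⟩ := Submodule.mem_one.1 hx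
    exact ⟨a, Subtype.ext ha⟩
  obtain ⟨d, hd⟩ : ∃ d : O, d ≠ 0 ∧ ∀ x : ↥B, d • (x : K) ∈ (1 : Submodule O K) := by
    obtain ⟨G, hG⟩ := Module.Finite.fg_top (R := O) (M := ↥B)
    obtain ⟨c, hc⟩ := IsLocalization.exist_integer_multiples_of_finset (nonZeroDivisors O)
      (G.image (Subtype.val : ↥B → K))
    refine ⟨c, nonZeroDivisors.ne_zero c.2, fun z => ?_⟩
    have : z ∈ Submodule.span O (G : Set ↥B) := hG ▸ Submodule.mem_top
    induction this using Submodule.span_induction with
    | mem g hg =>
      obtain ⟨b, hb⟩ := hc g.1 (Finset.mem_image_of_mem _ hg)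
      exact Submodule.mem_one.2 ⟨b, hb⟩
    | zero => simp
    | add p q _ _ hp hq => rw [Submodule.coe_add, smul_add]; exact add_mem hp hq
    | smul r p _ hp => rw [Submodule.coe_smul, smul_comm]; exact Submodule.smul_mem _ r hp
  have hlen : Module.length O (↥B ⧸ LinearMap.range i) ≠ ⊤ :=
    Groth.Curves2.Lattice.length_ne_top_of_smul_eq_zero hdim hd.1 fun t => by
      obtain ⟨x, rfl⟩ := Submodule.Quotient.mk_surjective _ t
      rw [← Submodule.Quotient.mk_smul, Submodule.Quotient.mk_eq_zero, hrange]
      exact hd.2 x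
  have hC : cond O K ≤ ω := cond_le_one.trans hω1
  -- `Hom(B, ω)` is the conductor
  have key : LinearMap.range (restr (↥ω) i) = ((cond O K).comap ω.subtype).map
      (LinearMap.ringLmapEquivSelf O O ↥ω).symm.toLinearMap := by
    ext f
    constructor
    · rintro ⟨g, rfl⟩
      refine ⟨g (i 1), ?_, LinearMap.ext_ring (by
        change ((LinearMap.ringLmapEquivSelf O O ↥ω).symm (g (i 1))) 1 = g (i 1)
        simp)⟩
      have hg : ∀ x : ↥B, ((g x : ↥ω) : K) = (x : K) * (g (i 1) : ↥ω) := fun x => by
        obtain ⟨a, ha⟩ := Submodule.mem_one.1 (hd.2 x)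
        refine smul_right_injective K hd.1 ?_
        change d • ((g x : ↥ω) : K) = d • ((x : K) * _)
        have hxa : d • x = a • i 1 := Subtype.ext (by
          change d • (x : K) = a • algebraMap O K 1
          rw [map_one, Algebra.smul_def a, mul_one, ha])
        rw [← Submodule.coe_smul, ← map_smul, hxa, map_smul, Submodule.coe_smul, ← smul_mul_assoc,
          ← ha, Algebra.smul_def]
      intro b hb
      let φb : ↥ω →ₗ[O] ↥ω :=
        { toFun := fun w => ⟨((g (i 1) : ↥ω) : K) * b * (w : K), by
            rw [mul_assoc, mul_comm, ← hg ⟨b * w.1, (integralClosure O K).mul_mem hb (hω2 w.2)⟩]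
            exact (g _).2⟩
          map_add' := fun u v => Subtype.ext (mul_add _ _ _)
          map_smul' := fun r v => Subtype.ext (mul_smul_comm _ _ _) }
      obtain ⟨c, hc⟩ := exists_smul_eq hW hdim φb
      refine Submodule.mem_one.2 ⟨c, ?_⟩
      have := congrArg Subtype.val (hc ⟨1, hω1 (Submodule.one_le.1 le_rfl)⟩)
      change ((g (i 1) : ↥ω) : K) * b * 1 = c • (1 : K) at this
      rw [mul_one, Algebra.smul_def, mul_one] at this
      exact this.symm
    · rintro ⟨w, hw, rfl⟩
      refine ⟨{ toFun := fun x => ⟨(w : K) * (x : K), hω1 (hw x.1 x.2)⟩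
                map_add' := fun u v => Subtype.ext (mul_add _ _ _)
                map_smul' := fun r v => Subtype.ext (mul_smul_comm _ _ _) },
        LinearMap.ext_ring (Subtype.ext ?_)⟩
      change (w : K) * algebraMap O K 1 = ((((LinearMap.ringLmapEquivSelf O O ↥ω).symm w) 1 : ↥ω) : K)
      simp
  have h1 : rlen (cond O K) ω = rlen 1 B := by
    calc rlen (cond O K) ω = Module.length O (Dco (↥ω) i) :=
          (Submodule.Quotient.equiv _ _ (LinearMap.ringLmapEquivSelf O O ↥ω).symm key.symm).length_eq
      _ = Module.length O (↥B ⧸ LinearMap.range i) := length_dco hW hdim i hi hlen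
      _ = rlen 1 B := (Submodule.quotEquivOfEq _ _ hrange).length_eq
  rw [rlen_add (P := cond O K) cond_le_one (hω1.trans hω2), ← add_assoc, add_comm (rlen 1 ω),
    ← rlen_add cond_le_one hω1, h1, two_mul]

end Groth.Curves2.Canonical
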