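import Groth.Agent.PnEuler.Seq
import Groth.Agent.PnEuler.Det
import Groth.Agent.KTheory.LambdaVb
import Groth.Agent.PnCoh.Cohomology
import Groth.Agent.Duality.SheafHomTwist
import Groth.Agent.ArtfunDeform.VbLift.Basic
import Groth.Agent.Inter.EulerFamily
import Groth.Agent.PicAux.PullTensor
import Groth.Agent.PicAux.Powers
import Groth.Agent.PicAux.PicLaw
import Groth.Agent.PicAux.Pullback
import Groth.Agent.EulerDeg.Coherent
import Groth.Agent.DerivedCoh.KFlat.Scheme
import Groth.Agent.DerivedCoh.PCoh.Pullback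
import Groth.Agent.S2443
import Groth.Agent.VBCurves.Duality

/-!
# Cohomology on the smooth quadric `P¹ × P¹`
-/

set_option autoImplicit false
set_option linter.style.haveILetI false
set_option backward.isDefEq.respectTransparency.types false

universe u

open CategoryTheory CategoryTheory.Limits AlgebraicGeometry Opposite TopologicalSpace
open Groth.EulerDeg (hMap hEquiv)

attribute [local instance] HasFiniteBiproducts.of_hasFiniteProducts

noncomputable section

namespace Groth.Curves2.Quadric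

section General

variable (k : Type u) [Field k] {X Y : Scheme.{u}} [X.Over (Spec (CommRingCat.of k))]

include k in
theorem subsingleton_of_iso {M N : X.Modules} (e : M ≅ N) {n : ℕ}
    (h : Subsingleton (Coh.HH X N n)) : Subsingleton (Coh.HH X M n) :=
  @Equiv.subsingleton _ _ (hEquiv k e n).toEquiv h

include k in
theorem hMap_zero_apply {M N : X.Modules} {n : ℕ} (z : Coh.HH X M n) :
    hMap k (0 : M ⟶ N) n z = 0 := by
  have h := Groth.VBCurves.hMap_add (k := k) (0 : M ⟶ N) 0 n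
  rw [add_zero] at h
  have h2 : hMap k (0 : M ⟶ N) n z = hMap k (0 : M ⟶ N) n z + hMap k (0 : M ⟶ N) n z :=
    LinearMap.congr_fun h z
  exact left_eq_add.1 h2

variable (G : Y.Modules ⥤ X.Modules) [G.Additive]

include k in
theorem subsingleton_biproduct {r n : ℕ} (L : Fin r → Y.Modules)
    (h : ∀ j, Subsingleton (Coh.HH X (G.obj (L j)) n)) :
    Subsingleton (Coh.HH X (G.obj (⨁ L)) n) := by
  refine subsingleton_of_forall_eq 0 fun z => ?_
  have hid : 𝟙 (G.obj (⨁ L)) = ∑ j : Fin r, G.map (biproduct.π L j) ≫ G.map (biproduct.ι L j) := by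
    simp_rw [← G.map_comp]
    rw [← Functor.map_sum, biproduct.total, G.map_id]
  have h2 := congrArg (fun φ => hMap k φ n z) hid
  rw [Groth.VBCurves.hMap_sum, Groth.EulerDeg.hMap_id, LinearMap.id_apply, LinearMap.sum_apply] at h2
  rw [h2]
  refine Finset.sum_eq_zero fun i _ => ?_
  haveI := h i
  rw [Groth.EulerDeg.hMap_comp, LinearMap.comp_apply,
    Subsingleton.elim (hMap k (G.map (biproduct.π L i)) n z) 0, map_zero]

include k in
theorem subsingleton_biprod {n : ℕ} (A B : Y.Modules) (hA : Subsingleton (Coh.HH X (G.obj A) n))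
    (hB : Subsingleton (Coh.HH X (G.obj B) n)) : Subsingleton (Coh.HH X (G.obj (A ⊞ B)) n) := by
  refine subsingleton_of_forall_eq 0 fun z => ?_
  have hid : G.map (biprod.fst : A ⊞ B ⟶ A) ≫ G.map biprod.inl +
      G.map (biprod.snd : A ⊞ B ⟶ B) ≫ G.map biprod.inr = 𝟙 (G.obj (A ⊞ B)) := by
    rw [← G.map_comp, ← G.map_comp, ← G.map_add, biprod.total, G.map_id]
  have h2 := congrArg (fun φ => hMap k φ n z) hid
  rw [Groth.VBCurves.hMap_add, Groth.EulerDeg.hMap_id, LinearMap.id_apply, LinearMap.add_apply,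
    Groth.EulerDeg.hMap_comp, Groth.EulerDeg.hMap_comp, LinearMap.comp_apply, LinearMap.comp_apply,
    Subsingleton.elim (hMap k (G.map (biprod.fst : A ⊞ B ⟶ A)) n z) 0,
    Subsingleton.elim (hMap k (G.map (biprod.snd : A ⊞ B ⟶ B)) n z) 0, map_zero, map_zero,
    add_zero] at h2
  exact h2.symm

include k in
theorem nonempty_equiv_biproduct {r n : ℕ} (L : Fin r → Y.Modules) :
    Nonempty (Coh.HH X (G.obj (⨁ L)) n ≃ₗ[k] ∀ j, Coh.HH X (G.obj (L j)) n) := by
  refine ⟨{ LinearMap.pi fun j => hMap k (G.map (biproduct.π L j)) n with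
    invFun := fun v => ∑ j, hMap k (G.map (biproduct.ι L j)) n (v j)
    left_inv := fun z => ?_
    right_inv := fun v => funext fun l => ?_ }⟩
  · have hid : 𝟙 (G.obj (⨁ L)) = ∑ j : Fin r, G.map (biproduct.π L j) ≫ G.map (biproduct.ι L j) := by
      simp_rw [← G.map_comp]
      rw [← Functor.map_sum, biproduct.total, G.map_id]
    have h2 := congrArg (fun φ => hMap k φ n z) hid
    rw [Groth.VBCurves.hMap_sum, Groth.EulerDeg.hMap_id, LinearMap.id_apply, LinearMap.sum_apply] at h2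
    refine Eq.trans (Finset.sum_congr rfl fun j _ => ?_) h2.symm
    rw [Groth.EulerDeg.hMap_comp]
    rfl
  · show hMap k (G.map (biproduct.π L l)) n (∑ j, hMap k (G.map (biproduct.ι L j)) n (v j)) = v l
    rw [map_sum, Finset.sum_eq_single l]
    · rw [← LinearMap.comp_apply, ← Groth.EulerDeg.hMap_comp, ← G.map_comp, biproduct.ι_π_self,
        G.map_id, Groth.EulerDeg.hMap_id, LinearMap.id_apply]
    · intro j _ hj
      rw [← LinearMap.comp_apply, ← Groth.EulerDeg.hMap_comp, ← G.map_comp, biproduct.ι_π_ne _ hj,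
        G.map_zero, hMap_zero_apply]
    · exact fun h => absurd (Finset.mem_univ l) h

include k in
theorem nonempty_equiv_biprod {n : ℕ} (A B : X.Modules) :
    Nonempty (Coh.HH X (A ⊞ B) n ≃ₗ[k] Coh.HH X A n × Coh.HH X B n) := by
  refine ⟨{ (hMap k (biprod.fst : A ⊞ B ⟶ A) n).prod (hMap k biprod.snd n) with
    invFun := fun v => hMap k (biprod.inl : A ⟶ A ⊞ B) n v.1 + hMap k biprod.inr n v.2
    left_inv := fun z => ?_
    right_inv := fun v => Prod.ext ?_ ?_ }⟩
  · have h2 := congrArg (fun φ => hMap k φ n z) (biprod.total (X := A) (Y := B))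
    rw [Groth.VBCurves.hMap_add, Groth.EulerDeg.hMap_id, LinearMap.id_apply, LinearMap.add_apply,
      Groth.EulerDeg.hMap_comp, Groth.EulerDeg.hMap_comp, LinearMap.comp_apply, LinearMap.comp_apply] at h2
    exact h2
  · show hMap k biprod.fst n (_ + _) = _
    rw [map_add, ← LinearMap.comp_apply, ← LinearMap.comp_apply, ← Groth.EulerDeg.hMap_comp,
      ← Groth.EulerDeg.hMap_comp, biprod.inl_fst, biprod.inr_fst, Groth.EulerDeg.hMap_id,
      LinearMap.id_apply]
    rw [hMap_zero_apply, add_zero]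
  · show hMap k biprod.snd n (_ + _) = _
    rw [map_add, ← LinearMap.comp_apply, ← LinearMap.comp_apply, ← Groth.EulerDeg.hMap_comp,
      ← Groth.EulerDeg.hMap_comp, biprod.inl_snd, biprod.inr_snd, Groth.EulerDeg.hMap_id,
      LinearMap.id_apply]
    rw [hMap_zero_apply, zero_add]

variable {S : ShortComplex X.Modules} (hS : S.ShortExact)

include k hS in
theorem subsingleton_right {n : ℕ} (h₂ : Subsingleton (Coh.HH X S.X₂ n))
    (h₁ : Subsingleton (Coh.HH X S.X₁ (n + 1))) : Subsingleton (Coh.HH X S.X₃ n) := by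
  refine subsingleton_of_forall_eq 0 fun y => ?_
  obtain ⟨z, rfl⟩ := (Groth.EulerDeg.exact_right k hS n y).1 (Subsingleton.elim _ _)
  rw [Subsingleton.elim z 0, map_zero]

include k hS in
theorem subsingleton_left {n : ℕ} (h₃ : Subsingleton (Coh.HH X S.X₃ n))
    (h₂ : Subsingleton (Coh.HH X S.X₂ (n + 1))) : Subsingleton (Coh.HH X S.X₁ (n + 1)) := by
  refine subsingleton_of_forall_eq 0 fun y => ?_
  obtain ⟨z, rfl⟩ := (Groth.EulerDeg.exact_left k hS n y).1 (Subsingleton.elim _ _)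
  rw [Subsingleton.elim z 0, map_zero]

end General

section Product

variable (k : Type u) [Field k]

/-- `P¹ × P¹`. -/
abbrev Q : Scheme.{u} := pullback (CohB1.ProjSpace.toSpec 1 k) (CohB1.ProjSpace.toSpec 1 k)

instance : (Q k).Over (Spec (CommRingCat.of k)) :=
  ⟨pullback.fst (CohB1.ProjSpace.toSpec 1 k) (CohB1.ProjSpace.toSpec 1 k) ≫
    CohB1.ProjSpace.toSpec 1 k⟩

instance : IsProper (Q k ↘ Spec (CommRingCat.of k)) :=
  inferInstanceAs (IsProper (pullback.fst _ _ ≫ CohB1.ProjSpace.toSpec 1 k))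

/-- The first projection. -/
abbrev p₁ : Q k ⟶ CohB1.ProjSpace 1 k := pullback.fst _ _

/-- The second projection. -/
abbrev p₂ : Q k ⟶ CohB1.ProjSpace 1 k := pullback.snd _ _

/-- `O(a, b)`. -/
abbrev O2 (a b : ℤ) : (Q k).Modules :=
  CohB1.tensorMod ((Scheme.Modules.pullback (p₁ k)).obj (Twist.twistProjSpace 1 k a))
    ((Scheme.Modules.pullback (p₂ k)).obj (Twist.twistProjSpace 1 k b))

theorem isInvertible_O2 (a b : ℤ) : PicF.IsInvertible (O2 k a b) :=
  Groth.PicAux.isInvertible_tensorMod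
    (Groth.PicAux.isInvertible_pullback _ (Groth.PnCoh.isInvertible_twist 1 k a))
    (Groth.PicAux.isInvertible_pullback _ (Groth.PnCoh.isInvertible_twist 1 k b))

theorem nonempty_pull_twist (p : Q k ⟶ CohB1.ProjSpace 1 k) (a c : ℤ) :
    Nonempty (CohB1.tensorMod ((Scheme.Modules.pullback p).obj (Twist.twistProjSpace 1 k a))
      ((Scheme.Modules.pullback p).obj (Twist.twistProjSpace 1 k c)) ≅
      (Scheme.Modules.pullback p).obj (Twist.twistProjSpace 1 k (a + c))) := by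
  obtain ⟨e, -⟩ := Groth.PicAux.exists_pullback_tensorMod p (Twist.twistProjSpace 1 k a)
    (Twist.twistProjSpace 1 k c)
  obtain ⟨t⟩ := Groth.Duality.Pn.nonempty_twist_tensor 1 k a c
  exact ⟨e.symm ≪≫ (Scheme.Modules.pullback p).mapIso t⟩

theorem nonempty_O2_tensor (a b c d : ℤ) :
    Nonempty (CohB1.tensorMod (O2 k a b) (O2 k c d) ≅ O2 k (a + c) (b + d)) := by
  obtain ⟨e⟩ := Groth.PicAux.tensor_interchange
    ((Scheme.Modules.pullback (p₁ k)).obj (Twist.twistProjSpace 1 k a))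
    ((Scheme.Modules.pullback (p₂ k)).obj (Twist.twistProjSpace 1 k b))
    ((Scheme.Modules.pullback (p₁ k)).obj (Twist.twistProjSpace 1 k c))
    ((Scheme.Modules.pullback (p₂ k)).obj (Twist.twistProjSpace 1 k d))
  obtain ⟨e₁⟩ := nonempty_pull_twist k (p₁ k) a c
  obtain ⟨e₂⟩ := nonempty_pull_twist k (p₂ k) b d
  exact ⟨e ≪≫ PicGrp.tensorModIso e₁ e₂⟩

theorem nonempty_fst_tensor (c a b : ℤ) :
    Nonempty (CohB1.tensorMod ((Scheme.Modules.pullback (p₁ k)).obj (Twist.twistProjSpace 1 k c))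
      (O2 k a b) ≅ O2 k (c + a) b) := by
  obtain ⟨e⟩ := nonempty_pull_twist k (p₁ k) c a
  obtain ⟨α, -⟩ := Groth.PicAux.exists_associator
    ((Scheme.Modules.pullback (p₁ k)).obj (Twist.twistProjSpace 1 k c))
    ((Scheme.Modules.pullback (p₁ k)).obj (Twist.twistProjSpace 1 k a))
    ((Scheme.Modules.pullback (p₂ k)).obj (Twist.twistProjSpace 1 k b))
  exact ⟨α.symm ≪≫ PicGrp.tensorModIso e (Iso.refl _)⟩

theorem nonempty_snd_tensor (c a b : ℤ) :
    Nonempty (CohB1.tensorMod ((Scheme.Modules.pullback (p₂ k)).obj (Twist.twistProjSpace 1 k c))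
      (O2 k a b) ≅ O2 k a (c + b)) := by
  obtain ⟨e⟩ := nonempty_pull_twist k (p₂ k) b c
  obtain ⟨β, -⟩ := Groth.PicAux.exists_braiding
    ((Scheme.Modules.pullback (p₂ k)).obj (Twist.twistProjSpace 1 k c)) (O2 k a b)
  obtain ⟨α, -⟩ := Groth.PicAux.exists_associator
    ((Scheme.Modules.pullback (p₁ k)).obj (Twist.twistProjSpace 1 k a))
    ((Scheme.Modules.pullback (p₂ k)).obj (Twist.twistProjSpace 1 k b))
    ((Scheme.Modules.pullback (p₂ k)).obj (Twist.twistProjSpace 1 k c))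
  exact ⟨β ≪≫ α ≪≫ PicGrp.tensorModIso (Iso.refl _)
    (e ≪≫ eqToIso (congrArg (fun d => (Scheme.Modules.pullback (p₂ k)).obj (Twist.twistProjSpace 1 k d))
      (add_comm b c)))⟩

theorem nonempty_O2_zero : Nonempty (O2 k 0 0 ≅ Coh.structureModule (Q k)) := by
  obtain ⟨e₀⟩ := Groth.Duality.Pn.nonempty_twist_zero_iso' 1 k
  obtain ⟨u₁⟩ := Groth.PicAux.pullback_structure_iso (p₁ k)
  obtain ⟨u₂⟩ := Groth.PicAux.pullback_structure_iso (p₂ k)
  exact ⟨PicGrp.tensorModIso ((Scheme.Modules.pullback (p₁ k)).mapIso e₀ ≪≫ u₁)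
    ((Scheme.Modules.pullback (p₂ k)).mapIso e₀ ≪≫ u₂) ≪≫ SecTwist.unitorR _⟩

theorem subsingleton_tmul_of {R M N : Type u} [CommRing R] [AddCommGroup M] [Module R M]
    [AddCommGroup N] [Module R N] (h : Subsingleton M ∨ Subsingleton N) :
    Subsingleton (TensorProduct R M N) := by
  refine subsingleton_of_forall_eq 0 fun t => ?_
  induction t using TensorProduct.induction_on with
  | zero => rfl
  | add x y hx hy => rw [hx, hy, add_zero]
  | tmul x y =>
    rcases h with h | h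
    · rw [Subsingleton.elim x 0, TensorProduct.zero_tmul]
    · rw [Subsingleton.elim y 0, TensorProduct.tmul_zero]

/-- Künneth vanishing for `O(a, b)`. -/
theorem subsingleton_O2 (n : ℕ) (a b : ℤ)
    (h : ∀ p q : ℕ, p + q = n →
      (¬ (p = 0 ∧ 0 ≤ a) ∧ ¬ (p = 1 ∧ a ≤ -2)) ∨ (¬ (q = 0 ∧ 0 ≤ b) ∧ ¬ (q = 1 ∧ b ≤ -2))) :
    Subsingleton (Coh.HH (Q k) (O2 k a b) n) := by
  haveI : Coh.IsQCoh (Twist.twistProjSpace 1 k a) := Groth.PnEuler.isQCoh_twist_proj a
  haveI : Coh.IsQCoh (Twist.twistProjSpace 1 k b) := Groth.PnEuler.isQCoh_twist_proj b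
  haveI : IsProper (CohB1.ProjSpace 1 k ↘ Spec (CommRingCat.of k)) :=
    inferInstanceAs (IsProper (CohB1.ProjSpace.toSpec 1 k))
  obtain ⟨e⟩ := Groth.Agent.S2443.result k (CohB1.ProjSpace 1 k) (CohB1.ProjSpace 1 k)
    (Twist.twistProjSpace 1 k a) (Twist.twistProjSpace 1 k b)
    (Groth.Inter.isFlatOver_field k _ _) (fun p => inferInstance) n
  haveI : ∀ pq : ↥(Finset.HasAntidiagonal.antidiagonal n), Subsingleton
      (TensorProduct k (Coh.HH (CohB1.ProjSpace 1 k) (Twist.twistProjSpace 1 k a) pq.1.1)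
        (Coh.HH (CohB1.ProjSpace 1 k) (Twist.twistProjSpace 1 k b) pq.1.2)) := fun pq => by
    refine subsingleton_tmul_of ?_
    rcases h pq.1.1 pq.1.2 (Finset.HasAntidiagonal.mem_antidiagonal.1 pq.2) with ⟨h₀, h₁⟩ | ⟨h₀, h₁⟩
    · exact Or.inl (Groth.PnCoh.subsingleton_HH_twist (n := 1) (R := k) a _ h₀ (by push_cast; omega))
    · exact Or.inr (Groth.PnCoh.subsingleton_HH_twist (n := 1) (R := k) b _ h₀ (by push_cast; omega))
  exact e.toEquiv.subsingleton

theorem nonempty_omega_iso :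
    Nonempty (Omega.sheaf (CohB1.ProjSpace.toSpec 1 k) ≅ Twist.twistProjSpace 1 k (-2)) := by
  haveI := Groth.PnEuler.isQCoh_omega (n := 1) (R := k)
  obtain ⟨a⟩ := Groth.KTheory.LambdaVb.nonempty_extPow_one (Omega.sheaf (CohB1.ProjSpace.toSpec 1 k))
  haveI := Groth.PnEuler.isIso_detHom (n := 1) (R := k)
  exact ⟨a.symm ≪≫ asIso (Groth.PnEuler.detHom 1 k) ≪≫
    eqToIso (congrArg (Twist.twistProjSpace 1 k) (by norm_num))⟩

/-- The Euler sequence of a factor, twisted. -/
def eSeq (p : Q k ⟶ CohB1.ProjSpace 1 k) (L : (Q k).Modules) : ShortComplex (Q k).Modules :=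
  ((Groth.PnEuler.eulerSeq 1 k).map (Scheme.Modules.pullback p)).map (DCoh.tensorRightMod L)

theorem shortExact_eSeq (p : Q k ⟶ CohB1.ProjSpace 1 k) {L : (Q k).Modules}
    (hL : PicF.IsInvertible L) : (eSeq k p L).ShortExact :=
  Groth.PicAux.shortExact_tensorRightMod hL (Groth.ArtfunDeform.VbLift.shortExact_pullback p
    (Groth.PnEuler.shortExact_eulerSeq (n := 1) (R := k)) (Groth.LocFree.isFinLocFree_of_rank
      (Groth.LocFree.isInvertible_iff_ofRank_one.1 (Groth.PnCoh.isInvertible_twist 1 k 0))))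

theorem isFlat_eSeq_X₃ (p : Q k ⟶ CohB1.ProjSpace 1 k) {L : (Q k).Modules}
    (hL : PicF.IsInvertible L) : FlatMod.IsFlat (eSeq k p L).X₃ :=
  Groth.DerivedCoh.PCoh.isFlat_of_isFinLocFree (Groth.LocFree.isFinLocFree_of_rank
    (Groth.LocFree.isInvertible_iff_ofRank_one.1 (Groth.PicAux.isInvertible_tensorMod
      (Groth.PicAux.isInvertible_pullback _ (Groth.PnCoh.isInvertible_twist 1 k 0)) hL)))

section Step

variable (p : Q k ⟶ CohB1.ProjSpace 1 k) {M Lm L₀ Lp F : (Q k).Modules} (hM : PicF.IsInvertible M)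
  (em : Nonempty (CohB1.tensorMod ((Scheme.Modules.pullback p).obj (Twist.twistProjSpace 1 k (-2))) M ≅ Lm))
  (e₀ : Nonempty (CohB1.tensorMod ((Scheme.Modules.pullback p).obj (Twist.twistProjSpace 1 k (-1))) M ≅ L₀))
  (ep : Nonempty (CohB1.tensorMod ((Scheme.Modules.pullback p).obj (Twist.twistProjSpace 1 k 0)) M ≅ Lp))

include hM em e₀ ep in
/-- `H¹` moves up along the Euler sequence. -/
theorem h1_step (h₀ : Subsingleton (Coh.HH (Q k) (CohB1.tensorMod F L₀) 1))
    (hm : Subsingleton (Coh.HH (Q k) (CohB1.tensorMod F Lm) 2)) :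
    Subsingleton (Coh.HH (Q k) (CohB1.tensorMod F Lp) 1) := by
  obtain ⟨em⟩ := em
  obtain ⟨e₀⟩ := e₀
  obtain ⟨ep⟩ := ep
  obtain ⟨eω⟩ := nonempty_omega_iso k
  let T := DCoh.tensorBi.obj F
  have hS := Groth.DerivedCoh.KFlat.shortExact_tensor_of_flat₃ (eSeq k p M) (shortExact_eSeq k p hM)
    (isFlat_eSeq_X₃ k p hM) F
  refine subsingleton_of_iso k (T.mapIso ep).symm (subsingleton_right k hS ?_ ?_)
  · exact subsingleton_biproduct k (Scheme.Modules.pullback p ⋙ DCoh.tensorRightMod M ⋙ T)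
      (Groth.PnEuler.fam 1 k) fun _ => subsingleton_of_iso k (T.mapIso e₀) h₀
  · exact subsingleton_of_iso k (T.mapIso ((DCoh.tensorRightMod M).mapIso
      ((Scheme.Modules.pullback p).mapIso eω) ≪≫ em)) hm

end Step

section Dim

variable (p : Q k ⟶ CohB1.ProjSpace 1 k) {M Lm L₀ Lp : (Q k).Modules} (hM : PicF.IsInvertible M)
  (em : Nonempty (CohB1.tensorMod ((Scheme.Modules.pullback p).obj (Twist.twistProjSpace 1 k (-2))) M ≅ Lm))
  (e₀ : Nonempty (CohB1.tensorMod ((Scheme.Modules.pullback p).obj (Twist.twistProjSpace 1 k (-1))) M ≅ L₀))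
  (ep : Nonempty (CohB1.tensorMod ((Scheme.Modules.pullback p).obj (Twist.twistProjSpace 1 k 0)) M ≅ Lp))

include hM em e₀ ep in
/-- `h⁰` doubles along the Euler sequence. -/
theorem finrank_h0_step (h0 : Subsingleton (Coh.HH (Q k) Lm 0))
    (h1 : Subsingleton (Coh.HH (Q k) Lm 1)) :
    Module.finrank k (Coh.HH (Q k) Lp 0) = Module.finrank k (Fin 2 → Coh.HH (Q k) L₀ 0) := by
  obtain ⟨em⟩ := em
  obtain ⟨e₀⟩ := e₀
  obtain ⟨ep⟩ := ep
  obtain ⟨eω⟩ := nonempty_omega_iso k
  have hS := shortExact_eSeq k p hM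
  let i₁ := (DCoh.tensorRightMod M).mapIso ((Scheme.Modules.pullback p).mapIso eω) ≪≫ em
  haveI : Subsingleton (Coh.HH (Q k) (eSeq k p M).X₁ 0) := subsingleton_of_iso k i₁ h0
  haveI : Subsingleton (Coh.HH (Q k) (eSeq k p M).X₁ (0 + 1)) := subsingleton_of_iso k i₁ h1
  have hbij : Function.Bijective (hMap k (eSeq k p M).g 0) := by
    refine ⟨(injective_iff_map_eq_zero _).2 fun z hz => ?_, fun y => ?_⟩
    · obtain ⟨w, rfl⟩ := (Groth.EulerDeg.exact_mid k hS 0 z).1 hz
      rw [Subsingleton.elim w 0, map_zero]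
    · exact (Groth.EulerDeg.exact_right k hS 0 y).1 (Subsingleton.elim _ _)
  obtain ⟨e⟩ := nonempty_equiv_biproduct k (n := 0) (Scheme.Modules.pullback p ⋙ DCoh.tensorRightMod M)
    (Groth.PnEuler.fam 1 k)
  exact (hEquiv k ep 0).finrank_eq.symm.trans ((LinearEquiv.ofBijective _ hbij).symm ≪≫ₗ e ≪≫ₗ
    LinearEquiv.piCongrRight fun _ => hEquiv k e₀ 0).finrank_eq

end Dim

end Product

end Groth.Curves2.Quadric
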