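import Mathlib

/-!
Elementary facts on numerical semigroups and their modules.
-/

namespace Groth.Curves2.NumSgp

lemma mul_mem {Γ : AddSubmonoid ℕ} {e : ℕ} (he : e ∈ Γ) (j : ℕ) : j * e ∈ Γ := by
  simpa [smul_eq_mul] using Γ.nsmul_mem he j

lemma mult_lt_conductor {Γ : AddSubmonoid ℕ} {c e : ℕ} (hc : ∀ n : ℕ, c ≤ n → n ∈ Γ)
    (hc0 : c ≠ 0) (hsymm : ∀ x : ℕ, x < c → (x ∉ Γ ↔ c - 1 - x ∈ Γ))
    (he2 : 2 < e) (hemin : ∀ γ : ℕ, γ ∈ Γ → γ ≠ 0 → e ≤ γ) : e < c := by
  have h1 : e ≤ c := hemin c (hc c le_rfl) hc0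
  rcases lt_or_eq_of_le h1 with h | h
  · exact h
  · exfalso
    have hg : (1 : ℕ) ∉ Γ := fun h' => by have := hemin 1 h' one_ne_zero; omega
    have := (hsymm 1 (by omega)).1 hg
    have := hemin _ this (by omega)
    omega

/-- Symmetric semigroup of multiplicity at least three: every element from the conductor on is a
sum of two smaller non-zero elements, one of them below the conductor. -/
lemma exists_decomp {Γ : AddSubmonoid ℕ} {c e n : ℕ} (hc : ∀ n : ℕ, c ≤ n → n ∈ Γ)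
    (hc0 : c ≠ 0) (hsymm : ∀ x : ℕ, x < c → (x ∉ Γ ↔ c - 1 - x ∈ Γ)) (he : e ∈ Γ)
    (he2 : 2 < e) (hemin : ∀ γ : ℕ, γ ∈ Γ → γ ≠ 0 → e ≤ γ) (hn : c ≤ n) :
    ∃ a b : ℕ, a ∈ Γ ∧ b ∈ Γ ∧ a < n ∧ b < n ∧ n = a + b := by
  have hec := mult_lt_conductor hc hc0 hsymm he2 hemin
  by_cases hbig : c + e ≤ n
  · exact ⟨e, n - e, he, hc _ (by omega), by omega, by omega, by omega⟩
  by_cases hj : n + 1 < c + e
  · -- `n - e` has mirror image a positive integer below `e`
    refine ⟨e, n - e, he, ?_, by omega, by omega, by omega⟩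
    by_contra hne
    have h1 := (hsymm (n - e) (by omega)).1 hne
    have := hemin _ h1 (by omega)
    omega
  · have hn' : n + 1 = c + e := by omega
    have hex : ∃ γ, γ ∈ Γ ∧ γ < c ∧ ¬ e ∣ γ := by
      have g1 : (1 : ℕ) ∉ Γ := fun h' => by have := hemin 1 h' one_ne_zero; omega
      have g2 : (2 : ℕ) ∉ Γ := fun h' => by have := hemin 2 h' two_ne_zero; omega
      have m1 := (hsymm 1 (by omega)).1 g1
      have m2 := (hsymm 2 (by omega)).1 g2
      by_contra hall
      push_neg at hall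
      have d1 := hall _ m1 (by omega)
      have d2 := hall _ m2 (by omega)
      have d3 : e ∣ (c - 1 - 1) - (c - 1 - 2) := Nat.dvd_sub d1 d2
      have : (c - 1 - 1) - (c - 1 - 2) = 1 := by omega
      rw [this] at d3
      have := Nat.le_of_dvd one_pos d3
      omega
    classical
    obtain ⟨h1, h2, h3⟩ := Nat.find_spec hex
    set γ := Nat.find hex with hγ
    have hγ0 : γ ≠ 0 := fun h => h3 (h ▸ dvd_zero e)
    have hγe : e ≤ γ := hemin _ h1 hγ0
    have hgap : γ - e ∉ Γ := by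
      intro hmem
      refine Nat.find_min hex (show γ - e < γ by omega) ⟨hmem, by omega, fun hd => h3 ?_⟩
      have : γ = γ - e + e := by omega
      rw [this]; exact dvd_add hd dvd_rfl
    have := (hsymm (γ - e) (by omega)).1 hgap
    exact ⟨γ, c - 1 - (γ - e), h1, this, by omega, by omega, by omega⟩

lemma count_succ_mem {S : Set ℕ} [DecidablePred (fun m => m ∈ S)] {n : ℕ} (h : n ∈ S) :
    Nat.count (fun m => m ∈ S) (n + 1) = Nat.count (fun m => m ∈ S) n + 1 := by
  rw [Nat.count_succ, if_pos h]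

lemma infinite_setOf_mem {S : Set ℕ} {c : ℕ} (hc : ∀ n : ℕ, c ≤ n → n ∈ S) :
    {m : ℕ | m ∈ S}.Infinite :=
  (Set.Ici_infinite c).mono fun n hn => hc n hn

end Groth.Curves2.NumSgp
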