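import Mathlib

/-!
Orders of power series in submodules over a subalgebra of `k[[t]]`.
-/

universe u

namespace Groth.Curves2.ValueSet

variable {k : Type u} [Field k]

lemma order_eq_nat {f : PowerSeries k} {n : ℕ} (h : PowerSeries.order f = n) :
    PowerSeries.coeff n f ≠ 0 ∧ ∀ i < n, PowerSeries.coeff i f = 0 :=
  PowerSeries.order_eq_nat.1 h

/-- Kill the coefficients in degrees `c, …, c + d - 1` by an element of `V`. -/
lemma exists_sub_order_ge {V : Submodule k (PowerSeries k)} {c : ℕ} :
    ∀ (d : ℕ), (∀ n, c ≤ n → n < c + d → ∃ h ∈ V, PowerSeries.order h = n) →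
      ∀ {f : PowerSeries k}, (c : ℕ∞) ≤ PowerSeries.order f →
        ∃ v ∈ V, (c : ℕ∞) ≤ PowerSeries.order v ∧ ((c + d : ℕ) : ℕ∞) ≤ PowerSeries.order (f - v) := by
  intro d
  induction d with
  | zero => exact fun _ f hf => ⟨0, V.zero_mem, by simp, by simpa using hf⟩
  | succ d ih =>
    intro hV f hf
    obtain ⟨v, hv, hvc, hd⟩ := ih (fun n h1 h2 => hV n h1 (by omega)) hf
    obtain ⟨h, hh, hho⟩ := hV (c + d) (by omega) (by omega)
    obtain ⟨hh1, hh2⟩ := order_eq_nat hho
    set l := PowerSeries.coeff (c + d) (f - v) / PowerSeries.coeff (c + d) h with hl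
    refine ⟨v + l • h, V.add_mem hv (V.smul_mem _ hh), ?_, ?_⟩
    · refine PowerSeries.nat_le_order _ _ fun i hi => ?_
      rw [map_add, map_smul, hh2 i (by omega), smul_zero, add_zero]
      exact PowerSeries.coeff_of_lt_order i (lt_of_lt_of_le (by exact_mod_cast hi) hvc)
    · refine PowerSeries.nat_le_order _ _ fun i hi => ?_
      rw [← sub_sub, map_sub, map_smul, smul_eq_mul]
      rcases lt_or_eq_of_le (show i ≤ c + d by omega) with hi' | rfl
      · rw [hh2 i hi', mul_zero, sub_zero]
        exact PowerSeries.coeff_of_lt_order i (lt_of_lt_of_le (by exact_mod_cast hi') hd)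
      · rw [hl, div_mul_cancel₀ _ hh1, sub_self]

/-- A subalgebra over which `k[[t]]` is finite has an element of positive order. -/
lemma exists_order_pos (A : Subalgebra k (PowerSeries k)) (hA : Module.Finite ↥A (PowerSeries k)) :
    ∃ (a : PowerSeries k) (e : ℕ), a ∈ A ∧ 0 < e ∧ PowerSeries.order a = e := by
  classical
  by_contra hno
  push_neg at hno
  have hA' : ∀ a ∈ A, a = algebraMap k (PowerSeries k) (PowerSeries.constantCoeff a) := by
    intro a ha
    set b := a - algebraMap k (PowerSeries k) (PowerSeries.constantCoeff a) with hb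
    have hbA : b ∈ A := A.sub_mem ha (A.algebraMap_mem _)
    by_contra hne
    have hb0 : b ≠ 0 := sub_ne_zero.2 hne
    obtain ⟨e, he⟩ := ENat.ne_top_iff_exists.1 ((PowerSeries.order_finite_iff_ne_zero.2 hb0).ne)
    refine hno b e hbA (Nat.pos_of_ne_zero fun h0 => ?_) he.symm
    have := (order_eq_nat he.symm).1
    subst h0
    apply this
    rw [hb, map_sub, PowerSeries.coeff_zero_eq_constantCoeff_apply]
    simp
  obtain ⟨s, hs⟩ := hA.fg_top
  have hfin : Module.Finite k (PowerSeries k) := by
    refine ⟨⟨s, ?_⟩⟩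
    rw [eq_top_iff]
    rintro x -
    have hx : x ∈ Submodule.span ↥A (↑s : Set (PowerSeries k)) := hs ▸ Submodule.mem_top
    induction hx using Submodule.span_induction with
    | mem y hy => exact Submodule.subset_span hy
    | zero => exact Submodule.zero_mem _
    | add y z _ _ hy hz => exact Submodule.add_mem _ hy hz
    | smul a y _ hy =>
      have : a • y = PowerSeries.constantCoeff (a : PowerSeries k) • y := by
        rw [Algebra.smul_def (PowerSeries.constantCoeff (a : PowerSeries k)), ← hA' a a.2]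
        rfl
      rw [this]
      exact Submodule.smul_mem _ _ hy
  have hli : LinearIndependent k (fun n : ℕ => (PowerSeries.X : PowerSeries k) ^ n) := by
    rw [linearIndependent_iff']
    intro t g hg i hi
    have := congrArg (PowerSeries.coeff i) hg
    simpa [PowerSeries.coeff_X_pow, hi] using this
  exact not_finite_iff_infinite.2 inferInstance (hli.finite)

/-- If a submodule contains elements of all orders `≥ c`, it contains all series of order `≥ c`.
(Nakayama, for the finite module `t^c k[[t]]`.) -/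
lemma mem_of_le_order (A : Subalgebra k (PowerSeries k)) (hA : Module.Finite ↥A (PowerSeries k))
    (N : Submodule ↥A (PowerSeries k)) (c : ℕ)
    (hN : ∀ n, c ≤ n → ∃ h ∈ N, PowerSeries.order h = n)
    {f : PowerSeries k} (hf : (c : ℕ∞) ≤ PowerSeries.order f) : f ∈ N := by
  classical
  obtain ⟨a, e, ha, he, hae⟩ := exists_order_pos A hA
  -- `I = t^c k[[t]]`, and its image `Q` modulo `N`
  let I : Submodule ↥A (PowerSeries k) :=
    (Ideal.span {(PowerSeries.X : PowerSeries k) ^ c}).restrictScalars ↥A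
  have hI : ∀ g : PowerSeries k, g ∈ I ↔ (c : ℕ∞) ≤ PowerSeries.order g := by
    intro g
    rw [Submodule.restrictScalars_mem, Ideal.mem_span_singleton, PowerSeries.X_pow_dvd_iff]
    exact ⟨fun h => PowerSeries.nat_le_order _ _ h,
      fun h i hi => PowerSeries.coeff_of_lt_order i (lt_of_lt_of_le (by exact_mod_cast hi) h)⟩
  have hfg : I.FG := by
    have : I = LinearMap.range (LinearMap.mulRight ↥A ((PowerSeries.X : PowerSeries k) ^ c)) := by
      ext g
      simp only [I, Submodule.restrictScalars_mem, Ideal.mem_span_singleton', LinearMap.mem_range,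
        LinearMap.mulRight_apply]
    rw [this, LinearMap.range_eq_map]
    exact hA.fg_top.map _
  set Q := I.map N.mkQ with hQ
  have hQfg : Q.FG := hfg.map _
  have ha0 : a ≠ 0 := by rintro rfl; simp at hae
  obtain ⟨u, hu⟩ : ∃ u : (PowerSeries k)ˣ, a = PowerSeries.X ^ e * (u : PowerSeries k) := by
    refine ⟨(PowerSeries.isUnit_iff_constantCoeff.2 (isUnit_iff_ne_zero.2
      (PowerSeries.constantCoeff_divXPowOrder_eq_zero_iff.not.2 ha0))).unit, ?_⟩
    have := PowerSeries.X_pow_order_mul_divXPowOrder (f := a)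
    rw [hae, ENat.toNat_natCast] at this
    exact this.symm
  have hle : Q ≤ Ideal.span {(⟨a, ha⟩ : ↥A)} • Q := by
    rintro _ ⟨g, hg, rfl⟩
    obtain ⟨v, hv, -, hd⟩ := exists_sub_order_ge (V := N.restrictScalars k) e
      (fun n h1 _ => hN n h1) ((hI g).1 hg)
    obtain ⟨w, hw⟩ : (PowerSeries.X : PowerSeries k) ^ (c + e) ∣ g - v :=
      PowerSeries.X_pow_dvd_iff.2 fun i hi =>
        PowerSeries.coeff_of_lt_order i (lt_of_lt_of_le (by exact_mod_cast hi) hd)
    set z := PowerSeries.X ^ c * ((↑u⁻¹ : PowerSeries k) * w) with hz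
    have hzI : z ∈ I := by
      rw [Submodule.restrictScalars_mem, Ideal.mem_span_singleton]; exact Dvd.intro _ rfl
    have : N.mkQ g = (⟨a, ha⟩ : ↥A) • N.mkQ z := by
      rw [← map_smul, Submodule.mkQ_apply, Submodule.mkQ_apply, Submodule.Quotient.eq]
      have e1 : (⟨a, ha⟩ : ↥A) • z = g - v := by
        change a * z = g - v
        rw [hw, hz, hu, pow_add]
        linear_combination (PowerSeries.X ^ c * PowerSeries.X ^ e * w) * u.mul_inv
      rw [e1, sub_sub_cancel]
      exact hv
    rw [this]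
    exact Submodule.smul_mem_smul (Ideal.mem_span_singleton_self _) (Submodule.mem_map_of_mem hzI)
  obtain ⟨r, hr, hr0⟩ :=
    Submodule.exists_sub_one_mem_and_smul_eq_zero_of_fg_of_le_smul _ Q hQfg hle
  obtain ⟨b, hb⟩ := Ideal.mem_span_singleton'.1 hr
  have hru : IsUnit (r : PowerSeries k) := by
    have h1 : ((b : ↥A) : PowerSeries k) * a = (r : PowerSeries k) - 1 := by
      simpa using congrArg (Subtype.val (p := fun x => x ∈ A)) hb
    rw [PowerSeries.isUnit_iff_constantCoeff]
    have ha0' : PowerSeries.constantCoeff a = 0 := by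
      rw [hu, map_mul, map_pow, PowerSeries.constantCoeff_X, zero_pow he.ne', zero_mul]
    have := congrArg PowerSeries.constantCoeff h1
    rw [map_mul, ha0', mul_zero, map_sub, map_one, eq_comm, sub_eq_zero] at this
    rw [this]; exact isUnit_one
  obtain ⟨w, hw⟩ := hru
  have hgI : (↑w⁻¹ : PowerSeries k) * f ∈ I := by
    rw [hI, PowerSeries.order_mul]
    exact le_add_of_nonneg_of_le zero_le hf
  have h0 := hr0 _ (Submodule.mem_map_of_mem (f := N.mkQ) hgI)
  rw [← map_smul, Submodule.mkQ_apply, Submodule.Quotient.mk_eq_zero] at h0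
  convert h0 using 1
  change f = (r : PowerSeries k) * _
  rw [← hw, Units.mul_inv_cancel_left]

/-- The codimension of a subspace containing all series of large order is the number of gaps of its
value set. -/
lemma finrank_quotient_eq_ncard_gaps (V : Submodule k (PowerSeries k)) (Γ : Set ℕ)
    (hΓ : ∀ n : ℕ, n ∈ Γ ↔ ∃ f ∈ V, PowerSeries.order f = n) (c : ℕ)
    (hc : ∀ f : PowerSeries k, (c : ℕ∞) ≤ PowerSeries.order f → f ∈ V) :
    Γᶜ.Finite ∧ Module.finrank k (PowerSeries k ⧸ V) = Γᶜ.ncard := by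
  classical
  have hfin : Γᶜ.Finite := by
    refine (Set.finite_le_nat c).subset fun n hn => ?_
    simp only [Set.mem_setOf_eq]
    by_contra h
    exact hn ((hΓ n).2 ⟨PowerSeries.X ^ n, hc _ (by
      rw [PowerSeries.order_X_pow]; exact_mod_cast (by omega : c ≤ n)), PowerSeries.order_X_pow n⟩)
  refine ⟨hfin, ?_⟩
  haveI : Fintype ↥(Γᶜ) := hfin.fintype
  let b : ↥(Γᶜ) → PowerSeries k := fun n => PowerSeries.X ^ (n : ℕ)
  let φ : (↥(Γᶜ) → k) →ₗ[k] PowerSeries k := Fintype.linearCombination k b
  have hcoef : ∀ (l : ↥(Γᶜ) → k) (i : ℕ),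
      PowerSeries.coeff i (φ l) = if h : i ∈ Γᶜ then l ⟨i, h⟩ else 0 := by
    intro l i
    simp only [φ, Fintype.linearCombination_apply, map_sum, map_smul, b, PowerSeries.coeff_X_pow,
      smul_eq_mul, mul_ite, mul_one, mul_zero]
    split_ifs with h
    · rw [Finset.sum_eq_single (⟨i, h⟩ : ↥(Γᶜ))]
      · simp
      · intro x _ hx; rw [if_neg]; exact fun e => hx (Subtype.ext e.symm)
      · simp
    · exact Finset.sum_eq_zero fun x _ => if_neg fun e => h (by rw [e]; exact x.2)
  have hinj : Function.Injective (V.mkQ.comp φ) := by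
    rw [← LinearMap.ker_eq_bot, LinearMap.ker_eq_bot']
    intro l hl
    rw [LinearMap.comp_apply, Submodule.mkQ_apply, Submodule.Quotient.mk_eq_zero] at hl
    by_contra hne
    obtain ⟨x, hx⟩ := Function.ne_iff.1 hne
    have hne0 : φ l ≠ 0 := fun h => hx (by
      have := hcoef l x
      rw [h, dif_pos x.2] at this
      simpa using this.symm)
    obtain ⟨n, hn⟩ := ENat.ne_top_iff_exists.1 ((PowerSeries.order_finite_iff_ne_zero.2 hne0).ne)
    have h1 := (order_eq_nat hn.symm).1
    rw [hcoef] at h1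
    split_ifs at h1 with h
    · exact h ((hΓ n).2 ⟨_, hl, hn.symm⟩)
    · exact h1 rfl
  have hsurj : Function.Surjective (V.mkQ.comp φ) := by
    rw [← LinearMap.range_eq_top, eq_top_iff]
    rintro q -
    obtain ⟨f, rfl⟩ := Submodule.Quotient.mk_surjective V q
    have hV : ∀ n : ℕ, ∃ h ∈ V ⊔ LinearMap.range φ, PowerSeries.order h = n := by
      intro n
      by_cases h : n ∈ Γ
      · obtain ⟨g, hg, hgo⟩ := (hΓ n).1 h
        exact ⟨g, Submodule.mem_sup_left hg, hgo⟩
      · exact ⟨PowerSeries.X ^ n, Submodule.mem_sup_right ⟨Pi.single ⟨n, h⟩ 1, by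
          simp only [φ, Fintype.linearCombination_apply_single, b, one_smul]⟩,
          PowerSeries.order_X_pow n⟩
    obtain ⟨v, hv, -, hd⟩ := exists_sub_order_ge (V := V ⊔ LinearMap.range φ) (c := 0) c
      (fun n _ _ => hV n) (f := f) (by simp)
    · rw [Nat.zero_add] at hd
      obtain ⟨v₁, hv₁, _, ⟨l, rfl⟩, rfl⟩ := Submodule.mem_sup.1 hv
      refine ⟨l, ?_⟩
      rw [LinearMap.comp_apply, Submodule.mkQ_apply, Submodule.Quotient.eq]
      have := V.sub_mem (V.neg_mem (hc _ hd)) hv₁
      convert this using 1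
      abel
  rw [← (LinearEquiv.ofBijective _ ⟨hinj, hsurj⟩).finrank_eq, Module.finrank_fintype_fun_eq_card,
    Set.ncard_eq_toFinset_card', Set.toFinset_card]

/-- If every series is carried into `A` by a nonzero element of `A`, then `A` contains a power of
the maximal ideal. -/
lemma exists_conductor (A : Subalgebra k (PowerSeries k)) (hA : Module.Finite ↥A (PowerSeries k))
    (hbir : ∀ f : PowerSeries k, ∃ a ∈ A, a ≠ 0 ∧ a * f ∈ A) :
    ∃ c : ℕ, ∀ f : PowerSeries k, (c : ℕ∞) ≤ PowerSeries.order f → f ∈ A := by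
  classical
  obtain ⟨s, hs⟩ := hA.fg_top
  choose a ha ha0 hamul using hbir
  set d := ∏ x ∈ s, a x with hd
  have hd0 : d ≠ 0 := Finset.prod_ne_zero_iff.2 fun x _ => ha0 x
  have hdf : ∀ f : PowerSeries k, d * f ∈ A := by
    intro f
    have hf : f ∈ Submodule.span ↥A (↑s : Set (PowerSeries k)) := hs ▸ Submodule.mem_top
    induction hf using Submodule.span_induction with
    | mem y hy =>
      rw [hd, ← Finset.mul_prod_erase _ _ hy, mul_comm (a y), mul_assoc]
      exact A.mul_mem (Subalgebra.prod_mem A fun x _ => ha x) (hamul y)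
    | zero => rw [mul_zero]; exact A.zero_mem
    | add y z _ _ hy hz => rw [mul_add]; exact A.add_mem hy hz
    | smul r y _ hy =>
      change d * ((r : PowerSeries k) * y) ∈ A
      rw [mul_left_comm]
      exact A.mul_mem r.2 hy
  obtain ⟨c, hc⟩ := ENat.ne_top_iff_exists.1 ((PowerSeries.order_finite_iff_ne_zero.2 hd0).ne)
  refine ⟨c, fun f hf => ?_⟩
  obtain ⟨u, hu⟩ : IsUnit (PowerSeries.divXPowOrder d) :=
    PowerSeries.isUnit_iff_constantCoeff.2 (isUnit_iff_ne_zero.2
      (PowerSeries.constantCoeff_divXPowOrder_eq_zero_iff.not.2 hd0))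
  obtain ⟨w, hw⟩ : (PowerSeries.X : PowerSeries k) ^ c ∣ f :=
    PowerSeries.X_pow_dvd_iff.2 fun i hi =>
      PowerSeries.coeff_of_lt_order i (lt_of_lt_of_le (by exact_mod_cast hi) hf)
  have := hdf ((↑u⁻¹ : PowerSeries k) * w)
  rwa [show d * ((↑u⁻¹ : PowerSeries k) * w) = f by
    have h1 := PowerSeries.X_pow_order_mul_divXPowOrder (f := d)
    rw [← hc, ENat.toNat_natCast, ← hu] at h1
    rw [hw, ← h1]
    linear_combination (PowerSeries.X ^ c * w) * u.mul_inv] at this

end Groth.Curves2.ValueSet
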