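import Groth.Agent.Curves2.Reflexive
import Groth.Agent.Curves2.ValueSet
import Groth.Agent.CurveConductor.Bounds
import Groth.Agent.Calg8.IntegralDimEq

/-!
The value set of a canonical module of a monomial-type singularity.
-/

universe u

open PowerSeries Module

namespace Groth.Curves2.ValueDual

set_option synthInstance.maxHeartbeats 400000

section Generic

variable {O : Type u} [CommRing O] [IsDomain O] [IsNoetherianRing O] [IsLocalRing O]
  {B : Type u} [CommRing B] [IsDomain B] [Algebra O B]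

/-- For a canonical `O`-module `1 ∈ ω ⊆ B`, the colength of the conductor in `ω` is that of `O`
in `B`. -/
theorem length_quot_cond [Module.Finite O B] (hdim : ringKrullDim O = 1)
    (hinj : Function.Injective (algebraMap O B)) (d : O) (hd0 : d ≠ 0)
    (hd : ∀ b : B, d • b ∈ LinearMap.range (Algebra.linearMap O B)) (ω : Submodule O B)
    (h1ω : (1 : B) ∈ ω) (hW : Groth.Curves2.Canonical.IsCanonical O ↥ω) (P : Submodule O ↥ω)
    (hP : ∀ w : ↥ω, w ∈ P ↔ ∀ b : B, b * (w : B) ∈ LinearMap.range (Algebra.linearMap O B)) :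
    Module.length O (↥ω ⧸ P) = Module.length O (B ⧸ LinearMap.range (Algebra.linearMap O B)) := by
  haveI : Module.IsTorsionFree O B := Module.isTorsionFree_iff_algebraMap_injective.2 hinj
  have hlen : Module.length O (B ⧸ LinearMap.range (Algebra.linearMap O B)) ≠ ⊤ :=
    Groth.Curves2.Lattice.length_ne_top_of_smul_eq_zero hdim hd0 fun t => by
      obtain ⟨x, rfl⟩ := Submodule.Quotient.mk_surjective _ t
      rw [← Submodule.Quotient.mk_smul, Submodule.Quotient.mk_eq_zero]
      exact hd x
  have hd' : algebraMap O B d ≠ 0 := fun h => hd0 (hinj (h.trans (map_zero _).symm))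
  have hOω : ∀ a : O, algebraMap O B a ∈ ω := fun a => by
    rw [Algebra.algebraMap_eq_smul_one]; exact ω.smul_mem a h1ω
  have key : LinearMap.range (Groth.Curves2.Canonical.restr (↥ω) (Algebra.linearMap O B)) =
      P.map (LinearMap.ringLmapEquivSelf O O ↥ω).symm.toLinearMap := by
    ext f
    constructor
    · rintro ⟨g, rfl⟩
      have hg : ∀ b : B, ((g b : ↥ω) : B) = b * ((g 1 : ↥ω) : B) := fun b => by
        obtain ⟨a, ha⟩ := hd b
        change algebraMap O B a = d • b at ha
        refine mul_left_cancel₀ hd' ?_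
        rw [← Algebra.smul_def, ← Algebra.smul_def, ← smul_mul_assoc, ← ha, ← Algebra.smul_def,
          ← Submodule.coe_smul, ← map_smul, ← ha, ← Submodule.coe_smul, ← map_smul,
          Algebra.algebraMap_eq_smul_one]
      refine ⟨g 1, (hP _).2 fun b => ?_, LinearMap.ext_ring ?_⟩
      · let φ : ↥ω →ₗ[O] ↥ω :=
          { toFun := fun w => ⟨b * ((g 1 : ↥ω) : B) * (w : B), by
              rw [mul_right_comm, ← hg (b * w.1)]
              exact (g _).2⟩
            map_add' := fun u v => Subtype.ext (mul_add _ _ _)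
            map_smul' := fun r v => Subtype.ext (mul_smul_comm _ _ _) }
        obtain ⟨a, ha⟩ := Groth.Curves2.Canonical.exists_smul_eq hW hdim φ
        have h1 : b * ((g 1 : ↥ω) : B) * 1 = a • (1 : B) := congrArg Subtype.val (ha ⟨1, h1ω⟩)
        rw [mul_one, ← Algebra.algebraMap_eq_smul_one] at h1
        exact ⟨a, h1.symm⟩
      · simp
    · rintro ⟨w, hw, rfl⟩
      refine ⟨{ toFun := fun b => ⟨(w : B) * b, by
                  obtain ⟨a, ha⟩ := (hP w).1 hw b
                  rw [mul_comm, ← ha]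
                  exact hOω a⟩
                map_add' := fun u v => Subtype.ext (mul_add _ _ _)
                map_smul' := fun r v => Subtype.ext (mul_smul_comm _ _ _) },
        LinearMap.ext_ring (Subtype.ext ?_)⟩
      simp
  exact ((Submodule.Quotient.equiv _ _ (LinearMap.ringLmapEquivSelf O O ↥ω).symm key.symm).length_eq).trans
    (Groth.Curves2.Canonical.length_dco hW hdim _ hinj hlen)

/-- The equality of `k`-dimensions. -/
theorem finrank_quot_cond (k : Type u) [Field k] [Algebra k O] [Algebra k B] [IsScalarTower k O B]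
    (hres : Function.Surjective (fun r : k => IsLocalRing.residue O (algebraMap k O r)))
    [Module.Finite O B] (hdim : ringKrullDim O = 1)
    (hinj : Function.Injective (algebraMap O B)) (d : O) (hd0 : d ≠ 0)
    (hd : ∀ b : B, d • b ∈ LinearMap.range (Algebra.linearMap O B)) (ω : Submodule O B)
    (h1ω : (1 : B) ∈ ω) (hW : Groth.Curves2.Canonical.IsCanonical O ↥ω) (S C : Submodule k B)
    (hS : ∀ x, x ∈ S ↔ x ∈ LinearMap.range (Algebra.linearMap O B))
    (hC : ∀ w ∈ ω, (w ∈ C ↔ ∀ b : B, b * w ∈ S)) [Module.Finite k (B ⧸ S)] :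
    Module.finrank k (↥(ω.restrictScalars k) ⧸ C.comap (ω.restrictScalars k).subtype) =
      Module.finrank k (B ⧸ S) := by
  let P : Submodule O ↥ω :=
    { carrier := {w | ∀ b : B, b * (w : B) ∈ LinearMap.range (Algebra.linearMap O B)}
      add_mem' := fun ha hb b => by rw [Submodule.coe_add, mul_add]; exact add_mem (ha b) (hb b)
      zero_mem' := fun b => by rw [Submodule.coe_zero, mul_zero]; exact zero_mem _
      smul_mem' := fun r w hw b => by
        rw [Submodule.coe_smul, mul_smul_comm]; exact Submodule.smul_mem _ r (hw b) }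
  have hP : ∀ x : ↥(ω.restrictScalars k),
      x ∈ C.comap (ω.restrictScalars k).subtype ↔ x ∈ P.restrictScalars k := fun x =>
    (hC x.1 x.2).trans (forall_congr' fun b => hS _)
  have h1 := length_quot_cond hdim hinj d hd0 hd ω h1ω hW P (fun w => Iff.rfl)
  rw [Groth.CurveConductor.length_eq_finrank_of_residue hres,
    Groth.CurveConductor.length_eq_finrank_of_residue hres] at h1
  have e1 : (↥(ω.restrictScalars k) ⧸ C.comap (ω.restrictScalars k).subtype) ≃ₗ[k] ↥ω ⧸ P :=
    Submodule.quotEquivOfEq _ _ (Submodule.ext hP) ≪≫ₗ Submodule.Quotient.restrictScalarsEquiv k P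
  have e2 : (B ⧸ S) ≃ₗ[k] B ⧸ LinearMap.range (Algebra.linearMap O B) :=
    Submodule.quotEquivOfEq _ _ (Submodule.ext hS :
      S = (LinearMap.range (Algebra.linearMap O B)).restrictScalars k) ≪≫ₗ
      Submodule.Quotient.restrictScalarsEquiv k _
  rw [← e1.length_eq, ← e2.length_eq, Module.length_eq_finrank k (B ⧸ S)] at h1
  haveI : IsNoetherian k (↥(ω.restrictScalars k) ⧸ C.comap (ω.restrictScalars k).subtype) :=
    (isFiniteLength_iff_isNoetherian_isArtinian.1
      (Module.length_ne_top_iff.1 (h1 ▸ ENat.natCast_ne_top _ : Module.length k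
        (↥(ω.restrictScalars k) ⧸ C.comap (ω.restrictScalars k).subtype) ≠ ⊤))).1
  haveI := Module.IsNoetherian.finite k
    (↥(ω.restrictScalars k) ⧸ C.comap (ω.restrictScalars k).subtype)
  rw [Module.length_eq_finrank] at h1
  exact_mod_cast h1

end Generic

variable {k : Type u} [Field k]

/-- Series of order at least `c`. -/
def high (k : Type u) [Field k] (c : ℕ) : Submodule k (PowerSeries k) where
  carrier := {f | (c : ℕ∞) ≤ f.order}
  add_mem' hf hg := le_trans (le_min hf hg) (PowerSeries.min_order_le_order_add _ _)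
  zero_mem' := by simp
  smul_mem' r f hf := PowerSeries.nat_le_order _ _ fun i hi => by
    rw [map_smul, PowerSeries.coeff_of_lt_order i (lt_of_lt_of_le (by exact_mod_cast hi) hf), smul_zero]

lemma mem_high {c : ℕ} {f : PowerSeries k} : f ∈ high k c ↔ (c : ℕ∞) ≤ f.order := Iff.rfl

lemma high_mul_mem {c : ℕ} {f : PowerSeries k} (hf : f ∈ high k c) (g : PowerSeries k) :
    f * g ∈ high k c := by
  rw [mem_high, PowerSeries.order_mul]
  exact le_trans hf le_self_add

variable (A : Subalgebra k (PowerSeries k)) (hA : Module.Finite ↥A (PowerSeries k)) (c : ℕ) (hcA : ∀ f ∈ high k c, f ∈ A)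

include hA in
lemma isLocalHom_val : IsLocalHom (algebraMap ↥A (PowerSeries k)) :=
  RingHom.IsIntegral.isLocalHom (fun x => Algebra.IsIntegral.isIntegral x) Subtype.val_injective

include hA in
lemma isLocalRing : IsLocalRing ↥A :=
  haveI := isLocalHom_val A hA
  RingHom.domain_isLocalRing (algebraMap ↥A (PowerSeries k))

include hA in
lemma residue_surjective [IsLocalRing ↥A] :
    Function.Surjective (fun r : k => IsLocalRing.residue ↥A (algebraMap k ↥A r)) := by
  haveI := isLocalHom_val A hA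
  intro x
  obtain ⟨a, rfl⟩ := IsLocalRing.residue_surjective x
  refine ⟨constantCoeff (a : PowerSeries k), (Ideal.Quotient.eq.2 ?_)⟩
  rw [IsLocalRing.mem_maximalIdeal]
  intro hu
  have h1 := (hu.map (algebraMap ↥A (PowerSeries k)))
  rw [PowerSeries.isUnit_iff_constantCoeff] at h1
  refine h1.ne_zero ?_
  change constantCoeff (algebraMap k (PowerSeries k) (constantCoeff (a : PowerSeries k)) - (a : PowerSeries k)) = 0
  simp

include hA hcA in
lemma isNoetherianRing : IsNoetherianRing ↥A := by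
  rw [isNoetherianRing_iff_ideal_fg]
  intro I
  by_cases hI : I = ⊥
  · exact hI ▸ Submodule.fg_bot
  obtain ⟨f, hfI, hf0⟩ := Submodule.exists_mem_ne_zero_of_ne_bot hI
  have hf0' : (f : PowerSeries k) ≠ 0 := fun h => hf0 (Subtype.ext h)
  obtain ⟨m, hm⟩ := ENat.ne_top_iff_exists.1 ((PowerSeries.order_finite_iff_ne_zero.2 hf0').ne)
  have hX : ∀ b : PowerSeries k, X ^ c * b ∈ high k c := fun b =>
    high_mul_mem (by rw [mem_high, PowerSeries.order_X_pow]) b
  let ψ : PowerSeries k →ₗ[↥A] ↥A :=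
    { toFun := fun b => ⟨X ^ c * b, hcA _ (hX b)⟩ * f
      map_add' := fun a b => Subtype.ext (by
        change X ^ c * (a + b) * (f : PowerSeries k) = X ^ c * a * (f : PowerSeries k) + X ^ c * b * (f : PowerSeries k)
        ring)
      map_smul' := fun r b => Subtype.ext (by
        change X ^ c * ((r : PowerSeries k) * b) * (f : PowerSeries k) = (r : PowerSeries k) * (X ^ c * b * (f : PowerSeries k))
        ring) }
  have hJI : LinearMap.range ψ ≤ I := by
    rintro _ ⟨b, rfl⟩
    exact I.mul_mem_left _ hfI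
  have hJ : (LinearMap.range ψ).FG := by rw [LinearMap.range_eq_map]; exact hA.fg_top.map _
  let L : ↥A →ₗ[k] (Fin (c + m) → k) :=
    (LinearMap.pi fun i : Fin (c + m) => PowerSeries.coeff (i : ℕ)).comp A.val.toLinearMap
  have hker : LinearMap.ker L ≤ (LinearMap.range ψ).restrictScalars k := by
    intro g hg
    obtain ⟨u, hu⟩ : X ^ (c + m) ∣ (g : PowerSeries k) :=
      PowerSeries.X_pow_dvd_iff.2 fun i hi => congrFun (LinearMap.mem_ker.1 hg) ⟨i, hi⟩
    obtain ⟨v, hv⟩ : ∃ v : (PowerSeries k)ˣ, (f : PowerSeries k) = X ^ m * (v : PowerSeries k) := by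
      refine ⟨(PowerSeries.isUnit_iff_constantCoeff.2 (isUnit_iff_ne_zero.2
        (PowerSeries.constantCoeff_divXPowOrder_eq_zero_iff.not.2 hf0'))).unit, ?_⟩
      have := PowerSeries.X_pow_order_mul_divXPowOrder (f := (f : PowerSeries k))
      rw [← hm, ENat.toNat_natCast] at this
      exact this.symm
    refine ⟨u * (↑v⁻¹ : PowerSeries k), Subtype.ext ?_⟩
    change X ^ c * (u * (↑v⁻¹ : PowerSeries k)) * (f : PowerSeries k) = (g : PowerSeries k)
    rw [hu, hv, pow_add]
    linear_combination (X ^ c * X ^ m * u) * v.inv_mul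
  haveI : Module.Finite k (↥A ⧸ LinearMap.ker L) :=
    Module.Finite.equiv L.quotKerEquivRange.symm
  haveI : Module.Finite k (↥A ⧸ LinearMap.range ψ) := by
    haveI : Module.Finite k (↥A ⧸ (LinearMap.range ψ).restrictScalars k) :=
      Module.Finite.of_surjective (Submodule.factor hker) (Submodule.factor_surjective hker)
    exact Module.Finite.equiv (Submodule.Quotient.restrictScalarsEquiv k (LinearMap.range ψ))
  haveI : IsNoetherian k (↥A ⧸ LinearMap.range ψ) := IsNoetherian.iff_fg.2 inferInstance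
  haveI : IsNoetherian ↥A (↥A ⧸ LinearMap.range ψ) := isNoetherian_of_tower k inferInstance
  refine Submodule.fg_of_fg_map_of_fg_inf_ker (LinearMap.range ψ).mkQ (IsNoetherian.noetherian _) ?_
  rw [Submodule.ker_mkQ, inf_eq_right.2 hJI]
  exact hJ

include hA in
lemma ringKrullDim_eq_one : ringKrullDim ↥A = 1 := by
  rw [← Groth.Calg8.ringKrullDim_eq_of_integral ↥A (PowerSeries k) Subtype.val_injective]
  exact IsPrincipalIdealRing.ringKrullDim_eq_one _ (IsDiscreteValuationRing.not_isField _)

/-- The dimensions `ω/t^c` and `k[[t]]/A` agree. -/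
theorem finrank_eq (hA : Module.Finite ↥A (PowerSeries k)) (hcA : ∀ f ∈ high k c, f ∈ A)
    (hcond : ∀ f : PowerSeries k, (∀ g, g * f ∈ A) → (c : ℕ∞) ≤ f.order)
    (ω : Submodule ↥A (PowerSeries k)) (hω1 : (1 : PowerSeries k) ∈ ω) (hωfg : ω.FG)
    (hωinj : CategoryTheory.HasInjectiveDimensionLT (ModuleCat.of ↥A ↥ω) 2) :
    Module.finrank k (↥(ω.restrictScalars k) ⧸ (high k c).comap (ω.restrictScalars k).subtype) =
      Module.finrank k (PowerSeries k ⧸ Subalgebra.toSubmodule A) := by
  haveI := isLocalRing A hA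
  haveI := isNoetherianRing A hA c hcA
  have hdim := ringKrullDim_eq_one A hA
  have hX : ∀ b : PowerSeries k, X ^ c * b ∈ A := fun b =>
    hcA _ (high_mul_mem (by rw [mem_high, PowerSeries.order_X_pow]) b)
  have hAω : ∀ f ∈ A, f ∈ ω := fun f hf => by
    have := ω.smul_mem ⟨f, hf⟩ hω1
    change f * 1 ∈ ω at this
    rwa [mul_one] at this
  have hXne : (X ^ c : PowerSeries k) ≠ 0 := pow_ne_zero _ PowerSeries.X_ne_zero
  have hW : Groth.Curves2.Canonical.IsCanonical ↥A ↥ω := by
    refine ⟨Module.Finite.iff_fg.2 hωfg, ⟨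
      { toFun := fun w => ⟨X ^ c * (w : PowerSeries k), hX _⟩
        map_add' := fun a b => Subtype.ext (mul_add _ _ _)
        map_smul' := fun r b => Subtype.ext (mul_left_comm _ _ _) }, fun a b h => Subtype.ext ?_⟩,
      ⟨⟨1, hω1⟩, 0, fun h => one_ne_zero (α := PowerSeries k) (congrArg Subtype.val h)⟩, hωinj⟩
    exact mul_left_cancel₀ hXne (congrArg Subtype.val h)
  haveI : Module.IsTorsionFree ↥A (PowerSeries k) :=
    Module.isTorsionFree_iff_algebraMap_injective.2 Subtype.val_injective
  let d : ↥A := ⟨X ^ c, by simpa using hX 1⟩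
  haveI : Module.Finite k (PowerSeries k ⧸ Subalgebra.toSubmodule A) := by
    let L : PowerSeries k →ₗ[k] (Fin c → k) := LinearMap.pi fun i : Fin c => PowerSeries.coeff (i : ℕ)
    have hk : LinearMap.ker L ≤ Subalgebra.toSubmodule A := fun x hx => hcA x
      (PowerSeries.nat_le_order _ _ fun j hj => congrFun (LinearMap.mem_ker.1 hx) ⟨j, hj⟩)
    haveI : Module.Finite k (PowerSeries k ⧸ LinearMap.ker L) :=
      Module.Finite.equiv L.quotKerEquivRange.symm
    exact Module.Finite.of_surjective (Submodule.factor hk) (Submodule.factor_surjective hk)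
  exact finrank_quot_cond k (residue_surjective A hA) hdim Subtype.val_injective d
    (fun h => hXne (congrArg Subtype.val h)) (fun b => ⟨⟨_, hX b⟩, rfl⟩) ω hω1 hW
    (Subalgebra.toSubmodule A) (high k c)
    (fun x => ⟨fun hx => ⟨⟨x, hx⟩, rfl⟩, fun ⟨a, ha⟩ => ha ▸ a.2⟩)
    (fun w _ => ⟨fun hw b => hcA _ ((mul_comm w b) ▸ high_mul_mem hw b), fun h => hcond w h⟩)

/-- The value set of a canonical module is the dual of the semigroup. -/
theorem valueSet_eq (hA : Module.Finite ↥A (PowerSeries k)) (Γ : Set ℕ)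
    (hΓ : ∀ n : ℕ, n ∈ Γ ↔ ∃ f ∈ A, PowerSeries.order f = n) (hc : ∀ n : ℕ, c ≤ n → n ∈ Γ)
    (hc0 : c ≠ 0) (hc1 : c - 1 ∉ Γ) (ω : Submodule ↥A (PowerSeries k))
    (hω1 : (1 : PowerSeries k) ∈ ω) (hωfg : ω.FG)
    (hωinj : CategoryTheory.HasInjectiveDimensionLT (ModuleCat.of ↥A ↥ω) 2) (n : ℕ) :
    (∃ f ∈ ω, PowerSeries.order f = n) ↔ (c ≤ n ∨ c - 1 - n ∉ Γ) := by
  classical
  have hN : ∀ x : PowerSeries k, x ∈ (1 : Submodule ↥A (PowerSeries k)) ↔ x ∈ A := fun x => by
    rw [Submodule.mem_one]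
    exact ⟨fun ⟨y, hy⟩ => hy ▸ y.2, fun hx => ⟨⟨x, hx⟩, rfl⟩⟩
  have hcA : ∀ f ∈ high k c, f ∈ A := fun f hf => (hN f).1
    (ValueSet.mem_of_le_order A hA 1 c (fun n hn => by
      obtain ⟨x, hx, hxo⟩ := (hΓ n).1 (hc n hn)
      exact ⟨x, (hN x).2 hx, hxo⟩) hf)
  have hcond : ∀ f : PowerSeries k, (∀ g, g * f ∈ A) → (c : ℕ∞) ≤ f.order := fun f h => by
    by_contra hlt
    obtain ⟨m, hm⟩ := ENat.ne_top_iff_exists.1 (ne_top_of_lt (lt_of_not_ge hlt))
    rw [← hm] at hlt
    have hmc : m < c := by exact_mod_cast lt_of_not_ge hlt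
    refine hc1 ((hΓ _).2 ⟨X ^ (c - 1 - m) * f, h _, ?_⟩)
    rw [PowerSeries.order_mul, PowerSeries.order_X_pow, ← hm, ← Nat.cast_add,
      show c - 1 - m + m = c - 1 by omega]
  haveI := isLocalRing A hA
  haveI := isNoetherianRing A hA c hcA
  have hdim := ringKrullDim_eq_one A hA
  have hAω : ∀ f ∈ A, f ∈ ω := fun f hf => by
    have := ω.smul_mem ⟨f, hf⟩ hω1
    change f * 1 ∈ ω at this
    rwa [mul_one] at this
  -- no element of `ω` has order `c - 1`
  have hXne : (X ^ c : PowerSeries k) ≠ 0 := pow_ne_zero _ PowerSeries.X_ne_zero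
  have hno : ∀ h ∈ ω, h.order ≠ ((c - 1 : ℕ) : ℕ∞) := by
    intro h hh ho
    obtain ⟨hc1', hlow⟩ := ValueSet.order_eq_nat ho
    -- `X^(c-1) ∈ ω`
    set r := PowerSeries.coeff (c - 1) h with hr
    have hdiff : h - r • (X : PowerSeries k) ^ (c - 1) ∈ high k c := by
      refine PowerSeries.nat_le_order _ _ fun i hi => ?_
      rw [map_sub, map_smul, PowerSeries.coeff_X_pow, smul_eq_mul]
      rcases lt_or_eq_of_le (show i ≤ c - 1 by omega) with hi' | rfl
      · rw [if_neg (by omega), hlow i hi', mul_zero, sub_zero]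
      · rw [if_pos rfl, mul_one, sub_self]
    have hXω : (X : PowerSeries k) ^ (c - 1) ∈ ω := by
      have h2 := (ω.restrictScalars k).sub_mem hh (hAω _ (hcA _ hdiff))
      rw [sub_sub_cancel] at h2
      have h3 := (ω.restrictScalars k).smul_mem r⁻¹ h2
      rwa [smul_smul, inv_mul_cancel₀ hc1', one_smul] at h3
    -- so `X^(c-1)` multiplies `k[[t]]` into `ω`
    have hmul : ∀ b : PowerSeries k, X ^ (c - 1) * b ∈ ω := fun b => by
      have h1 : X ^ (c - 1) * b - constantCoeff b • (X : PowerSeries k) ^ (c - 1) ∈ high k c := by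
        refine PowerSeries.nat_le_order _ _ fun i hi => ?_
        rw [map_sub, map_smul, PowerSeries.coeff_X_pow_mul', PowerSeries.coeff_X_pow, smul_eq_mul]
        rcases lt_or_eq_of_le (show i ≤ c - 1 by omega) with hi' | rfl
        · rw [if_neg (by omega), if_neg (by omega), mul_zero, sub_zero]
        · rw [if_pos le_rfl, if_pos rfl, Nat.sub_self, mul_one,
            PowerSeries.coeff_zero_eq_constantCoeff_apply, sub_self]
      have h2 := (ω.restrictScalars k).add_mem (hAω _ (hcA _ h1))
        ((ω.restrictScalars k).smul_mem (constantCoeff b) hXω)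
      rwa [sub_add_cancel] at h2
    have hW : Groth.Curves2.Canonical.IsCanonical ↥A ↥ω := by
      refine ⟨Module.Finite.iff_fg.2 hωfg, ⟨
        { toFun := fun w => ⟨X ^ c * (w : PowerSeries k),
            hcA _ (high_mul_mem (by rw [mem_high, PowerSeries.order_X_pow]) _)⟩
          map_add' := fun a b => Subtype.ext (mul_add _ _ _)
          map_smul' := fun r b => Subtype.ext (mul_left_comm _ _ _) }, fun a b h => Subtype.ext ?_⟩,
        ⟨⟨1, hω1⟩, 0, fun h => one_ne_zero (α := PowerSeries k) (congrArg Subtype.val h)⟩, hωinj⟩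
      exact mul_left_cancel₀ hXne (congrArg Subtype.val h)
    have : ∀ g, g * (X : PowerSeries k) ^ (c - 1) ∈ A := fun g => by
      let φ : ↥ω →ₗ[↥A] ↥ω :=
        { toFun := fun w => ⟨g * X ^ (c - 1) * (w : PowerSeries k), by
            rw [mul_comm g, mul_assoc]; exact hmul _⟩
          map_add' := fun u v => Subtype.ext (mul_add _ _ _)
          map_smul' := fun r v => Subtype.ext (mul_left_comm _ _ _) }
      obtain ⟨a, ha⟩ := Groth.Curves2.Canonical.exists_smul_eq hW hdim φ
      have h1 : g * X ^ (c - 1) * 1 = (a : PowerSeries k) * 1 := congrArg Subtype.val (ha ⟨1, hω1⟩)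
      rw [mul_one, mul_one] at h1
      rw [h1]
      exact a.2
    have := hcond _ this
    rw [PowerSeries.order_X_pow] at this
    have : c ≤ c - 1 := by exact_mod_cast this
    omega
  -- counting
  let V : Set ℕ := {n | ∃ f ∈ ω, PowerSeries.order f = n}
  let T : Finset ℕ := (Finset.range c).filter fun n => c - 1 - n ∈ Γ
  have hsub : (T : Set ℕ) ⊆ Vᶜ := by
    rintro s hs ⟨f, hf, hfs⟩
    rw [Finset.mem_coe, Finset.mem_filter, Finset.mem_range] at hs
    obtain ⟨a, ha, hao⟩ := (hΓ _).1 hs.2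
    refine hno ((⟨a, ha⟩ : ↥A) • f) (ω.smul_mem _ hf) ?_
    change (a * f).order = _
    rw [PowerSeries.order_mul, hao, hfs, ← Nat.cast_add, show c - 1 - s + s = c - 1 by omega]
  obtain ⟨hVfin, hVcard⟩ := ValueSet.finrank_quotient_eq_ncard_gaps (ω.restrictScalars k) V
    (fun m => Iff.rfl) c (fun f hf => hAω _ (hcA _ hf))
  obtain ⟨hΓfin, hΓcard⟩ := ValueSet.finrank_quotient_eq_ncard_gaps (Subalgebra.toSubmodule A) Γ
    hΓ c hcA
  obtain ⟨hcfin, hccard⟩ := ValueSet.finrank_quotient_eq_ncard_gaps (high k c) (Set.Ici c)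
    (fun m => ⟨fun hm => ⟨X ^ m, by rw [mem_high, PowerSeries.order_X_pow]; exact_mod_cast hm,
        PowerSeries.order_X_pow m⟩,
      fun ⟨f, hf, hfm⟩ => by rw [mem_high, hfm] at hf; exact_mod_cast hf⟩) c (fun f hf => hf)
  rw [Set.compl_Ici, Set.ncard_Iio_nat] at hccard
  haveI : Module.Finite k (PowerSeries k ⧸ high k c) :=
    Module.finite_of_finrank_pos (by rw [hccard]; omega)
  let W' := (ω.restrictScalars k).map (high k c).mkQ
  have h1 := W'.finrank_quotient_add_finrank
  have e1 : ((PowerSeries k ⧸ high k c) ⧸ W') ≃ₗ[k] PowerSeries k ⧸ ω.restrictScalars k :=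
    Submodule.quotientQuotientEquivQuotient (high k c) _ fun f hf => hAω _ (hcA _ hf)
  have e2 : ↥W' ≃ₗ[k] ↥(ω.restrictScalars k) ⧸ (high k c).comap (ω.restrictScalars k).subtype :=
    LinearEquiv.ofEq W' (LinearMap.range ((high k c).mkQ.comp (ω.restrictScalars k).subtype))
        (by rw [LinearMap.range_comp, Submodule.range_subtype]) ≪≫ₗ
      ((high k c).mkQ.comp (ω.restrictScalars k).subtype).quotKerEquivRange.symm ≪≫ₗ
      Submodule.quotEquivOfEq _ _ (by rw [LinearMap.ker_comp, Submodule.ker_mkQ])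
  rw [e1.finrank_eq, e2.finrank_eq, finrank_eq A c hA hcA hcond ω hω1 hωfg hωinj, hVcard, hΓcard,
    hccard] at h1
  have hTcard : T.card + Γᶜ.ncard = c := by
    have hT : T = ((Finset.range c).filter (· ∈ Γ)).image fun m => c - 1 - m := by
      ext s
      simp only [T, Finset.mem_filter, Finset.mem_range, Finset.mem_image]
      exact ⟨fun h => ⟨c - 1 - s, ⟨by omega, h.2⟩, by omega⟩, fun ⟨m, ⟨hm, hmΓ⟩, e⟩ => by
        subst e; exact ⟨by omega, by rwa [show c - 1 - (c - 1 - m) = m by omega]⟩⟩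
    have hG : Γᶜ = (((Finset.range c).filter fun m => m ∉ Γ) : Set ℕ) := by
      ext m
      simp only [Finset.coe_filter, Finset.mem_range, Set.mem_compl_iff, Set.mem_setOf_eq]
      exact ⟨fun h => ⟨by by_contra h'; exact h (hc m (not_lt.1 h')), h⟩, fun h => h.2⟩
    rw [hT, hG, Set.ncard_coe_finset, Finset.card_image_of_injOn, Finset.card_filter_add_card_filter_not,
      Finset.card_range]
    intro a ha b hb e
    simp only [Finset.coe_filter, Finset.mem_range, Set.mem_setOf_eq] at ha hb
    dsimp only at e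
    omega
  have hVT : Vᶜ = (T : Set ℕ) :=
    (Set.eq_of_subset_of_ncard_le hsub (by rw [Set.ncard_coe_finset]; omega) hVfin).symm
  have := Set.ext_iff.1 hVT n
  rw [Finset.mem_coe, Finset.mem_filter, Finset.mem_range, Set.mem_compl_iff] at this
  change n ∈ V ↔ _
  constructor
  · intro hn
    by_contra hcon
    push Not at hcon
    exact this.2 hcon hn
  · intro h
    by_contra hn
    obtain ⟨h1', h2'⟩ := this.1 hn
    rcases h with h | h
    · omega
    · exact h h2'

end Groth.Curves2.ValueDual
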