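import Groth.Agent.Curves2.ValueDual

/-!
The value set of the dual of a lattice containing `1`.
-/

universe u

open PowerSeries Module

namespace Groth.Curves2.ValueDualLattice

section Generic

variable {O : Type u} [CommRing O] [IsDomain O] [IsNoetherianRing O] [IsLocalRing O]
  {B : Type u} [CommRing B] [IsDomain B] [Algebra O B]

/-- The `ω`-dual of a submodule, inside the ring. -/
def dual (ω M : Submodule O B) : Submodule O B where
  carrier := {u | ∀ m ∈ M, u * m ∈ ω}
  add_mem' ha hb m hm := by rw [add_mul]; exact add_mem (ha m hm) (hb m hm)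
  zero_mem' m _ := by rw [zero_mul]; exact zero_mem _
  smul_mem' r u hu m hm := by rw [smul_mul_assoc]; exact Submodule.smul_mem _ r (hu m hm)

omit [IsDomain O] [IsNoetherianRing O] [IsLocalRing O] [IsDomain B] in
lemma mem_dual {ω M : Submodule O B} {u : B} : u ∈ dual ω M ↔ ∀ m ∈ M, u * m ∈ ω := Iff.rfl

/-- The colength of the conductor in the dual of `M` is the colength of `M`. -/
theorem length_dual_cond [Module.Finite O B] (hdim : ringKrullDim O = 1)
    (hinj : Function.Injective (algebraMap O B)) (d : O) (hd0 : d ≠ 0)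
    (hd : ∀ b : B, d • b ∈ LinearMap.range (Algebra.linearMap O B)) (ω : Submodule O B)
    (h1ω : (1 : B) ∈ ω) (hW : Groth.Curves2.Canonical.IsCanonical O ↥ω) (M : Submodule O B)
    (h1M : (1 : B) ∈ M) (P : Submodule O ↥(dual ω M))
    (hP : ∀ u : ↥(dual ω M), u ∈ P ↔
      ∀ b : B, b * (u : B) ∈ LinearMap.range (Algebra.linearMap O B)) :
    Module.length O (↥(dual ω M) ⧸ P) = Module.length O (B ⧸ M) := by
  haveI : Module.IsTorsionFree O B := Module.isTorsionFree_iff_algebraMap_injective.2 hinj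
  have hOM : ∀ a : O, algebraMap O B a ∈ M := fun a => by
    rw [Algebra.algebraMap_eq_smul_one]; exact M.smul_mem a h1M
  have hOω : ∀ a : O, algebraMap O B a ∈ ω := fun a => by
    rw [Algebra.algebraMap_eq_smul_one]; exact ω.smul_mem a h1ω
  have hlen : Module.length O (B ⧸ LinearMap.range M.subtype) ≠ ⊤ :=
    Groth.Curves2.Lattice.length_ne_top_of_smul_eq_zero hdim hd0 fun t => by
      obtain ⟨x, rfl⟩ := Submodule.Quotient.mk_surjective _ t
      rw [← Submodule.Quotient.mk_smul, Submodule.Quotient.mk_eq_zero, Submodule.range_subtype]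
      obtain ⟨a, ha⟩ := hd x
      exact ha ▸ hOM a
  have hd' : algebraMap O B d ≠ 0 := fun h => hd0 (hinj (h.trans (map_zero _).symm))
  let one : ↥M := ⟨1, h1M⟩
  have hg : ∀ (g : ↥M →ₗ[O] ↥ω) (m : ↥M),
      ((g m : ↥ω) : B) = (m : B) * ((g one : ↥ω) : B) := fun g m => by
    obtain ⟨a, ha⟩ := hd (m : B)
    change algebraMap O B a = d • (m : B) at ha
    have e : d • m = a • one := Subtype.ext (by
      change d • (m : B) = a • (1 : B)
      rw [← ha, Algebra.algebraMap_eq_smul_one])
    refine mul_left_cancel₀ hd' ?_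
    rw [← Algebra.smul_def, ← Algebra.smul_def, ← Submodule.coe_smul, ← map_smul, e, map_smul,
      Submodule.coe_smul, ← smul_mul_assoc, ← ha, ← Algebra.smul_def]
  let Ψ : (↥M →ₗ[O] ↥ω) ≃ₗ[O] ↥(dual ω M) :=
    { toFun := fun g => ⟨(g one : B), fun m hm => by
        rw [mul_comm, ← hg g ⟨m, hm⟩]; exact (g _).2⟩
      invFun := fun u =>
        { toFun := fun m => ⟨(m : B) * (u : B), by rw [mul_comm]; exact u.2 _ m.2⟩
          map_add' := fun x y => Subtype.ext (add_mul _ _ _)
          map_smul' := fun r x => Subtype.ext (smul_mul_assoc _ _ _) }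
      left_inv := fun g => LinearMap.ext fun m => Subtype.ext (hg g m).symm
      right_inv := fun u => Subtype.ext (one_mul _)
      map_add' := fun _ _ => rfl
      map_smul' := fun _ _ => rfl }
  have key : (LinearMap.range (Groth.Curves2.Canonical.restr (↥ω) M.subtype)).map Ψ.toLinearMap = P := by
    ext u
    constructor
    · rintro ⟨_, ⟨g, rfl⟩, rfl⟩
      refine (hP _).2 fun b => ?_
      have hgB : ∀ x : B, ((g x : ↥ω) : B) = x * ((g 1 : ↥ω) : B) := fun x => by
        obtain ⟨a, ha⟩ := hd x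
        change algebraMap O B a = d • x at ha
        refine mul_left_cancel₀ hd' ?_
        rw [← Algebra.smul_def, ← Algebra.smul_def, ← smul_mul_assoc, ← ha, ← Algebra.smul_def,
          ← Submodule.coe_smul, ← map_smul, ← ha, ← Submodule.coe_smul, ← map_smul,
          Algebra.algebraMap_eq_smul_one]
      let φ : ↥ω →ₗ[O] ↥ω :=
        { toFun := fun w => ⟨b * ((g 1 : ↥ω) : B) * (w : B), by
            rw [mul_right_comm, ← hgB (b * w.1)]
            exact (g _).2⟩
          map_add' := fun u v => Subtype.ext (mul_add _ _ _)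
          map_smul' := fun r v => Subtype.ext (mul_smul_comm _ _ _) }
      obtain ⟨a, ha⟩ := Groth.Curves2.Canonical.exists_smul_eq hW hdim φ
      have h1 : b * ((g 1 : ↥ω) : B) * 1 = a • (1 : B) := congrArg Subtype.val (ha ⟨1, h1ω⟩)
      rw [mul_one, ← Algebra.algebraMap_eq_smul_one] at h1
      exact ⟨a, h1.symm⟩
    · intro hu
      refine ⟨_, ⟨{ toFun := fun b => ⟨b * (u : B), by
                      obtain ⟨a, ha⟩ := (hP u).1 hu b
                      exact ha ▸ hOω a⟩
                    map_add' := fun x y => Subtype.ext (add_mul _ _ _)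
                    map_smul' := fun r x => Subtype.ext (smul_mul_assoc _ _ _) }, rfl⟩, ?_⟩
      exact Subtype.ext (one_mul _)
  calc Module.length O (↥(dual ω M) ⧸ P)
      = Module.length O (Groth.Curves2.Canonical.Dco (↥ω) M.subtype) :=
        (Submodule.Quotient.equiv _ _ Ψ key).length_eq.symm
    _ = Module.length O (B ⧸ LinearMap.range M.subtype) :=
        Groth.Curves2.Canonical.length_dco hW hdim _ M.injective_subtype hlen
    _ = Module.length O (B ⧸ M) := (Submodule.quotEquivOfEq _ _ M.range_subtype).length_eq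

/-- The same equality for `k`-dimensions. -/
theorem finrank_dual_cond (k : Type u) [Field k] [Algebra k O] [Algebra k B] [IsScalarTower k O B]
    (hres : Function.Surjective (fun r : k => IsLocalRing.residue O (algebraMap k O r)))
    [Module.Finite O B] (hdim : ringKrullDim O = 1)
    (hinj : Function.Injective (algebraMap O B)) (d : O) (hd0 : d ≠ 0)
    (hd : ∀ b : B, d • b ∈ LinearMap.range (Algebra.linearMap O B)) (ω : Submodule O B)
    (h1ω : (1 : B) ∈ ω) (hW : Groth.Curves2.Canonical.IsCanonical O ↥ω) (M : Submodule O B)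
    (h1M : (1 : B) ∈ M) (D C : Submodule k B) (hD : ∀ u, u ∈ D ↔ ∀ m ∈ M, u * m ∈ ω)
    (hC : ∀ w ∈ D, (w ∈ C ↔ ∀ b : B, b * w ∈ LinearMap.range (Algebra.linearMap O B)))
    [Module.Finite k (B ⧸ M.restrictScalars k)] :
    Module.finrank k (↥D ⧸ C.comap D.subtype) = Module.finrank k (B ⧸ M.restrictScalars k) := by
  obtain rfl : D = (dual ω M).restrictScalars k := Submodule.ext hD
  let P : Submodule O ↥(dual ω M) :=
    { carrier := {w | ∀ b : B, b * (w : B) ∈ LinearMap.range (Algebra.linearMap O B)}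
      add_mem' := fun ha hb b => by rw [Submodule.coe_add, mul_add]; exact add_mem (ha b) (hb b)
      zero_mem' := fun b => by rw [Submodule.coe_zero, mul_zero]; exact zero_mem _
      smul_mem' := fun r w hw b => by
        rw [Submodule.coe_smul, mul_smul_comm]; exact Submodule.smul_mem _ r (hw b) }
  have hP : ∀ x : ↥((dual ω M).restrictScalars k),
      x ∈ C.comap ((dual ω M).restrictScalars k).subtype ↔ x ∈ P.restrictScalars k := fun x =>
    hC x.1 x.2
  have h1 := length_dual_cond hdim hinj d hd0 hd ω h1ω hW M h1M P (fun w => Iff.rfl)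
  rw [Groth.CurveConductor.length_eq_finrank_of_residue hres,
    Groth.CurveConductor.length_eq_finrank_of_residue hres] at h1
  have e1 : (↥((dual ω M).restrictScalars k) ⧸ C.comap ((dual ω M).restrictScalars k).subtype)
      ≃ₗ[k] ↥(dual ω M) ⧸ P :=
    Submodule.quotEquivOfEq _ _ (Submodule.ext hP) ≪≫ₗ Submodule.Quotient.restrictScalarsEquiv k P
  have e2 : (B ⧸ M.restrictScalars k) ≃ₗ[k] B ⧸ M := Submodule.Quotient.restrictScalarsEquiv k M
  rw [← e1.length_eq, ← e2.length_eq, Module.length_eq_finrank k (B ⧸ M.restrictScalars k)] at h1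
  haveI : IsNoetherian k
      (↥((dual ω M).restrictScalars k) ⧸ C.comap ((dual ω M).restrictScalars k).subtype) :=
    (isFiniteLength_iff_isNoetherian_isArtinian.1
      (Module.length_ne_top_iff.1 (h1 ▸ ENat.natCast_ne_top _ : Module.length k
        (↥((dual ω M).restrictScalars k) ⧸ C.comap ((dual ω M).restrictScalars k).subtype) ≠ ⊤))).1
  haveI := Module.IsNoetherian.finite k
    (↥((dual ω M).restrictScalars k) ⧸ C.comap ((dual ω M).restrictScalars k).subtype)
  rw [Module.length_eq_finrank] at h1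
  exact_mod_cast h1

end Generic

variable {k : Type u} [Field k] (A : Subalgebra k (PowerSeries k))

open Groth.Curves2.ValueDual

/-- The value set of `{u | u M ⊆ ω}` is dual to the value set of `M`. -/
theorem valueSet_dual_eq (hA : Module.Finite ↥A (PowerSeries k)) (c : ℕ) (Γ : Set ℕ)
    (hΓ : ∀ n : ℕ, n ∈ Γ ↔ ∃ f ∈ A, PowerSeries.order f = n) (hc : ∀ n : ℕ, c ≤ n → n ∈ Γ)
    (hc0 : c ≠ 0) (hc1 : c - 1 ∉ Γ) (ω : Submodule ↥A (PowerSeries k))
    (hω1 : (1 : PowerSeries k) ∈ ω) (hωfg : ω.FG)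
    (hωinj : CategoryTheory.HasInjectiveDimensionLT (ModuleCat.of ↥A ↥ω) 2)
    (M : Submodule ↥A (PowerSeries k)) (hM1 : (1 : PowerSeries k) ∈ M) (n : ℕ) :
    (∃ u : PowerSeries k, PowerSeries.order u = n ∧ ∀ m ∈ M, u * m ∈ ω) ↔
      (c ≤ n ∨ ¬ ∃ m ∈ M, PowerSeries.order m = ((c - 1 - n : ℕ) : ℕ∞)) := by
  classical
  have hN : ∀ x : PowerSeries k, x ∈ (1 : Submodule ↥A (PowerSeries k)) ↔ x ∈ A := fun x => by
    rw [Submodule.mem_one]
    exact ⟨fun ⟨y, hy⟩ => hy ▸ y.2, fun hx => ⟨⟨x, hx⟩, rfl⟩⟩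
  have hcA : ∀ f ∈ high k c, f ∈ A := fun f hf => (hN f).1
    (ValueSet.mem_of_le_order A hA 1 c (fun n hn => by
      obtain ⟨x, hx, hxo⟩ := (hΓ n).1 (hc n hn)
      exact ⟨x, (hN x).2 hx, hxo⟩) hf)
  have hcond : ∀ f : PowerSeries k, (∀ g, g * f ∈ A) → f ∈ high k c := fun f h => by
    by_contra hlt
    obtain ⟨m, hm⟩ := ENat.ne_top_iff_exists.1 (ne_top_of_lt (lt_of_not_ge hlt))
    rw [mem_high, ← hm] at hlt
    have hmc : m < c := by exact_mod_cast lt_of_not_ge hlt
    refine hc1 ((hΓ _).2 ⟨X ^ (c - 1 - m) * f, h _, ?_⟩)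
    rw [PowerSeries.order_mul, PowerSeries.order_X_pow, ← hm, ← Nat.cast_add,
      show c - 1 - m + m = c - 1 by omega]
  have hAω : ∀ f ∈ A, f ∈ ω := fun f hf => by
    have := ω.smul_mem ⟨f, hf⟩ hω1
    change f * 1 ∈ ω at this
    rwa [mul_one] at this
  have hAM : ∀ f ∈ A, f ∈ M := fun f hf => by
    have := M.smul_mem ⟨f, hf⟩ hM1
    change f * 1 ∈ M at this
    rwa [mul_one] at this
  have hno : ∀ h ∈ ω, h.order ≠ ((c - 1 : ℕ) : ℕ∞) := fun h hh ho => by
    rcases (valueSet_eq A c hA Γ hΓ hc hc0 hc1 ω hω1 hωfg hωinj (c - 1)).1 ⟨h, hh, ho⟩ with h' | h'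
    · omega
    · exact h' ((hΓ _).2 ⟨1, A.one_mem, by simp⟩)
  haveI := isLocalRing A hA
  haveI := isNoetherianRing A hA c hcA
  have hdim := ringKrullDim_eq_one A hA
  have hX : ∀ b : PowerSeries k, X ^ c * b ∈ A := fun b =>
    hcA _ (high_mul_mem (by rw [mem_high, PowerSeries.order_X_pow]) b)
  have hXne : (X ^ c : PowerSeries k) ≠ 0 := pow_ne_zero _ PowerSeries.X_ne_zero
  have hW : Groth.Curves2.Canonical.IsCanonical ↥A ↥ω := by
    refine ⟨Module.Finite.iff_fg.2 hωfg, ⟨
      { toFun := fun w => ⟨X ^ c * (w : PowerSeries k), hX _⟩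
        map_add' := fun a b => Subtype.ext (mul_add _ _ _)
        map_smul' := fun r b => Subtype.ext (mul_left_comm _ _ _) }, fun a b h => Subtype.ext ?_⟩,
      ⟨⟨1, hω1⟩, 0, fun h => one_ne_zero (α := PowerSeries k) (congrArg Subtype.val h)⟩, hωinj⟩
    exact mul_left_cancel₀ hXne (congrArg Subtype.val h)
  let D : Submodule k (PowerSeries k) := (dual ω M).restrictScalars k
  have hCD : high k c ≤ D := fun f hf => mem_dual.2 fun m _ => hAω _ (hcA _ (high_mul_mem hf m))
  let U : Set ℕ := {s | ∃ u ∈ D, PowerSeries.order u = s}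
  let V : Set ℕ := {s | ∃ m ∈ M.restrictScalars k, PowerSeries.order m = s}
  obtain ⟨hUfin, hUcard⟩ := ValueSet.finrank_quotient_eq_ncard_gaps D U
    (fun m => Iff.rfl) c (fun f hf => hCD hf)
  obtain ⟨hVfin, hVcard⟩ := ValueSet.finrank_quotient_eq_ncard_gaps (M.restrictScalars k) V
    (fun m => Iff.rfl) c (fun f hf => hAM _ (hcA _ hf))
  obtain ⟨hcfin, hccard⟩ := ValueSet.finrank_quotient_eq_ncard_gaps (high k c) (Set.Ici c)
    (fun m => ⟨fun hm => ⟨X ^ m, by rw [mem_high, PowerSeries.order_X_pow]; exact_mod_cast hm,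
        PowerSeries.order_X_pow m⟩,
      fun ⟨f, hf, hfm⟩ => by rw [mem_high, hfm] at hf; exact_mod_cast hf⟩) c (fun f hf => hf)
  rw [Set.compl_Ici, Set.ncard_Iio_nat] at hccard
  haveI : Module.Finite k (PowerSeries k ⧸ high k c) :=
    Module.finite_of_finrank_pos (by rw [hccard]; omega)
  haveI : Module.Finite k (PowerSeries k ⧸ M.restrictScalars k) :=
    Module.Finite.of_surjective
      (Submodule.factor (fun f hf => hAM _ (hcA _ hf) : high k c ≤ M.restrictScalars k))
      (Submodule.factor_surjective _)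
  have hkey : Module.finrank k (↥D ⧸ (high k c).comap D.subtype) =
      Module.finrank k (PowerSeries k ⧸ M.restrictScalars k) :=
    finrank_dual_cond k (ValueDual.residue_surjective A hA) hdim Subtype.val_injective
      ⟨X ^ c, by simpa using hX 1⟩ (fun h => hXne (congrArg Subtype.val h))
      (fun b => ⟨⟨_, hX b⟩, rfl⟩) ω hω1 hW M hM1 D (high k c) (fun u => Iff.rfl)
      (fun w _ => ⟨fun hw b => ⟨⟨b * w, hcA _ ((mul_comm w b) ▸ high_mul_mem hw b)⟩, rfl⟩,
        fun h => hcond w fun b => by obtain ⟨a, ha⟩ := h b; exact ha ▸ a.2⟩)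
  let W' := D.map (high k c).mkQ
  have h1 := W'.finrank_quotient_add_finrank
  have e1 : ((PowerSeries k ⧸ high k c) ⧸ W') ≃ₗ[k] PowerSeries k ⧸ D :=
    Submodule.quotientQuotientEquivQuotient (high k c) _ hCD
  have e2 : ↥W' ≃ₗ[k] ↥D ⧸ (high k c).comap D.subtype :=
    LinearEquiv.ofEq W' (LinearMap.range ((high k c).mkQ.comp D.subtype))
        (by rw [LinearMap.range_comp, Submodule.range_subtype]) ≪≫ₗ
      ((high k c).mkQ.comp D.subtype).quotKerEquivRange.symm ≪≫ₗ
      Submodule.quotEquivOfEq _ _ (by rw [LinearMap.ker_comp, Submodule.ker_mkQ])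
  rw [e1.finrank_eq, e2.finrank_eq, hkey, hUcard, hVcard, hccard] at h1
  let T : Finset ℕ := (Finset.range c).filter fun s => c - 1 - s ∈ V
  have hsub : (T : Set ℕ) ⊆ Uᶜ := by
    rintro s hs ⟨u, hu, hus⟩
    rw [Finset.mem_coe, Finset.mem_filter, Finset.mem_range] at hs
    obtain ⟨m, hm, hmo⟩ := hs.2
    refine hno _ (mem_dual.1 hu m hm) ?_
    rw [PowerSeries.order_mul, hmo, hus, ← Nat.cast_add, show s + (c - 1 - s) = c - 1 by omega]
  have hVc : ∀ m, c ≤ m → m ∈ V := fun m hm => by
    obtain ⟨x, hx, hxo⟩ := (hΓ m).1 (hc m hm)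
    exact ⟨x, hAM x hx, hxo⟩
  have hTcard : T.card + Vᶜ.ncard = c := by
    have hT : T = ((Finset.range c).filter (· ∈ V)).image fun m => c - 1 - m := by
      ext s
      simp only [T, Finset.mem_filter, Finset.mem_range, Finset.mem_image]
      exact ⟨fun h => ⟨c - 1 - s, ⟨by omega, h.2⟩, by omega⟩, fun ⟨m, ⟨hm, hmV⟩, e⟩ => by
        subst e; exact ⟨by omega, by rwa [show c - 1 - (c - 1 - m) = m by omega]⟩⟩
    have hG : Vᶜ = (((Finset.range c).filter fun m => m ∉ V) : Set ℕ) := by
      ext m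
      simp only [Finset.coe_filter, Finset.mem_range, Set.mem_compl_iff, Set.mem_setOf_eq]
      exact ⟨fun h => ⟨by by_contra h'; exact h (hVc m (not_lt.1 h')), h⟩, fun h => h.2⟩
    rw [hT, hG, Set.ncard_coe_finset, Finset.card_image_of_injOn,
      Finset.card_filter_add_card_filter_not, Finset.card_range]
    intro a ha b hb e
    simp only [Finset.coe_filter, Finset.mem_range, Set.mem_setOf_eq] at ha hb
    dsimp only at e
    omega
  have hUT : Uᶜ = (T : Set ℕ) :=
    (Set.eq_of_subset_of_ncard_le hsub (by rw [Set.ncard_coe_finset]; omega) hUfin).symm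
  have := Set.ext_iff.1 hUT n
  rw [Finset.mem_coe, Finset.mem_filter, Finset.mem_range, Set.mem_compl_iff] at this
  constructor
  · rintro ⟨u, huo, hu⟩
    by_contra hcon
    push Not at hcon
    exact this.2 ⟨hcon.1, hcon.2⟩ ⟨u, mem_dual.2 hu, huo⟩
  · intro h
    by_contra hn
    obtain ⟨h1', h2'⟩ := this.1 fun ⟨u, hu, huo⟩ => hn ⟨u, huo, mem_dual.1 hu⟩
    rcases h with h | h
    · omega
    · exact h h2'

end Groth.Curves2.ValueDualLattice
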